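import Cfsg.Agent.Lib.Compute.IndDefs
import Cfsg.Agent.Lib.SchurMult.Induced
import Cfsg.Agent.Lib.Schur.Cover
import Mathlib.GroupTheory.OrderOfElement
import Mathlib.GroupTheory.Index
import Mathlib.Algebra.BigOperators.Fin

/-!
Soundness of the induced extension checks: a central extension of the coded group with a kernel element
of the stated order inside the commutator subgroup.
-/

set_option autoImplicit false
set_option maxHeartbeats 1000000

namespace Cfsg.Agent.PermInd

open Cfsg.Agent.PermCert Cfsg.Agent.SchurMult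
open scoped IsMulCommutative

variable {w n : ℕ} {gens : List Elt} {derived : List (Elt × List ℕ)} {levels : List CLevel} {d : IndData}

/-- Pairs agreeing on the block that carries the subgroup. -/
def compat (n k d₀ : ℕ) : Subgroup (Equiv.Perm (Fin k) × Equiv.Perm (Fin n)) where
  carrier := {p | ∀ (x : Fin n) (y : Fin k), (y : ℕ) = d₀ + x → (p.1 y : ℕ) = d₀ + p.2 x}
  one_mem' x y h := by simpa using h
  mul_mem' {p q} hp hq x y h := by
    simpa using hp (q.2 x) (q.1 y) (hq x y h)
  inv_mem' {p} hp x y h := by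
    have hex : ∀ (x : Fin n) (hx : d₀ + (x : ℕ) < k), ((p.1 ⟨d₀ + x, hx⟩ : Fin k) : ℕ) = d₀ + p.2 x :=
      fun x hx => hp x ⟨d₀ + x, hx⟩ rfl
    by_cases hk : d₀ + (p.2⁻¹ x : ℕ) < k
    · have e := hp (p.2⁻¹ x) ⟨_, hk⟩ rfl
      rw [show p.2 (p.2⁻¹ x) = x from p.2.apply_symm_apply x, ← h] at e
      have e' : p.1 ⟨_, hk⟩ = y := Fin.ext e
      show ((p.1⁻¹ y : Fin k) : ℕ) = d₀ + (p.2⁻¹ x : Fin n)
      rw [← e', show p.1⁻¹ (p.1 ⟨_, hk⟩) = ⟨_, hk⟩ from p.1.symm_apply_apply _]
    · exfalso
      -- the orbit of `x` under the second component stays inside the range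
      have hall : ∀ m : ℕ, d₀ + ((p.2 ^ m) x : ℕ) < k := by
        intro m
        induction m with
        | zero => simpa [← h] using y.2
        | succ m ih =>
          rw [pow_succ', Equiv.Perm.mul_apply]
          rw [← hex _ ih]
          exact (p.1 _).2
      have hfin : p.2⁻¹ = p.2 ^ (orderOf p.2 - 1) := by
        rw [inv_eq_iff_mul_eq_one, ← pow_succ', Nat.sub_add_cancel (orderOf_pos p.2), pow_orderOf_eq_one]
      exact hk (hfin ▸ hall _)

/-- The extension of the subgroup as a group of pairs. -/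
noncomputable def pairGroup (w n : ℕ) (d : IndData) :
    Subgroup (Equiv.Perm (Fin d.nE) × Equiv.Perm (Fin n)) :=
  Subgroup.closure {p | p ∈ List.ofFn fun k : Fin d.eGens.length =>
    (toPerm d.wE d.nE (d.eGens.getD k (0, 0)), toPerm w n (d.uGens.getD k (0, 0)))}

theorem getD_mem' {α : Type*} {l : List α} {i : ℕ} (h : i < l.length) (a : α) : l.getD i a ∈ l := by
  rw [List.getD_eq_getElem _ _ h]; exact List.getElem_mem h

theorem ofFn_getD {α β : Type*} (l : List α) (a : α) (f : α → β) :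
    (List.ofFn fun k : Fin l.length => f (l.getD k a)) = l.map f := by
  refine List.ext_getElem (by simp) fun i h1 h2 => ?_
  simp at h2
  simp [List.getElem?_eq_getElem h2]

theorem image_ofFn {α β : Type*} {k : ℕ} (f : α → β) (g : Fin k → α) :
    f '' {x | x ∈ List.ofFn g} = {y | y ∈ List.ofFn fun i => f (g i)} := by
  ext y
  simp

theorem fwd_inj {k : ℕ} {σ τ : Equiv.Perm (Fin k)} (h : ∀ i, (σ i : ℕ) = τ i) : σ = τ :=
  Equiv.ext fun i => Fin.ext (h i)

theorem witSum_eq (d : IndData) (T : IndTest) : ∀ m, witSum d T m =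
    (∑ i ∈ Finset.range m, getC T.wit i % d.q, ∑ i ∈ Finset.range m, getC T.wit i / d.q)
  | 0 => rfl
  | m + 1 => by rw [witSum, witSum_eq d T m, Finset.sum_range_succ, Finset.sum_range_succ]

variable [NeZero n]

/-- **The induced extension.** -/
theorem exists_extension (hc : checkCert w n gens derived levels = true)
    (hb : baseOK w n gens levels d = true) (hcos : ∀ i < d.m, cosetOK w n gens d i = true)
    (hwit : ∀ T ∈ d.tests, ∀ i < d.m, witOK d T i = true)
    (hwords : ∀ T ∈ d.tests, wordsOK w n gens d T = true) (hspan : spanOK d = true) :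
    ∃ (X : Type) (_ : Group X) (σ : X →* genGroup w n gens), Function.Surjective σ ∧
      σ.ker ≤ Subgroup.center X ∧
      ∃ v : ↥(σ.ker ⊓ commutator X) →* Multiplicative (ZMod d.q × ZMod d.q2), Function.Surjective v := by
  simp only [baseOK, Bool.and_eq_true, List.all_eq_true, Nat.beq_eq, Nat.blt_eq] at hb
  obtain ⟨⟨⟨⟨⟨⟨⟨⟨⟨⟨⟨⟨⟨⟨⟨⟨⟨⟨⟨hcE, hcU⟩, hnE⟩, hq⟩, hq2⟩, hn⟩, hlen⟩, huSift⟩, hblock⟩, hz1⟩, hz2⟩, hx0⟩,
    hzne⟩, hordE⟩, hordG⟩, hlifts⟩, hlen0⟩, hm⟩, hrep0⟩, hgens0⟩ := hb
  haveI : NeZero d.q := ⟨by omega⟩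
  haveI : NeZero d.q2 := ⟨by omega⟩
  haveI : NeZero d.nE := ⟨by omega⟩
  have valid : ∀ {k : ℕ} {ww : ℕ} {g : List Elt} {dd : List (Elt × List ℕ)} {L : List CLevel},
      checkCert ww k g dd L = true → ∀ e ∈ g, validElt ww k e = true := fun {k ww g dd L} h e he => by
    simp only [checkCert, Bool.and_eq_true, List.all_eq_true] at h
    exact h.1.1.1.1.2 e he
  have hval := valid hc
  have hvalE := valid hcE
  have hvalU := valid hcU
  -- the pairs
  have hcompat : pairGroup w n d ≤ compat n d.nE d.d := by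
    rw [pairGroup, Subgroup.closure_le]
    intro p hp
    obtain ⟨k, rfl⟩ := List.mem_ofFn.1 hp
    intro x y hy
    have h := allBelow_spec _ _ (allBelow_spec _ _ hblock k k.2) x x.2
    simp only [Nat.beq_eq, ← hy] at h
    rw [← (rep_toPerm (hvalE _ (getD_mem' k.2 _)) y).1,
      ← (rep_toPerm (hvalU _ (getD_mem' (hlen ▸ k.2) _)) x).1]
    exact h
  have hfst : Function.Injective ((MonoidHom.fst _ _).comp (pairGroup w n d).subtype) := by
    rw [← MonoidHom.ker_eq_bot_iff, Subgroup.eq_bot_iff_forall]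
    intro p hp
    have h1 : (p : Equiv.Perm (Fin d.nE) × Equiv.Perm (Fin n)).1 = 1 := hp
    refine Subtype.ext (Prod.ext h1 (fwd_inj fun x => ?_))
    have hlt : d.d + (x : ℕ) < d.nE := by omega
    have := hcompat p.2 x ⟨_, hlt⟩ rfl
    rw [h1] at this
    simp only [Equiv.Perm.coe_one, id_eq] at this
    show ((p : Equiv.Perm (Fin d.nE) × Equiv.Perm (Fin n)).2 x : ℕ) = x
    omega
  have hmapfst : (pairGroup w n d).map (MonoidHom.fst _ _) = genGroup d.wE d.nE d.eGens := by
    rw [pairGroup, MonoidHom.map_closure, image_ofFn, genGroup, ← ofFn_getD d.eGens (0, 0)]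
    rfl
  have hmapsnd : (pairGroup w n d).map (MonoidHom.snd _ _) = genGroup w n d.uGens := by
    rw [pairGroup, MonoidHom.map_closure, image_ofFn, genGroup]
    congr 1
    ext y
    simp only [Set.mem_ofPred_eq, List.mem_ofFn, List.mem_map]
    constructor
    · rintro ⟨k, rfl⟩; exact ⟨_, getD_mem' (hlen ▸ k.2) _, rfl⟩
    · rintro ⟨e, he, rfl⟩
      obtain ⟨i, hi, rfl⟩ := List.mem_iff_getElem.1 he
      exact ⟨⟨i, hlen.symm ▸ hi⟩, by simp [List.getElem?_eq_getElem hi]⟩
  set E := pairGroup w n d with hE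
  have hcardE : Nat.card E = certOrder d.eLevels := by
    rw [← cert_card hcE, ← hmapfst, Nat.card_congr (MonoidHom.ofInjective hfst).toEquiv, MonoidHom.range_comp,
      Subgroup.range_subtype]
  have hUle : genGroup w n d.uGens ≤ genGroup w n gens := by
    refine (Subgroup.closure_le _).2 ?_
    intro σ hσ
    obtain ⟨e, he, rfl⟩ := List.mem_map.1 hσ
    exact cert_mem hc (hvalU e he) (huSift e he)
  let π : E →* genGroup w n gens :=
    ((MonoidHom.snd _ _).comp E.subtype).codRestrict _ fun p => hUle (hmapsnd ▸ ⟨_, p.2, rfl⟩)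
  let U : Subgroup (genGroup w n gens) := (genGroup w n d.uGens).subgroupOf (genGroup w n gens)
  have hrange : π.range = U := by
    ext g
    rw [Subgroup.mem_subgroupOf, ← hmapsnd]
    constructor
    · rintro ⟨p, rfl⟩; exact ⟨_, p.2, rfl⟩
    · rintro ⟨p, hp, he⟩; exact ⟨⟨p, hp⟩, Subtype.ext he⟩
  have hcardU : Nat.card U = certOrder d.uLevels := by
    rw [Nat.card_congr (Subgroup.subgroupOfEquivOfLe hUle).toEquiv, cert_card hcU]
  have hUpos : 0 < certOrder d.uLevels := hcardU ▸ Nat.card_pos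
  have hker : Nat.card π.ker = d.q * d.q2 := by
    have h := Subgroup.card_eq_card_quotient_mul_card_subgroup π.ker
    rw [Nat.card_congr (QuotientGroup.quotientKerEquivRange π).toEquiv, hrange, hcardE, hcardU, hordE] at h
    exact (Nat.eq_of_mul_eq_mul_left hUpos (by rw [mul_comm]; exact h)).symm
  -- the central elements
  have hcent : ∀ (c : Elt) (k : ℕ), centralOK n d c k = true → ∃ Z : Subgroup.center E, π (Z : E) = 1 ∧
      Z ^ k = 1 ∧ ∀ (j : ℕ) (y : Fin d.nE), iterPoint d c.1 j y =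
        ((((Z ^ j : Subgroup.center E) : E) : Equiv.Perm (Fin d.nE) × Equiv.Perm (Fin n)).1 y : ℕ) := by
    intro c k hck
    simp only [centralOK, Bool.and_eq_true, List.all_eq_true] at hck
    obtain ⟨⟨⟨⟨hv, hs⟩, hfix⟩, hcomm⟩, hpow⟩ := hck
    obtain ⟨⟨zσ, zτ⟩, hzm, hzeq⟩ : toPerm d.wE d.nE c ∈ E.map (MonoidHom.fst _ _) :=
      hmapfst ▸ cert_mem hcE hv hs
    have hzσ : zσ = toPerm d.wE d.nE c := hzeq
    have hget : ∀ y : Fin d.nE, get d.wE c.1 y = (zσ y : ℕ) := fun y => hzσ ▸ (rep_toPerm hv y).1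
    let Z : E := ⟨(zσ, zτ), hzm⟩
    have hZc : Z ∈ Subgroup.center E := by
      have hle : E ≤ (Subgroup.centralizer {zσ}).comap (MonoidHom.fst _ _) := by
        rw [hE, pairGroup, Subgroup.closure_le]
        intro p hp
        obtain ⟨i, rfl⟩ := List.mem_ofFn.1 hp
        rw [SetLike.mem_coe, Subgroup.mem_comap, Subgroup.mem_centralizer_iff]
        rintro _ rfl
        have hi := getD_mem' i.2 ((0, 0) : Elt)
        refine fwd_inj fun y => ?_
        have h := allBelow_spec _ _ (hcomm _ hi) y y.2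
        rw [Nat.beq_eq, (rep_toPerm (hvalE _ hi) y).1, hget, hget, (rep_toPerm (hvalE _ hi) _).1] at h
        exact h
      rw [Subgroup.mem_center_iff]
      intro p
      refine hfst ?_
      have := Subgroup.mem_centralizer_iff.1 (Subgroup.mem_comap.1 (hle p.2)) zσ rfl
      exact this.symm
    have hiter : ∀ (j : ℕ) (y : Fin d.nE), iterPoint d c.1 j y = ((zσ ^ j) y : ℕ) := by
      intro j
      induction j with
      | zero => intro y; rfl
      | succ j ih => intro y; rw [iterPoint, ih, hget, pow_succ', Equiv.Perm.mul_apply]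
    refine ⟨⟨Z, hZc⟩, Subtype.ext (fwd_inj fun x => ?_), Subtype.ext (hfst ?_), fun j y => ?_⟩
    · show (zτ x : ℕ) = x
      have hlt : d.d + (x : ℕ) < d.nE := by omega
      have h1 := hcompat hzm x ⟨_, hlt⟩ rfl
      have h2 := allBelow_spec _ _ hfix x x.2
      rw [Nat.beq_eq] at h2
      rw [← hget] at h1
      simp only at h1
      omega
    · refine fwd_inj fun y => ?_
      have h := allBelow_spec _ _ hpow y y.2
      rw [Nat.beq_eq, hiter] at h
      simpa [Z] using h
    · rw [hiter]; rfl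
  obtain ⟨Z1, hπ1, hpow1, hiter1⟩ := hcent _ _ hz1
  obtain ⟨Z2, hπ2, hpow2, hiter2⟩ := hcent _ _ hz2
  let ι : Multiplicative (ZMod d.q × ZMod d.q2) →* Subgroup.center E :=
    { toFun := fun c => Z1 ^ (Multiplicative.toAdd c).1.val * Z2 ^ (Multiplicative.toAdd c).2.val
      map_one' := by simp
      map_mul' := fun a b => by
        simp only [toAdd_mul, Prod.fst_add, Prod.snd_add, ZMod.val_add]
        rw [← pow_eq_pow_mod _ hpow1, ← pow_eq_pow_mod _ hpow2, pow_add, pow_add]
        ac_rfl }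
  let idx : Multiplicative (ZMod d.q × ZMod d.q2) → ℕ := fun c =>
    (Multiplicative.toAdd c).1.val + d.q * (Multiplicative.toAdd c).2.val
  have hidx : ∀ c, idx c < d.q * d.q2 := fun c => by
    have h1 := ZMod.val_lt (Multiplicative.toAdd c).1
    have h2 : (Multiplicative.toAdd c).2.val + 1 ≤ d.q2 := ZMod.val_lt (Multiplicative.toAdd c).2
    calc idx c < d.q + d.q * (Multiplicative.toAdd c).2.val := Nat.add_lt_add_right h1 _
      _ = d.q * ((Multiplicative.toAdd c).2.val + 1) := by ring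
      _ ≤ d.q * d.q2 := Nat.mul_le_mul_left _ h2
  have hpoint : ∀ c, pointAt d (idx c) =
      ((((ι c : Subgroup.center E) : E) : Equiv.Perm (Fin d.nE) × Equiv.Perm (Fin n)).1 ⟨d.x0, hx0⟩ : ℕ) := by
    intro c
    have h1 := ZMod.val_lt (Multiplicative.toAdd c).1
    simp only [pointAt, idx, Nat.add_mul_mod_self_left, Nat.mod_eq_of_lt h1,
      Nat.add_mul_div_left _ _ (show 0 < d.q by omega), Nat.div_eq_of_lt h1, zero_add]
    exact ((congrArg (iterPoint d d.z.1 _) (hiter2 _ ⟨d.x0, hx0⟩)).trans (hiter1 _ _))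
  have hπι : ∀ c, π ((ι c : Subgroup.center E) : E) = 1 := fun c => by
    show π (((Z1 ^ _ * Z2 ^ _ : Subgroup.center E)) : E) = 1
    rw [Subgroup.coe_mul, SubmonoidClass.coe_pow, SubmonoidClass.coe_pow, map_mul, map_pow, map_pow, hπ1, hπ2,
      one_pow, one_pow, one_mul]
  have hsemi : ∀ c, ((((ι c : Subgroup.center E) : E) : Equiv.Perm (Fin d.nE) × Equiv.Perm (Fin n)).1
      ⟨d.x0, hx0⟩ : ℕ) = d.x0 → c = 1 := by
    intro c hc0
    have h := allBelow_spec _ _ hzne (idx c) (hidx c)
    simp only [Bool.or_eq_true, Bool.not_eq_true', Nat.beq_eq] at h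
    rcases h with h | h
    · have h' : (Multiplicative.toAdd c).1.val + d.q * (Multiplicative.toAdd c).2.val = 0 := h
      have e1 : (Multiplicative.toAdd c).1.val = 0 := by omega
      have e2 : (Multiplicative.toAdd c).2.val = 0 :=
        (Nat.mul_eq_zero.1 (show d.q * (Multiplicative.toAdd c).2.val = 0 by omega)).resolve_left (by omega)
      exact Multiplicative.toAdd.injective (Prod.ext ((ZMod.val_eq_zero _).1 e1) ((ZMod.val_eq_zero _).1 e2))
    · rw [hpoint, hc0] at h
      simp at h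
  have hιinj : Function.Injective ι := by
    rw [← MonoidHom.ker_eq_bot_iff, Subgroup.eq_bot_iff_forall]
    intro c hc1
    refine hsemi c ?_
    rw [show ι c = 1 from hc1]
    rfl
  haveI : Finite π.ker := Nat.finite_of_card_ne_zero (by rw [hker]; exact Nat.mul_ne_zero (by omega) (by omega))
  have hgen : ∀ k : E, π k = 1 → ∃ c, ((ι c : Subgroup.center E) : E) = k := by
    intro k hk
    have hb : Function.Bijective (fun c => (⟨((ι c : Subgroup.center E) : E), hπι c⟩ : π.ker)) := by
      haveI : Fintype π.ker := Fintype.ofFinite _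
      refine (Fintype.bijective_iff_injective_and_card _).2
        ⟨fun a b h => hιinj (Subtype.ext (congrArg (fun t : π.ker => (t : E)) h)), ?_⟩
      rw [← Nat.card_eq_fintype_card, ← Nat.card_eq_fintype_card, hker]
      simp [Nat.card_congr Multiplicative.toAdd]
    obtain ⟨c, hc'⟩ := hb.2 ⟨k, hk⟩
    exact ⟨c, congrArg Subtype.val hc'⟩
  have hcentral : π.ker ≤ Subgroup.center E := by
    intro k hk
    obtain ⟨c, rfl⟩ := hgen k hk
    exact (ι c).2
  have hrecog : ∀ (k : E), π k = 1 → ∀ c,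
      ((k : Equiv.Perm (Fin d.nE) × Equiv.Perm (Fin n)).1 ⟨d.x0, hx0⟩ : ℕ) = pointAt d (idx c) →
        k = ((ι c : Subgroup.center E) : E) := by
    intro k hk c hkc
    obtain ⟨a, rfl⟩ := hgen k hk
    rw [hpoint] at hkc
    suffices a = c by rw [this]
    refine inv_mul_eq_one.1 (hsemi _ ?_) |>.symm
    rw [map_mul, map_inv, Subgroup.coe_mul, Subgroup.coe_mul, Prod.fst_mul, Equiv.Perm.mul_apply, Fin.ext hkc]
    rw [InvMemClass.coe_inv, InvMemClass.coe_inv, Prod.fst_inv]
    exact congrArg Fin.val (Equiv.symm_apply_apply _ _)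
  -- the cosets
  let gen : ℕ → genGroup w n gens := fun k =>
    if h : k < gens.length then ⟨toPerm w n (gens.getD k (0, 0)),
      Subgroup.subset_closure (List.mem_map.2 ⟨_, getD_mem' h _, rfl⟩)⟩ else 1
  have hgenget : ∀ k < gens.length, ∀ x : Fin n,
      get w (gens.getD k (0, 0)).1 x = ((gen k : Equiv.Perm (Fin n)) x : ℕ) := by
    intro k hk x
    simp only [gen, dif_pos hk]
    exact (rep_toPerm (hval _ (getD_mem' hk _)) x).1
  have hrep : ∀ i < d.m, ∃ g : genGroup w n gens, ∀ x : Fin n,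
      get w (getC d.reps i) x = ((g : Equiv.Perm (Fin n)) x : ℕ) := by
    intro i
    induction i using Nat.strong_induction_on with
    | _ i ih =>
      intro hi
      rcases Nat.eq_zero_or_pos i with h | h
      · subst h
        refine ⟨1, fun x => ?_⟩
        have := allBelow_spec _ _ hrep0 x x.2
        rw [Nat.beq_eq] at this
        simpa using this
      · have hco := hcos i hi
        simp only [cosetOK, Bool.and_eq_true, Bool.or_eq_true, Nat.beq_eq, Nat.blt_eq] at hco
        obtain ⟨hp, heq⟩ := hco.1.resolve_left (by omega)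
        obtain ⟨g, hg⟩ := ih _ hp (by omega)
        refine ⟨gen (parent gens d i).2 * g, fun x => ?_⟩
        have := allBelow_spec _ _ heq x x.2
        rw [Nat.beq_eq] at this
        have hpl : (parent gens d i).2 < gens.length := Nat.mod_lt _ hgens0
        rw [this, hg, hgenget _ hpl]
        rfl
  choose rep hrep using hrep
  obtain ⟨lift, hlift⟩ : ∃ lift : ℕ → E, ∀ k < d.lifts.length, ∀ y : Fin d.nE,
      get d.wE (d.lifts.getD k (0, 0)).1 y = ((lift k : Equiv.Perm (Fin d.nE) × Equiv.Perm (Fin n)).1 y : ℕ) := by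
    have h : ∀ k, k < d.lifts.length → ∃ e : E, ∀ y : Fin d.nE,
        get d.wE (d.lifts.getD k (0, 0)).1 y = ((e : Equiv.Perm (Fin d.nE) × Equiv.Perm (Fin n)).1 y : ℕ) := by
      intro k hk
      obtain ⟨hv, hs⟩ := hlifts _ (getD_mem' hk (0, 0))
      obtain ⟨p, hp, he⟩ : toPerm d.wE d.nE (d.lifts.getD k (0, 0)) ∈ E.map (MonoidHom.fst _ _) :=
        hmapfst ▸ cert_mem hcE hv hs
      refine ⟨⟨p, hp⟩, fun y => ?_⟩
      rw [(rep_toPerm hv y).1, ← show p.1 = _ from he]
    choose f hf using h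
    exact ⟨fun k => if h : k < d.lifts.length then f k h else 1, fun k hk => by simpa [hk] using hf k hk⟩
  have hmove : ∀ (k : ℕ), k < gens.length → ∀ (i : ℕ) (hi : i < d.m), ∃ hj : (move d k i).1 < d.m,
      gen k * rep i hi = rep _ hj * π (lift (move d k i).2) := by
    intro k hk i hi
    have hco := hcos i hi
    simp only [cosetOK, Bool.and_eq_true] at hco
    have h := allBelow_spec _ _ hco.2 k hk
    simp only [Bool.and_eq_true, Nat.blt_eq] at h
    refine ⟨h.1, Subtype.ext (fwd_inj fun x => ?_)⟩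
    have hx := allBelow_spec _ _ h.2 x x.2
    rw [Nat.beq_eq, hrep i hi, hgenget k hk] at hx
    have hlt : d.d + (x : ℕ) < d.nE := by omega
    have hl : (move d k i).2 < d.lifts.length := Nat.mod_lt _ hlen0
    rw [hlift _ hl ⟨_, hlt⟩, hcompat (lift (move d k i).2).2 x ⟨_, hlt⟩ rfl, Nat.add_sub_cancel_left,
      hrep _ h.1] at hx
    exact hx
  let e : Fin d.m → genGroup w n gens ⧸ U := fun i => QuotientGroup.mk (rep i i.2)
  have hsmul : ∀ k < gens.length, ∀ i : Fin d.m, ∃ j : Fin d.m, gen k • e i = e j ∧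
      (j : ℕ) = (move d k i).1 := by
    intro k hk i
    obtain ⟨hj, he⟩ := hmove k hk i i.2
    refine ⟨⟨_, hj⟩, ?_, rfl⟩
    show QuotientGroup.mk (gen k * rep i i.2) = QuotientGroup.mk (rep _ hj)
    rw [he, QuotientGroup.eq, mul_inv_rev, inv_mul_cancel_right]
    exact hrange ▸ inv_mem ⟨_, rfl⟩
  have hsurj : Function.Surjective e := by
    have hclosed : ∀ g : genGroup w n gens, ∀ i : Fin d.m, g • e i ∈ Set.range e := by
      rintro ⟨g, hg⟩
      have hg' : g ∈ (Submonoid.closure {σ | σ ∈ gens.map (toPerm w n)} : Set (Equiv.Perm (Fin n))) := by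
        rw [← closure_carrier]; exact hg
      suffices ∀ σ ∈ Submonoid.closure {σ | σ ∈ gens.map (toPerm w n)}, ∃ hσ : σ ∈ genGroup w n gens,
          ∀ i : Fin d.m, (⟨σ, hσ⟩ : genGroup w n gens) • e i ∈ Set.range e from
        fun i => (this g hg').2 i
      intro σ hσ
      induction hσ using Submonoid.closure_induction with
      | mem s hs =>
        obtain ⟨c, hc', rfl⟩ := List.mem_map.1 hs
        obtain ⟨k, hk, rfl⟩ := List.mem_iff_getElem.1 hc'
        refine ⟨Subgroup.subset_closure hs, fun i => ?_⟩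
        obtain ⟨j, hj, -⟩ := hsmul k hk i
        refine ⟨j, hj.symm.trans (congrArg (· • e i) (Subtype.ext ?_))⟩
        simp [gen, hk, List.getElem?_eq_getElem hk]
      | one => exact ⟨one_mem _, fun i => ⟨i, (one_smul _ _).symm⟩⟩
      | mul a b _ _ iha ihb =>
        obtain ⟨ha, fa⟩ := iha
        obtain ⟨hb', fb⟩ := ihb
        refine ⟨mul_mem ha hb', fun i => ?_⟩
        obtain ⟨j, hj⟩ := fb i
        rw [show (⟨a * b, mul_mem ha hb'⟩ : genGroup w n gens) = ⟨a, ha⟩ * ⟨b, hb'⟩ from rfl, mul_smul, ← hj]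
        exact fa j
    intro q
    obtain ⟨g, rfl⟩ := QuotientGroup.mk_surjective q
    have h0 : rep 0 hm = 1 := Subtype.ext (fwd_inj fun x => by
      have := allBelow_spec _ _ hrep0 x x.2
      rw [Nat.beq_eq, hrep 0 hm] at this
      simpa using this)
    obtain ⟨j, hj⟩ := hclosed g ⟨0, hm⟩
    refine ⟨j, hj.trans ?_⟩
    show QuotientGroup.mk (g * rep 0 hm) = _
    rw [h0, mul_one]
  haveI : Fintype (genGroup w n gens ⧸ U) := Fintype.ofFinite _
  have hbij : Function.Bijective e := by
    refine (Fintype.bijective_iff_surjective_and_card e).2 ⟨hsurj, ?_⟩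
    have h := Subgroup.card_mul_index U
    rw [cert_card hc, hordG, hcardU, mul_comm d.m] at h
    rw [Fintype.card_fin, ← Nat.card_eq_fintype_card, ← Subgroup.index_eq_card]
    exact (Nat.eq_of_mul_eq_mul_left hUpos h).symm
  let eI := Equiv.ofBijective e hbij
  let t : genGroup w n gens ⧸ U → genGroup w n gens := fun q => rep (eI.symm q) (eI.symm q).2
  have ht : ∀ q, (QuotientGroup.mk (t q) : genGroup w n gens ⧸ U) = q := fun q => eI.apply_symm_apply q
  let M : Monomial (genGroup w n gens) E (genGroup w n gens ⧸ U) :=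
    { t := t
      π := π
      central := hcentral
      mem := fun g q => by
        rw [hrange, mul_assoc, ← QuotientGroup.eq, ht]
        conv_lhs => rw [← ht q]
        rfl }
  let f : ℕ → genGroup w n gens ⧸ U → E := fun k q => lift (move d k (eI.symm q)).2
  have hisLift : ∀ k < gens.length, M.IsLift (gen k) (f k) := by
    intro k hk q
    obtain ⟨hj, he⟩ := hmove k hk _ (eI.symm q).2
    obtain ⟨j, hj', hjv⟩ := hsmul k hk (eI.symm q)
    rw [show e (eI.symm q) = q from eI.apply_symm_apply q] at hj'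
    show π _ = (t (gen k • q))⁻¹ * gen k * t q
    have : eI.symm (gen k • q) = ⟨_, hj⟩ := by rw [hj', Equiv.symm_apply_eq]; congr; exact Fin.ext hjv
    simp only [t, this]
    rw [mul_assoc, he, inv_mul_cancel_left]
  let L := fun u : List ℕ => u.map fun k => (gen k, f k)
  have hwalk : ∀ u : List ℕ, (∀ k ∈ u, k < gens.length) → ∀ (i : Fin d.m) (y : Fin d.nE),
      ((eI.symm (((L u).map Prod.fst).prod • eI i) : Fin d.m) : ℕ) = (walk d u i y).1 ∧
      (((Ind.prodLift (L u) (eI i) : E) : Equiv.Perm (Fin d.nE) × Equiv.Perm (Fin n)).1 y : ℕ) =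
        (walk d u i y).2 := by
    intro u
    induction u with
    | nil => intro _ i y; simp [L, walk, Ind.prodLift]
    | cons k u ih =>
      intro hu i y
      obtain ⟨h1, h2⟩ := ih (fun a ha => hu a (List.mem_cons_of_mem _ ha)) i y
      have hk := hu k List.mem_cons_self
      obtain ⟨j, hj', hjv⟩ := hsmul k hk (eI.symm (((L u).map Prod.fst).prod • eI i))
      constructor
      · simp only [L, List.map_cons, List.prod_cons, mul_smul, walk] at *
        rw [← eI.apply_symm_apply ((List.map Prod.fst (List.map (fun k => (gen k, f k)) u)).prod • eI i)]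
        rw [show eI = Equiv.ofBijective e hbij from rfl] at *
        rw [Equiv.ofBijective_apply, hj', show e j = Equiv.ofBijective e hbij j from rfl, Equiv.symm_apply_apply,
          hjv, h1]
      · simp only [L, List.map_cons, Ind.prodLift, Subgroup.coe_mul, Prod.fst_mul, Equiv.Perm.mul_apply, walk]
        simp only [L] at h1 h2
        rw [show (f k ((List.map Prod.fst (List.map (fun k => (gen k, f k)) u)).prod • eI i)) =
          lift (move d k (walk d u i y).1).2 by simp only [f, h1]]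
        have hml : (move d k (walk d u i y).1).2 < d.lifts.length := Nat.mod_lt _ hlen0
        rw [← hlift _ hml, h2]
  let vv : (Ind.proj (M := M)).ker →* Subgroup.center E :=
    { toFun := fun x => (x : Ind M).a * M.cocycle 1 1
      map_one' := inv_mul_cancel _
      map_mul' := fun x y => by
        have hx : (x : Ind M).g = 1 := x.2
        have hy : (y : Ind M).g = 1 := y.2
        show (x : Ind M).a * (y : Ind M).a * M.cocycle (x : Ind M).g (y : Ind M).g * M.cocycle 1 1 = _
        rw [hx, hy]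
        ac_rfl }
  have hprod : ∀ u : List ℕ, (∀ k ∈ u, k < gens.length) → ∀ x : Fin n,
      u.foldr (fun g y => get w (gens.getD g (0, 0)).1 y) x =
        (((((L u).map Prod.fst).prod : genGroup w n gens) : Equiv.Perm (Fin n)) x : ℕ) := by
    intro u
    induction u with
    | nil => intro _ x; simp [L]
    | cons k u ih =>
      intro hu x
      rw [List.foldr_cons, ih (fun a ha => hu a (List.mem_cons_of_mem _ ha)) x, hgenget k (hu k List.mem_cons_self)]
      simp [L]
  let K := (Ind.proj (M := M)).ker ⊓ commutator (Ind M)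
  have htest : ∀ T ∈ d.tests, ∃ z : K, vv (Subgroup.inclusion inf_le_left z) =
      ι (Multiplicative.ofAdd ((T.t1 : ZMod d.q), (T.t2 : ZMod d.q2))) := by
    intro T hT
    have hwT := hwords T hT
    simp only [wordsOK, Bool.and_eq_true, List.all_eq_true, Nat.blt_eq, Nat.beq_eq, List.isPerm_iff] at hwT
    obtain ⟨⟨⟨⟨hperm, hA⟩, heq⟩, ht1⟩, ht2⟩ := hwT
    have hB : ∀ k ∈ T.wordB, k < gens.length := fun k hk => hA k (hperm.mem_iff.1 hk)
    have he : ((L T.wordA).map Prod.fst).prod = ((L T.wordB).map Prod.fst).prod := by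
      refine Subtype.ext (fwd_inj fun x => ?_)
      have := allBelow_spec _ _ heq x x.2
      rw [Nat.beq_eq, hprod _ hA, hprod _ hB] at this
      exact this
    have hLift : ∀ x ∈ L T.wordA, M.IsLift x.1 x.2 := fun x hx => by
      obtain ⟨k, hk, rfl⟩ := List.mem_map.1 hx
      exact hisLift k (hA k hk)
    obtain ⟨z, hz, hzval⟩ := Ind.mem_commutator_of_perm (hperm.map fun k => (gen k, f k)) hLift he
    refine ⟨⟨z, hz⟩, ?_⟩
    have hdk : ∀ q, M.π ((Ind.prodLift (L T.wordB) q)⁻¹ * Ind.prodLift (L T.wordA) q) = 1 := fun q => by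
      rw [map_mul, map_inv, (Ind.prod_mk' _ hLift).1 q, (Ind.prod_mk' _ fun x hx => hLift x
        ((hperm.map fun k => (gen k, f k)).mem_iff.1 hx)).1 q, he, inv_mul_cancel]
    let cls : ℕ → Multiplicative (ZMod d.q × ZMod d.q2) := fun c =>
      Multiplicative.ofAdd ((c % d.q : ℕ), (c / d.q : ℕ))
    have hterm : ∀ i : Fin d.m,
        Monomial.cent ((Ind.prodLift (L T.wordB) (eI i))⁻¹ * Ind.prodLift (L T.wordA) (eI i)) =
          ι (cls (getC T.wit i)) := by
      intro i
      have hwi := hwit T hT i i.2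
      simp only [witOK, Bool.and_eq_true, Nat.beq_eq, Nat.blt_eq] at hwi
      obtain ⟨hlt, hw⟩ := hwi
      have hci : idx (cls (getC T.wit i)) = getC T.wit i := by
        simp only [idx, cls, toAdd_ofAdd, ZMod.val_natCast]
        rw [Nat.mod_mod, Nat.mod_eq_of_lt (Nat.div_lt_of_lt_mul hlt), Nat.mod_add_div]
      have hk : (Ind.prodLift (L T.wordB) (eI i))⁻¹ * Ind.prodLift (L T.wordA) (eI i) =
          ((ι (cls (getC T.wit i)) : Subgroup.center E) : E) := by
        refine hrecog _ (hdk _) _ ?_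
        rw [show pointAt d (getC T.wit i) = _ from (congrArg (pointAt d) hci.symm).trans (hpoint _)] at hw
        replace hw := ((hwalk _ hA i ⟨d.x0, hx0⟩).2.trans hw).trans (hwalk _ hB i _).2.symm
        rw [Subgroup.coe_mul, Prod.fst_mul, Equiv.Perm.mul_apply, Subgroup.coe_inv, Prod.fst_inv, Fin.ext hw,
          hpoint]
        exact congrArg Fin.val (Equiv.symm_apply_apply _ _)
      refine Subtype.ext ?_
      rw [M.cent_val (hdk _), hk]
    show z.a * M.cocycle 1 1 = _
    rw [hzval]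
    refine (Ind.mk'_one_val hdk).trans ?_
    rw [(Fintype.prod_equiv eI _ _ fun i => (hterm i).symm).symm, ← map_prod]
    congr 1
    simp only [cls]
    rw [← ofAdd_sum]
    congr 1
    rw [Prod.ext_iff, Prod.fst_sum, Prod.snd_sum, ← Nat.cast_sum, ← Nat.cast_sum,
      Fin.sum_univ_eq_sum_range (fun i => getC T.wit i % d.q), Fin.sum_univ_eq_sum_range (fun i => getC T.wit i / d.q)]
    rw [witSum_eq] at ht1 ht2
    exact ⟨by rw [← ht1, ZMod.natCast_mod], by rw [← ht2, ZMod.natCast_mod]⟩
  refine ⟨Ind M, inferInstance, Ind.proj, Ind.proj_surjective, Ind.ker_le_center, ?_⟩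
  let u : K →* Subgroup.center E := vv.comp (Subgroup.inclusion inf_le_left)
  have hcoc : ∀ g h, π ((M.cocycle g h : Subgroup.center E) : E) = 1 := fun g h => by
    have : M.cocycle g h ∈ (π.comp (Subgroup.center E).subtype).ker := by
      refine Subgroup.prod_mem _ fun i _ => ?_
      have h3 : M.π (M.sec g (h • i) * M.sec h i * (M.sec (g * h) i)⁻¹) = 1 := by
        rw [map_mul, map_inv, map_mul, M.sec_spec, M.sec_spec, M.sec_spec, Monomial.fac_mul, mul_inv_cancel]
      rw [MonoidHom.mem_ker, MonoidHom.comp_apply, Subgroup.coe_subtype, M.cent_val h3]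
      exact h3
    exact this
  let S : Subgroup (Ind M) :=
    { carrier := {x | π ((x.a : Subgroup.center E) : E) = 1}
      one_mem' := by
        show π (((M.cocycle 1 1)⁻¹ : Subgroup.center E) : E) = 1
        rw [InvMemClass.coe_inv, map_inv, hcoc, inv_one]
      mul_mem' := fun {x y} hx hy => by
        show π ((x.a * y.a * M.cocycle x.g y.g : Subgroup.center E) : E) = 1
        rw [Subgroup.coe_mul, Subgroup.coe_mul, map_mul, map_mul, hx, hy, hcoc, mul_one, mul_one]
      inv_mem' := fun {x} hx => by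
        show π (((x.a * M.cocycle x.g⁻¹ x.g * M.cocycle 1 1)⁻¹ : Subgroup.center E) : E) = 1
        rw [InvMemClass.coe_inv, map_inv, Subgroup.coe_mul, Subgroup.coe_mul, map_mul, map_mul, hx, hcoc, hcoc,
          mul_one, mul_one, inv_one] }
  have hS : commutator (Ind M) ≤ S := by
    rw [commutator_def, Subgroup.commutator_le]
    intro x _ y _
    have split' : ∀ x : Ind M, ∃ c ∈ Subgroup.center (Ind M), x = ⟨x.g, 1⟩ * c := fun x =>
      ⟨⟨1, x.a * (M.cocycle x.g 1)⁻¹⟩, Ind.ker_le_center rfl, Ind.ext (mul_one _).symm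
        (show x.a = 1 * (x.a * (M.cocycle x.g 1)⁻¹) * M.cocycle x.g 1 by rw [one_mul, inv_mul_cancel_right])⟩
    obtain ⟨c, hc', hx⟩ := split' x
    obtain ⟨c', hc'', hy⟩ := split' y
    rw [hx, hy, Schur.commutator_mul_central _ _ _ _ hc' hc'']
    have hone : ∀ g, (⟨g, 1⟩ : Ind M) ∈ S := fun g => map_one π
    exact mul_mem (mul_mem (mul_mem (hone _) (hone _)) (inv_mem (hone _))) (inv_mem (hone _))
  have hrangeι : ∀ z : K, u z ∈ ι.range := fun z => by
    have h1 : π (((z : Ind M).a : Subgroup.center E) : E) = 1 := hS z.2.2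
    obtain ⟨c, hc'⟩ := hgen (((u z : Subgroup.center E)) : E) (by
      show π (((z : Ind M).a * M.cocycle 1 1 : Subgroup.center E) : E) = 1
      rw [Subgroup.coe_mul, map_mul, h1, hcoc, mul_one])
    exact ⟨c, Subtype.ext hc'⟩
  let v : K →* Multiplicative (ZMod d.q × ZMod d.q2) :=
    (MonoidHom.ofInjective hιinj).symm.toMonoidHom.comp (u.codRestrict ι.range hrangeι)
  have hv : ∀ T ∈ d.tests, Multiplicative.ofAdd ((T.t1 : ZMod d.q), (T.t2 : ZMod d.q2)) ∈ v.range := by
    intro T hT
    obtain ⟨z, hz⟩ := htest T hT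
    refine ⟨z, ?_⟩
    show (MonoidHom.ofInjective hιinj).symm (u.codRestrict ι.range hrangeι z) = _
    rw [MulEquiv.symm_apply_eq]
    refine Subtype.ext ?_
    exact hz
  simp only [spanOK, Bool.and_eq_true, List.any_eq_true, List.mem_range, beq_iff_eq, Nat.blt_eq] at hspan
  obtain ⟨⟨⟨⟨i1, -, j1, -, e1⟩, ⟨i2, -, j2, -, e2⟩⟩, -⟩, -⟩ := hspan
  have hdef : ∀ k : ℕ, Multiplicative.ofAdd ((((d.tests.getD k ⟨[], [], 0, 0, []⟩).t1 : ℕ) : ZMod d.q),
      (((d.tests.getD k ⟨[], [], 0, 0, []⟩).t2 : ℕ) : ZMod d.q2)) ∈ v.range := by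
    intro k
    rcases Nat.lt_or_ge k d.tests.length with h | h
    · exact hv _ (getD_mem' h _)
    · rw [List.getD_eq_default _ _ h]
      simp only [Nat.cast_zero]
      exact one_mem _
  have hcombo : ∀ i j a b : ℕ,
      ((i * (d.tests.getD 0 ⟨[], [], 0, 0, []⟩).t1 + j * (d.tests.getD 1 ⟨[], [], 0, 0, []⟩).t1) % d.q,
        (i * (d.tests.getD 0 ⟨[], [], 0, 0, []⟩).t2 + j * (d.tests.getD 1 ⟨[], [], 0, 0, []⟩).t2) % d.q2) = (a, b) →
      Multiplicative.ofAdd ((a : ZMod d.q), (b : ZMod d.q2)) ∈ v.range := by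
    intro i j a b e
    obtain ⟨rfl, rfl⟩ := Prod.mk.injEq .. |>.mp e
    have := mul_mem (pow_mem (hdef 0) i) (pow_mem (hdef 1) j)
    rw [← ofAdd_nsmul, ← ofAdd_nsmul, ← ofAdd_add] at this
    simpa [nsmul_eq_mul, ZMod.natCast_mod] using this
  have g1 := hcombo i1 j1 _ _ e1
  have g2 := hcombo i2 j2 _ _ e2
  simp only [ZMod.natCast_mod, Nat.cast_one, Nat.cast_zero] at g1 g2
  refine ⟨v, fun c => ?_⟩
  have := mul_mem (pow_mem g1 (Multiplicative.toAdd c).1.val) (pow_mem g2 (Multiplicative.toAdd c).2.val)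
  rw [← ofAdd_nsmul, ← ofAdd_nsmul, ← ofAdd_add] at this
  obtain ⟨z, hz⟩ := this
  refine ⟨z, hz.trans (Multiplicative.toAdd.injective ?_)⟩
  simp [nsmul_eq_mul]

end Cfsg.Agent.PermInd
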