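import Cfsg.Agent.Lib.Compute.CosetCert

/-!
Suborbits of a certified coset table.
-/

set_option autoImplicit false

namespace Cfsg.Agent.CosetCert

noncomputable section

variable (P : Params)

/-- Grow an orbit: each entry `(t, j)` adds the image of a known point `t` under word `j`. -/
def grow (sw : List (List ℕ)) : List (ℕ × ℕ) → List ℕ → ℕ → Option (List ℕ × ℕ)
  | [], o, m => some (o, m)
  | (t, j) :: l, o, m =>
    let u := tact P (sw.getD j []) t
    bif bit m t && !(bit m u) then grow sw l (u :: o) (insBit m u) else none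

/-- The orbit certificate: start point, growth list, expected size. -/
def orbitOK (n : ℕ) (sw : List (List ℕ)) (c : ℕ) (l : List (ℕ × ℕ)) (size : ℕ) : Bool :=
  Nat.blt c n && (sw.all fun w => w.all fun x => Nat.blt x P.k) &&
    match grow P sw l [c] (insBit 0 c) with
    | some (o, m) => Nat.beq o.length size &&
        o.all fun t => Nat.blt t n && sw.all fun w => bit m (tact P w t)
    | none => false

/-- The bit set of a certified orbit. -/
def orbitBits (sw : List (List ℕ)) (c : ℕ) (l : List (ℕ × ℕ)) : ℕ :=
  match grow P sw l [c] (insBit 0 c) with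
  | some (_, m) => m
  | none => 0

variable {P}

theorem grow_spec {sw : List (List ℕ)} {R : ℕ → Prop}
    (hR : ∀ t, R t → ∀ w ∈ sw, R (tact P w t)) :
    ∀ (l : List (ℕ × ℕ)) (o : List ℕ) (m : ℕ) (o' : List ℕ) (m' : ℕ),
      (∀ t, bit m t = true ↔ t ∈ o) → (∀ t ∈ o, R t) → o.Nodup →
      grow P sw l o m = some (o', m') →
      (∀ t, bit m' t = true ↔ t ∈ o') ∧ (∀ t ∈ o', R t) ∧ o'.Nodup ∧ ∀ t ∈ o, t ∈ o' := by
  intro l
  induction l with
  | nil =>
    intro o m o' m' h1 h2 h3 hg
    simp only [grow, Option.some.injEq, Prod.mk.injEq] at hg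
    obtain ⟨rfl, rfl⟩ := hg
    exact ⟨h1, h2, h3, fun t ht => ht⟩
  | cons a l ih =>
    obtain ⟨t, j⟩ := a
    intro o m o' m' h1 h2 h3 hg
    rw [grow] at hg
    set u := tact P (sw.getD j []) t with hu
    cases hc : (bit m t && !(bit m u)) with
    | false => simp [hc] at hg
    | true =>
      simp only [hc, cond_true] at hg
      simp only [Bool.and_eq_true, Bool.not_eq_true'] at hc
      have hRu : R u := by
        rw [hu, List.getD_eq_getElem?_getD]
        cases hj : sw[j]? with
        | none => exact h2 t ((h1 t).1 hc.1)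
        | some w => exact hR t (h2 t ((h1 t).1 hc.1)) w (List.mem_of_getElem? hj)
      have hnot : u ∉ o := fun h => by
        have := (h1 u).2 h
        rw [hc.2] at this
        exact Bool.noConfusion this
      obtain ⟨k1, k2, k3, k4⟩ := ih (u :: o) (insBit m u) o' m'
        (fun x => ⟨fun hx => (bit_insBit hx).elim (fun e => e ▸ List.mem_cons_self)
            (fun e => List.mem_cons_of_mem _ ((h1 x).1 e)),
          fun hx => by
            rcases List.mem_cons.1 hx with rfl | hx
            · exact bit_insBit_self _ _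
            · exact bit_insBit_of ((h1 x).2 hx)⟩)
        (fun x hx => by
          rcases List.mem_cons.1 hx with rfl | hx
          · exact hRu
          · exact h2 x hx)
        (List.nodup_cons.2 ⟨hnot, h3⟩) hg
      exact ⟨k1, k2, k3, fun x hx => k4 x (List.mem_cons_of_mem _ hx)⟩

/-- A certified orbit gives a suborbit of the stated size, with membership read off the bit set. -/
theorem orbit_spec {G : Type*} [Group G] {gen : ℕ → G} (hinv : ∀ x, gen x * gen x = 1)
    {H : Subgroup G} {sw : List (List ℕ)} (hH : H = Subgroup.closure {g | ∃ w ∈ sw, g = wprod gen w})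
    {n : ℕ} {htab : tableOK P n = true} {φ : G →* Equiv.Perm (Fin n)}
    (hφ : ∀ x < P.k, φ (gen x) = genPerm htab x) {e : G ⧸ H ≃ Fin n}
    (he : ∀ (g : G) (q : G ⧸ H), e (g • q) = φ g (e q))
    {c : ℕ} {l : List (ℕ × ℕ)} {size : ℕ} (h : orbitOK P n sw c l size = true) :
    ∃ q : G ⧸ H, (e q : ℕ) = c ∧ (MulAction.orbit H q).ncard = size ∧
      ∀ p, p ∈ MulAction.orbit H q ↔ bit (orbitBits P sw c l) (e p) = true := by
  simp only [orbitOK, Bool.and_eq_true, Nat.blt_eq] at h
  obtain ⟨⟨hc, hlet⟩, hm⟩ := h
  cases hg : grow P sw l [c] (insBit 0 c) with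
  | none => simp [hg] at hm
  | some om =>
    obtain ⟨o, m⟩ := om
    simp only [hg, Bool.and_eq_true, Nat.beq_eq] at hm
    obtain ⟨hsize, hclosed⟩ := hm
    have hbits : orbitBits P sw c l = m := by rw [orbitBits, hg]
    set q := e.symm ⟨c, hc⟩ with hqdef
    have hw : ∀ w ∈ sw, wprod gen w.reverse ∈ H := fun w hw => by
      rw [wprod_reverse hinv]
      exact inv_mem (hH ▸ Subgroup.subset_closure ⟨w, hw, rfl⟩)
    have htact : ∀ (w : List ℕ), (∀ x ∈ w, x < P.k) → ∀ p : G ⧸ H,
        (e (wprod gen w.reverse • p) : ℕ) = tact P w (e p) := by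
      intro w
      induction w with
      | nil => intro _ p; simp [wprod, tact_nil]
      | cons x w ih =>
        intro hx p
        have e1 : wprod gen (x :: w).reverse = wprod gen w.reverse * gen x := by simp [wprod]
        rw [e1, mul_smul, ih (fun y hy => hx y (List.mem_cons_of_mem _ hy)), tact_cons, he,
          hφ x (hx x List.mem_cons_self), genPerm_val htab (hx x List.mem_cons_self)]
    have hlt : ∀ w ∈ sw, ∀ x ∈ w, x < P.k := fun w hw x hx => by
      simp only [List.all_eq_true, Nat.blt_eq] at hlet
      exact hlet w hw x hx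
    obtain ⟨k1, k2, k3, k4⟩ := grow_spec (R := fun t => ∃ p ∈ MulAction.orbit H q, (e p : ℕ) = t)
      (fun t ⟨p, hp, hpt⟩ w hw' => ⟨(⟨_, hw w hw'⟩ : H) • p,
        (MulAction.mem_orbit_of_mem_orbit _ hp),
        by rw [show ((⟨_, hw w hw'⟩ : H) • p) = wprod gen w.reverse • p from rfl,
          htact w (hlt w hw'), hpt]⟩)
      l [c] (insBit 0 c) o m
      (fun t => ⟨fun ht => by
          rcases bit_insBit ht with rfl | ht
          · exact List.mem_singleton_self _
          · rw [bit_zero] at ht; exact Bool.noConfusion ht,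
        fun ht => by rw [List.mem_singleton.1 ht]; exact bit_insBit_self _ _⟩)
      (fun t ht => ⟨q, MulAction.mem_orbit_self q, by rw [List.mem_singleton.1 ht, hqdef]; simp⟩)
      (List.nodup_singleton c) hg
    have hstep : ∀ h ∈ H, (∀ p, bit m (e p) = true → bit m (e (h • p)) = true) ∧
        (∀ p, bit m (e p) = true → bit m (e (h⁻¹ • p)) = true) := by
      intro h hh
      have hwords : ∀ w ∈ sw, ∀ p, bit m (e p) = true → bit m (e (wprod gen w.reverse • p)) = true := by
        intro w hw' p hp
        rw [htact w (hlt w hw')]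
        simp only [List.all_eq_true, Bool.and_eq_true, Nat.blt_eq] at hclosed
        exact (hclosed _ ((k1 _).1 hp)).2 w hw'
      rw [hH] at hh
      induction hh using Subgroup.closure_induction with
      | mem g hg' =>
        obtain ⟨w, hw', rfl⟩ := hg'
        rw [← wprod_reverse hinv]
        refine ⟨?_, hwords w hw'⟩
        -- a word maps the finite bit set into itself, hence onto itself
        let S : Finset (Fin n) := Finset.univ.filter fun i => bit m i = true
        have hmaps : ∀ i ∈ S, e (wprod gen w.reverse • e.symm i) ∈ S := fun i hi => by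
          simp only [S, Finset.mem_filter, Finset.mem_univ, true_and] at hi ⊢
          exact hwords w hw' _ (by simpa using hi)
        have hinj : Set.InjOn (fun i => e (wprod gen w.reverse • e.symm i)) S := fun a _ b _ hab =>
          e.symm.injective ((smul_left_cancel_iff _).1 (e.injective hab))
        intro p hp
        obtain ⟨i, hi, hie⟩ := Finset.surj_on_of_inj_on_of_card_le
          (s := S) (t := S) (fun i _ => e (wprod gen w.reverse • e.symm i)) hmaps
          (fun a b ha hb hab => hinj ha hb hab) le_rfl (e p)
          (by simp only [S, Finset.mem_filter, Finset.mem_univ, true_and]; exact hp)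
        simp only [S, Finset.mem_filter, Finset.mem_univ, true_and] at hi
        have := e.injective hie
        rw [this, smul_smul, wprod_reverse hinv, mul_inv_cancel, one_smul, Equiv.apply_symm_apply]
        exact hi
      | one => simp
      | mul a b _ _ ha hb =>
        exact ⟨fun p hp => by rw [mul_smul]; exact ha.1 _ (hb.1 p hp),
          fun p hp => by rw [mul_inv_rev, mul_smul]; exact hb.2 _ (ha.2 p hp)⟩
      | inv a _ ha => exact ⟨ha.2, by rw [inv_inv]; exact ha.1⟩
    have hmem : ∀ p, p ∈ MulAction.orbit H q ↔ bit m (e p) = true := by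
      intro p
      constructor
      · rintro ⟨h, rfl⟩
        refine (hstep h h.2).1 q ?_
        rw [hqdef, Equiv.apply_symm_apply]
        exact (k1 c).2 (k4 c (List.mem_singleton_self c))
      · intro hp
        obtain ⟨p', hp', hpe⟩ := k2 _ ((k1 _).1 hp)
        rwa [e.injective (Fin.ext hpe)] at hp'
    refine ⟨q, by simp [hqdef], ?_, fun p => by rw [hbits]; exact hmem p⟩
    have himg : (fun p => (e p : ℕ)) '' MulAction.orbit H q = (o.toFinset : Set ℕ) := by
      ext t
      simp only [Set.mem_image, List.coe_toFinset, Set.mem_setOf_eq]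
      constructor
      · rintro ⟨p, hp, rfl⟩; exact (k1 _).1 ((hmem p).1 hp)
      · intro ht; obtain ⟨p, hp, hpe⟩ := k2 t ht; exact ⟨p, hp, hpe⟩
    rw [← Set.ncard_image_of_injective _ (fun a b h => e.injective (Fin.ext h) :
      Function.Injective fun p => (e p : ℕ)), himg, Set.ncard_coe_finset,
      List.toFinset_card_of_nodup k3, hsize]

end

end Cfsg.Agent.CosetCert
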