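import Cfsg.Prelude.Def_SporCoxeter
import Cfsg.Agent.Lib.Compute.CosetOrbit

/-!
Coset certificates for groups given by a Coxeter graph and extra relators on involutions.
-/

set_option autoImplicit false

namespace Cfsg.Agent.CosetCert

noncomputable section

section wprod

variable {G : Type*} [Group G] (g : ℕ → G)

theorem wprod_nil : wprod g [] = 1 := rfl
theorem wprod_cons (x : ℕ) (w : List ℕ) : wprod g (x :: w) = g x * wprod g w := by simp [wprod]
theorem wprod_append (u v : List ℕ) : wprod g (u ++ v) = wprod g u * wprod g v := by simp [wprod]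
theorem wprod_rep (m : ℕ) (w : List ℕ) : wprod g (rep m w) = wprod g w ^ m := by
  induction m with
  | zero => simp [rep, wprod_nil]
  | succ m ih => rw [rep, wprod_append, ih, pow_succ']

end wprod

variable {α : Type} [DecidableEq α]

/-- The word of the Coxeter relator of two generators. -/
def pairWord (edges : List (α × ℕ × α)) (gi : ℕ → α) (i j : ℕ) : List ℕ :=
  rep (Cfsg.Spor.coxLabel edges (gi i) (gi j)) [i, j]

/-- Every pair of generators is covered by the base relators. -/
def pairsOK (edges : List (α × ℕ × α)) (gi : ℕ → α) (k : ℕ) (base : List (List ℕ)) : Bool :=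
  (List.range k).all fun i => decide (gi i ∈ Cfsg.Spor.coxNodes edges) && (List.range k).all fun j =>
    Nat.beq i j || (base.any fun w =>
      wordEq (pairWord edges gi i j) w || wordEq (pairWord edges gi i j) w.reverse)

/-- Each base relator is a Coxeter relator or one of the extra words. -/
def baseOK (edges : List (α × ℕ × α)) (gi : ℕ → α) (k : ℕ) (base extraW : List (List ℕ)) : Bool :=
  base.all fun w => (extraW.any fun u => wordEq w u) ||
    (List.range k).any fun i => (List.range k).any fun j => !Nat.beq i j && wordEq w (pairWord edges gi i j)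

/-- The extra words are among the base relators. -/
def extraOK (base extraW : List (List ℕ)) : Bool := extraW.all fun u => base.any fun w => wordEq u w

/-- Everything needed to read a table as the coset action of a presented group. -/
structure Setup (α : Type) [DecidableEq α] where
  edges : List (α × ℕ × α)
  extra : List (FreeGroup α)
  gi : ℕ → α
  ix : α → ℕ
  P : Params
  n : ℕ
  base : List (List ℕ)
  extraW : List (List ℕ)
  gi_ix : ∀ a, gi (ix a) = a
  ix_lt : ∀ a, ix a < P.k
  ix_gi : ∀ i < P.k, ix (gi i) = i
  pairs : pairsOK edges gi P.k base = true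
  bases : baseOK edges gi P.k base extraW = true
  extras : extraOK base extraW = true
  tab : tableOK P n = true
  fix_base : ∀ w ∈ base, Fixes P n w
  spec : ∀ {H : Type} [Group H] (f : α → H), (∀ a, f a * f a = 1) →
    List.Forall₂ (fun r w => FreeGroup.lift f r = wprod (fun x => f (gi x)) w) extra extraW

variable (S : Setup α)

/-- The presented group. -/
abbrev Setup.G : Type := Cfsg.Spor.CoxPresented α S.edges S.extra

/-- The generators of the presented group, by number. -/
def Setup.gen (x : ℕ) : S.G := PresentedGroup.of (S.gi x)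

theorem Setup.node (a : α) : a ∈ Cfsg.Spor.coxNodes S.edges := by
  have h := S.pairs
  simp only [pairsOK, List.all_eq_true, Bool.and_eq_true, decide_eq_true_eq, List.mem_range] at h
  have := (h _ (S.ix_lt a)).1
  rwa [S.gi_ix] at this

theorem Setup.of_pow (a b : α) :
    ((PresentedGroup.of a : S.G) * PresentedGroup.of b) ^ Cfsg.Spor.coxLabel S.edges a b = 1 := by
  have := PresentedGroup.one_of_mem (rels := Cfsg.Spor.coxRelators S.edges ∪ {r | r ∈ S.extra})
    (Or.inl ⟨a, S.node a, b, S.node b, rfl⟩)
  rw [map_pow, map_mul] at this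
  exact this

theorem coxLabel_self (edges : List (α × ℕ × α)) (a : α) : Cfsg.Spor.coxLabel edges a a = 1 := by
  simp [Cfsg.Spor.coxLabel]

theorem Setup.of_invol (a : α) : (PresentedGroup.of a : S.G) * PresentedGroup.of a = 1 := by
  have := S.of_pow a a
  rwa [coxLabel_self, pow_one] at this

theorem Setup.gen_invol (x : ℕ) : S.gen x * S.gen x = 1 := S.of_invol _

theorem Setup.closure_gen : Subgroup.closure (S.gen '' {x | x < S.P.k}) = ⊤ := by
  rw [eq_top_iff, ← PresentedGroup.closure_range_of]
  refine Subgroup.closure_mono ?_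
  rintro _ ⟨a, rfl⟩
  exact ⟨S.ix a, S.ix_lt a, by rw [Setup.gen, S.gi_ix]⟩

theorem Setup.base_one : ∀ w ∈ S.base, wprod S.gen w = 1 := by
  intro w hw
  have h := S.bases
  simp only [baseOK, List.all_eq_true, Bool.or_eq_true, List.any_eq_true, Bool.and_eq_true,
    List.mem_range] at h
  rcases h w hw with ⟨u, hu, he⟩ | ⟨i, hi, j, hj, -, he⟩
  · rw [eq_of_wordEq he]
    have key := S.spec (fun a => (PresentedGroup.of a : S.G)) S.of_invol
    obtain ⟨t, ht, rfl⟩ := List.getElem_of_mem hu
    have ht' : t < S.extra.length := key.length_eq ▸ ht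
    have h1 := List.Forall₂.get key ht' ht
    simp only [List.get_eq_getElem] at h1
    refine h1.symm.trans ?_
    have := PresentedGroup.one_of_mem (rels := Cfsg.Spor.coxRelators S.edges ∪ {r | r ∈ S.extra})
      (x := S.extra[t]) (Or.inr (List.getElem_mem ht'))
    rw [← this]
    exact (FreeGroup.lift_unique (PresentedGroup.mk _) (fun a => rfl)).symm
  · rw [eq_of_wordEq he, pairWord, wprod_rep, wprod_cons, wprod_cons, wprod_nil, mul_one]
    exact S.of_pow _ _

/-- The permutation of a generator. -/
def Setup.perm (a : α) : Equiv.Perm (Fin S.n) := genPerm S.tab (S.ix a)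

theorem Setup.perm_rels : ∀ r ∈ Cfsg.Spor.coxRelators S.edges ∪ {r | r ∈ S.extra},
    FreeGroup.lift S.perm r = 1 := by
  have hgi : ∀ i < S.P.k, S.perm (S.gi i) = genPerm S.tab i := fun i hi => by
    rw [Setup.perm, S.ix_gi i hi]
  intro r hr
  rcases hr with ⟨a, -, b, -, rfl⟩ | hr
  · rw [map_pow, map_mul, FreeGroup.lift_apply_of, FreeGroup.lift_apply_of]
    by_cases hab : a = b
    · subst hab; rw [coxLabel_self, pow_one]; exact genPerm_invol S.tab _
    have h := S.pairs
    simp only [pairsOK, List.all_eq_true, Bool.and_eq_true, Bool.or_eq_true, Nat.beq_eq,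
      List.any_eq_true, List.mem_range] at h
    rcases (h _ (S.ix_lt a)).2 _ (S.ix_lt b) with h1 | ⟨w, hw, he⟩
    · exact absurd (by rw [← S.gi_ix a, h1, S.gi_ix]) hab
    have h2 : wprod (genPerm S.tab) (pairWord S.edges S.gi (S.ix a) (S.ix b)) = 1 := by
      have hw1 := wprod_eq_one_of_fixes S.tab (S.fix_base w hw)
      rcases he with he | he <;> rw [eq_of_wordEq he]
      · exact hw1
      · rw [wprod_reverse (genPerm_invol S.tab), hw1, inv_one]
    rw [pairWord, S.gi_ix, S.gi_ix, wprod_rep, wprod_cons, wprod_cons, wprod_nil, mul_one] at h2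
    exact h2
  · have key := S.spec S.perm (fun a => genPerm_invol S.tab _)
    obtain ⟨t, ht, rfl⟩ := List.getElem_of_mem hr
    have ht' : t < S.extraW.length := key.length_eq ▸ ht
    have h1 := List.Forall₂.get key ht ht'
    simp only [List.get_eq_getElem] at h1
    rw [h1]
    have h := S.extras
    simp only [extraOK, List.all_eq_true, List.any_eq_true] at h
    obtain ⟨w, hw, he⟩ := h _ (List.getElem_mem ht')
    rw [eq_of_wordEq he]
    have hlt := S.fix_base w hw
    have h3 := wprod_eq_one_of_fixes S.tab hlt
    simp only [Fixes, List.all_eq_true, Nat.blt_eq] at hlt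
    refine Eq.trans ?_ h3
    show ((w.map fun x => S.perm (S.gi x))).prod = (w.map (genPerm S.tab)).prod
    rw [List.map_congr_left fun x hx => hgi x (hlt.1 x hx)]

/-- The homomorphism to the permutation group of the table. -/
def Setup.hom : S.G →* Equiv.Perm (Fin S.n) := PresentedGroup.toGroup S.perm_rels

theorem Setup.hom_gen : ∀ x < S.P.k, S.hom (S.gen x) = genPerm S.tab x := fun x hx => by
  rw [Setup.hom, Setup.gen, PresentedGroup.toGroup.of, Setup.perm, S.ix_gi x hx]

/-- Certified index and the equivariant bijection. -/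
theorem Setup.exists_equiv {H : Subgroup S.G} {sw : List (List ℕ)}
    (hH : H = Subgroup.closure {g | ∃ w ∈ sw, g = wprod S.gen w})
    (hsubs : (S.P.subs.all fun w => sw.any fun u => wordEq w u || wordEq w.reverse u) = true)
    {hints : List (ℕ × ℕ × Bool)} (hrots : rotsOK S.base S.P.rots.entries hints = true)
    {tree : List ℕ} {phases : List Phase} (hcert : checkCert S.P S.n tree phases = true)
    (hfix0 : wordsFixBase S.P sw = true) (htree : treeOK S.P tree 0 = true)
    (hlen : tree.length + 1 = S.n) :
    H.index = S.n ∧ ∃ e : S.G ⧸ H ≃ Fin S.n, ∀ (g : S.G) (q : S.G ⧸ H), e (g • q) = S.hom g (e q) := by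
  simp only [List.all_eq_true, List.any_eq_true, Bool.or_eq_true] at hsubs
  obtain ⟨e, -, he⟩ := CosetCert.exists_equiv S.gen_invol S.closure_gen S.base_one hrots hH
    (fun w hw => by
      obtain ⟨u, hu, h⟩ := hsubs w hw
      rcases h with h | h
      · exact Or.inl (eq_of_wordEq h ▸ hu)
      · exact Or.inr (eq_of_wordEq h ▸ hu))
    hcert S.tab hfix0 htree hlen S.hom S.hom_gen
  refine ⟨?_, e, he⟩
  rw [Subgroup.index, Nat.card_congr e, Nat.card_fin]

end

end Cfsg.Agent.CosetCert
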