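import Cfsg.Agent.Lib.Compute.CosetLower
import Cfsg.Agent.Lib.Compute.CosetOrbit

/-!
Simplicity and 3-transpositions from a certified rank-three table.
-/

set_option autoImplicit false

namespace Cfsg.Agent.CosetCert

noncomputable section

/-- Two adjacent involutions, one of them central, are equal. -/
theorem eq_of_central_braid {Q : Type*} [Group Q] {a b : Q} (ha : ∀ g, a * g = g * a) (ha2 : a * a = 1)
    (hb2 : b * b = 1) (h : (a * b) ^ 3 = 1) : b = a := by
  have hc : Commute a b := ha b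
  rw [hc.mul_pow, pow_succ a 2, pow_succ b 2, sq, sq, ha2, hb2, one_mul, one_mul] at h
  calc b = a * a * b := by rw [ha2, one_mul]
    _ = a := by rw [mul_assoc, h, mul_one]

/-- Along the edges every generator equals the central one. -/
theorem all_eq_of_central {Q : Type*} [Group Q] {f : ℕ → Q} (hinv : ∀ x, f x * f x = 1) {r : ℕ}
    (hc : ∀ g, f r * g = g * f r) :
    ∀ (E : List (ℕ × ℕ)) (S : List ℕ), (∀ i ∈ S, f i = f r) →
      (∀ p ∈ E, (f p.1 * f p.2) ^ 3 = 1) →
      (∀ i ∈ E.foldl (fun S p => if p.1 ∈ S then p.2 :: S else S) S, f i = f r) := by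
  intro E
  induction E with
  | nil => intro S hS _; exact hS
  | cons p E ih =>
    intro S hS hE
    rw [List.foldl_cons]
    refine ih _ (fun i hi => ?_) fun q hq => hE q (List.mem_cons_of_mem _ hq)
    split at hi
    · rename_i hp
      rcases List.mem_cons.1 hi with rfl | hi
      · have := hE p List.mem_cons_self
        rw [hS _ hp] at this
        exact eq_of_central_braid hc (hinv r) (hinv _) this
      · exact hS i hi
    · exact hS i hi

/-- Connected generators, one central, and a relator of odd length kill the group. -/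
theorem trivial_of_central {Q : Type*} [Group Q] {f : ℕ → Q} {k : ℕ}
    (hgen : Subgroup.closure (f '' {x | x < k}) = ⊤) (hinv : ∀ x, f x * f x = 1)
    (hc : ∀ g, f 0 * g = g * f 0) (E : List (ℕ × ℕ)) (hE : ∀ p ∈ E, (f p.1 * f p.2) ^ 3 = 1)
    (hcov : ((List.range k).all fun i =>
      decide (i ∈ E.foldl (fun S p => if p.1 ∈ S then p.2 :: S else S) [0])) = true)
    {w : List ℕ} (hwk : (w.all fun x => Nat.blt x k) = true) (hodd : Nat.beq (w.length % 2) 1 = true)
    (hw : wprod f w = 1) : ∀ g : Q, g = 1 := by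
  have hall : ∀ i < k, f i = f 0 := fun i hi => by
    simp only [List.all_eq_true, decide_eq_true_eq, List.mem_range] at hcov
    exact all_eq_of_central hinv hc E [0] (fun j hj => by rw [List.mem_singleton.1 hj]) hE i (hcov i hi)
  have hpow : ∀ v : List ℕ, (v.all fun x => Nat.blt x k) = true → wprod f v = f 0 ^ v.length := by
    intro v
    induction v with
    | nil => intro _; simp [wprod]
    | cons x v ih =>
      intro hv
      rw [List.all_cons, Bool.and_eq_true, Nat.blt_eq] at hv
      have : wprod f (x :: v) = f x * wprod f v := by simp [wprod]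
      rw [this, ih hv.2, hall x hv.1, List.length_cons, pow_succ']
  have hf0 : f 0 = 1 := by
    have h := hpow w hwk
    rw [hw] at h
    rw [← Nat.div_add_mod w.length 2, Nat.eq_of_beq_eq_true hodd, pow_add, pow_mul, sq, hinv,
      one_pow, one_mul, pow_one] at h
    exact h.symm
  intro g
  have hg : g ∈ Subgroup.closure (f '' {x | x < k}) := hgen ▸ Subgroup.mem_top g
  induction hg using Subgroup.closure_induction with
  | mem y hy => obtain ⟨x, hx, rfl⟩ := hy; rw [hall x hx, hf0]
  | one => rfl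
  | mul a b _ _ ha hb => rw [ha, hb, mul_one]
  | inv a _ ha => rw [ha, inv_one]

variable {G : Type*} [Group G]

theorem orbit_top_of_three {H : Subgroup G} {n : ℕ} (hn : H.index = n) {q1 q2 : G ⧸ H} {a b : ℕ}
    (ha : (MulAction.orbit H q1).ncard = a) (hb : (MulAction.orbit H q2).ncard = b)
    (hne : q2 ∉ MulAction.orbit H q1) (h1 : q1 ≠ ((1 : G) : G ⧸ H)) (h2 : q2 ≠ ((1 : G) : G ⧸ H))
    (hsum : 1 + a + b = n) (q : G ⧸ H) :
    q = ((1 : G) : G ⧸ H) ∨ q ∈ MulAction.orbit H q1 ∨ q ∈ MulAction.orbit H q2 := by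
  have : H.FiniteIndex := ⟨by omega⟩
  have : Finite (G ⧸ H) := Subgroup.finite_quotient_of_finiteIndex
  set q₀ : G ⧸ H := ((1 : G) : G ⧸ H)
  have hfix : ∀ h : H, h • q₀ = q₀ := fun h => by
    show (((h : G) * 1 : G) : G ⧸ H) = ((1 : G) : G ⧸ H)
    rw [QuotientGroup.eq]; simp
  have h0 : ∀ q', q' ≠ q₀ → q₀ ∉ MulAction.orbit H q' := fun q' hq' ⟨h, hh⟩ => hq' <| by
    have := congrArg (fun z => h⁻¹ • z) hh
    simpa [hfix] using this
  have hdis : Disjoint (MulAction.orbit H q1) (MulAction.orbit H q2) := by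
    rw [Set.disjoint_left]
    intro z hz1 hz2
    exact hne (MulAction.orbit_eq_iff.2 hz1 ▸ (MulAction.orbit_eq_iff.2 hz2).symm ▸
      MulAction.mem_orbit_self q2)
  have hcard : (insert q₀ (MulAction.orbit H q1 ∪ MulAction.orbit H q2)).ncard = n := by
    rw [Set.ncard_insert_of_notMem (by simp [h0 _ h1, h0 _ h2]) (Set.toFinite _),
      Set.ncard_union_eq hdis (Set.toFinite _) (Set.toFinite _)]
    omega
  have : insert q₀ (MulAction.orbit H q1 ∪ MulAction.orbit H q2) = Set.univ := by
    refine Set.eq_univ_of_forall fun z => ?_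
    by_contra hz
    have hss : insert q₀ (MulAction.orbit H q1 ∪ MulAction.orbit H q2) ⊂ Set.univ :=
      Set.ssubset_univ_iff.2 fun h => hz (by rw [h]; exact Set.mem_univ z)
    have hlt := Set.ncard_lt_ncard hss
      Set.finite_univ
    rw [hcard, Set.ncard_univ, ← Subgroup.index_eq_card, hn] at hlt
    exact lt_irrefl _ hlt
  have hq : q ∈ insert q₀ (MulAction.orbit H q1 ∪ MulAction.orbit H q2) := this ▸ Set.mem_univ q
  simpa [or_assoc] using hq

/-- Three suborbits whose partial sums do not divide the degree: the stabiliser is maximal. -/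
theorem maximal_of_three {H : Subgroup G} {n : ℕ} (hn : H.index = n) {q1 q2 : G ⧸ H} {a b : ℕ}
    (ha : (MulAction.orbit H q1).ncard = a) (hb : (MulAction.orbit H q2).ncard = b)
    (hne : q2 ∉ MulAction.orbit H q1) (h1 : q1 ≠ ((1 : G) : G ⧸ H)) (h2 : q2 ≠ ((1 : G) : G ⧸ H))
    (hsum : 1 + a + b = n) (hda : ¬ (1 + a) ∣ n) (hdb : ¬ (1 + b) ∣ n) (hn0 : 0 < n)
    {M : Subgroup G} (hM : H ≤ M) : M = H ∨ M = ⊤ := by
  have : H.FiniteIndex := ⟨by omega⟩
  have : Finite (G ⧸ H) := Subgroup.finite_quotient_of_finiteIndex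
  set q₀ : G ⧸ H := ((1 : G) : G ⧸ H) with hq₀
  set T := MulAction.orbit M q₀ with hT
  have hstab : MulAction.stabilizer M q₀ = H.subgroupOf M := by
    ext m
    rw [MulAction.mem_stabilizer_iff, Subgroup.mem_subgroupOf]
    show (((m : G) * 1 : G) : G ⧸ H) = ((1 : G) : G ⧸ H) ↔ _
    rw [QuotientGroup.eq]
    simp
  have hcard : T.ncard = H.relIndex M := by
    rw [hT, ← MulAction.index_stabilizer, hstab]
    rfl
  have hmul := Subgroup.relIndex_mul_index hM
  rw [hn, ← hcard] at hmul
  have hdvd : T.ncard ∣ n := Dvd.intro _ hmul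
  have hsub : ∀ q ∈ T, MulAction.orbit H q ⊆ T := by
    rintro q hq _ ⟨h, rfl⟩
    exact MulAction.mem_orbit_of_mem_orbit (⟨h, hM h.2⟩ : M) hq
  have hcov := orbit_top_of_three hn ha hb hne h1 h2 hsum
  have h0 : ∀ q', q' ≠ q₀ → q₀ ∉ MulAction.orbit H q' := fun q' hq' ⟨h, hh⟩ => hq' <| by
    have := congrArg (fun z => h⁻¹ • z) hh
    have hf : ∀ h : H, h • q₀ = q₀ := fun h => by
      show (((h : G) * 1 : G) : G ⧸ H) = ((1 : G) : G ⧸ H)
      rw [QuotientGroup.eq]; simp
    simpa [hf] using this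
  have hq0T : q₀ ∈ T := MulAction.mem_orbit_self _
  by_cases hA : q1 ∈ T <;> by_cases hB : q2 ∈ T
  · right
    have : T = Set.univ := Set.eq_univ_of_forall fun z => by
      rcases hcov z with rfl | h | h
      · exact hq0T
      · exact hsub _ hA h
      · exact hsub _ hB h
    rw [this, Set.ncard_univ, ← Subgroup.index_eq_card, hn] at hmul
    exact Subgroup.index_eq_one.1 (by nlinarith)
  · exfalso
    have : T = insert q₀ (MulAction.orbit H q1) := Set.Subset.antisymm (fun z hz => by
        rcases hcov z with rfl | h | h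
        · exact Set.mem_insert _ _
        · exact Set.mem_insert_of_mem _ h
        · exact absurd (hsub _ hz (MulAction.mem_orbit_symm.1 h)) hB)
      (Set.insert_subset hq0T (hsub _ hA))
    rw [this, Set.ncard_insert_of_notMem (h0 _ h1) (Set.toFinite _), ha, add_comm] at hdvd
    exact hda hdvd
  · exfalso
    have : T = insert q₀ (MulAction.orbit H q2) := Set.Subset.antisymm (fun z hz => by
        rcases hcov z with rfl | h | h
        · exact Set.mem_insert _ _
        · exact absurd (hsub _ hz (MulAction.mem_orbit_symm.1 h)) hA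
        · exact Set.mem_insert_of_mem _ h)
      (Set.insert_subset hq0T (hsub _ hB))
    rw [this, Set.ncard_insert_of_notMem (h0 _ h2) (Set.toFinite _), hb, add_comm] at hdvd
    exact hdb hdvd
  · left
    refine le_antisymm (fun m hm => ?_) hM
    have hz : (⟨m, hm⟩ : M) • q₀ ∈ T := MulAction.mem_orbit _ _
    rcases hcov ((⟨m, hm⟩ : M) • q₀) with h | h | h
    · have h' : (⟨m, hm⟩ : M) ∈ MulAction.stabilizer M q₀ := h
      rwa [hstab, Subgroup.mem_subgroupOf] at h'
    · exact absurd (hsub _ hz (MulAction.mem_orbit_symm.1 h)) hA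
    · exact absurd (hsub _ hz (MulAction.mem_orbit_symm.1 h)) hB

/-- A normal subgroup inside the point stabiliser of a faithful coset action is trivial. -/
theorem eq_bot_of_le_stab {H : Subgroup G} {n : ℕ} {e : G ⧸ H ≃ Fin n} {φ : G →* Equiv.Perm (Fin n)}
    (he : ∀ (g : G) (q : G ⧸ H), e (g • q) = φ g (e q)) (hinj : Function.Injective φ)
    {N : Subgroup G} (hN : N.Normal) (hle : N ≤ H) : N = ⊥ := by
  rw [eq_bot_iff]
  intro x hx
  rw [Subgroup.mem_bot]
  refine hinj ?_
  rw [map_one]
  refine Equiv.ext fun c => ?_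
  obtain ⟨q, rfl⟩ := e.surjective c
  rw [← he, Equiv.Perm.one_apply]
  congr 1
  refine QuotientGroup.induction_on q fun g => ?_
  show ((x * g : G) : G ⧸ H) = (g : G ⧸ H)
  rw [QuotientGroup.eq]
  have := hN.conj_mem x hx g⁻¹
  rw [inv_inv] at this
  have h := inv_mem (hle this)
  simpa [mul_assoc] using h

/-- A maximal core-free subgroup centralising an element whose centrality kills every quotient. -/
theorem isSimple_of_maximal {H : Subgroup G} [Nontrivial G]
    (hmax : ∀ M : Subgroup G, H ≤ M → M = H ∨ M = ⊤)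
    (hcore : ∀ N : Subgroup G, N.Normal → N ≤ H → N = ⊥) {x₀ : G} (hx : ∀ h ∈ H, x₀ * h = h * x₀)
    (hkill : ∀ N : Subgroup G, N.Normal → (∀ g, x₀ * g * x₀⁻¹ * g⁻¹ ∈ N) → N = ⊤) :
    IsSimpleGroup G where
  eq_bot_or_eq_top_of_normal N hN := by
    by_cases hle : N ≤ H
    · exact Or.inl (hcore N hN hle)
    right
    rcases hmax (N ⊔ H) le_sup_right with h | h
    · exact absurd (h ▸ le_sup_left) hle
    refine hkill N hN fun g => ?_
    have hg : g ∈ ((N ⊔ H : Subgroup G) : Set G) := by rw [h]; exact Subgroup.mem_top g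
    rw [Subgroup.normal_mul] at hg
    obtain ⟨a, ha, b, hb, rfl⟩ := hg
    have hb' := hx b hb
    have e : x₀ * (a * b) * x₀⁻¹ * (a * b)⁻¹ = (x₀ * a * x₀⁻¹) * a⁻¹ := by
      rw [mul_inv_rev]
      calc x₀ * (a * b) * x₀⁻¹ * (b⁻¹ * a⁻¹) = x₀ * a * (b * x₀⁻¹ * b⁻¹) * a⁻¹ := by group
        _ = x₀ * a * x₀⁻¹ * a⁻¹ := by
          have hbx : b * x₀⁻¹ = x₀⁻¹ * b :=
            (show Commute b x₀ from hb'.symm).inv_right.eq
          rw [hbx, mul_assoc x₀⁻¹, mul_inv_cancel, mul_one]
    rw [e]
    exact mul_mem (hN.conj_mem a ha x₀) (inv_mem ha)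

end

end Cfsg.Agent.CosetCert
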