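import Mathlib.GroupTheory.Perm.Basic
import Mathlib.GroupTheory.GroupAction.Basic
import Mathlib.GroupTheory.OrderOfElement
import Mathlib.Data.Nat.Bitwise
import Mathlib.SetTheory.Cardinal.Finite
import Mathlib.Tactic

/-!
Kernel-efficient certificates for permutation groups (verified Schreier–Sims).

* A permutation of `Fin n` is coded as one natural number, `w` bits per image.
* A certificate lists derived elements (each a product of earlier ones) and, for each level of a
  stabiliser chain, the generators and the transversal; `checkCert` verifies the Schreier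
  condition.  `cert_card` then gives the order of the generated subgroup.

The checker is meant for `decide +kernel` (no compiler evaluation).
-/

namespace Cfsg.Agent.PermCert

/-! ### Packed sequences -/

/-- Entry `i` of a packed sequence with `w` bits per entry. -/
def get (w p i : ℕ) : ℕ := (p >>> (w * i)) % 2 ^ w

/-- Pack `f 0, …, f (n-1)` with `w` bits per entry. -/
def pack (w : ℕ) (f : ℕ → ℕ) (n : ℕ) : ℕ :=
  Nat.rec 0 (fun i acc => acc + ((f i % 2 ^ w) <<< (w * i))) n

theorem pack_succ (w : ℕ) (f : ℕ → ℕ) (n : ℕ) :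
    pack w f (n + 1) = pack w f n + ((f n % 2 ^ w) <<< (w * n)) := rfl

theorem pack_lt (w : ℕ) (f : ℕ → ℕ) : ∀ n, pack w f n < 2 ^ (w * n) := by
  intro n
  induction n with
  | zero => simp [pack]
  | succ n ih =>
    rw [pack_succ, Nat.shiftLeft_eq, Nat.mul_succ, pow_add]
    have h1 : f n % 2 ^ w + 1 ≤ 2 ^ w := Nat.mod_lt _ (Nat.two_pow_pos w)
    nlinarith [Nat.two_pow_pos (w * n)]

theorem get_pack (w : ℕ) (f : ℕ → ℕ) : ∀ n i, i < n → get w (pack w f n) i = f i % 2 ^ w := by
  intro n
  induction n with
  | zero => intro i hi; omega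
  | succ n ih =>
    intro i hi
    have hp := pack_lt w f n
    rw [pack_succ]
    rcases Nat.lt_succ_iff_lt_or_eq.mp hi with h | h
    · have key : (pack w f n + (f n % 2 ^ w) <<< (w * n)) % 2 ^ (w * (i + 1))
          = pack w f n % 2 ^ (w * (i + 1)) := by
        have hle : w * (i + 1) ≤ w * n := Nat.mul_le_mul_left w h
        rw [Nat.shiftLeft_eq]
        obtain ⟨k, hk⟩ := pow_dvd_pow 2 hle
        rw [hk, show f n % 2 ^ w * (2 ^ (w * (i + 1)) * k)
          = 2 ^ (w * (i + 1)) * (f n % 2 ^ w * k) by ring, Nat.add_mul_mod_self_left]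
      have hget : ∀ x, get w x i = x % 2 ^ (w * (i + 1)) / 2 ^ (w * i) := by
        intro x
        rw [get, Nat.shiftRight_eq_div_pow, Nat.mul_succ, pow_add, Nat.mod_mul_right_div_self]
      rw [hget, key, ← hget, ih i h]
    · subst h
      rw [get, Nat.shiftRight_eq_div_pow, Nat.shiftLeft_eq,
        Nat.add_mul_div_right _ _ (Nat.two_pow_pos _), Nat.div_eq_of_lt hp, Nat.zero_add,
        Nat.mod_mod]

/-- Code of the composition `i ↦ p (q i)`. -/
def comp (w n p q : ℕ) : ℕ := pack w (fun i => get w p (get w q i)) n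

theorem get_lt (w p i : ℕ) : get w p i < 2 ^ w := Nat.mod_lt _ (Nat.two_pow_pos w)

theorem get_comp (w n p q i : ℕ) (hi : i < n) : get w (comp w n p q) i = get w p (get w q i) := by
  rw [comp, get_pack _ _ _ _ hi, Nat.mod_eq_of_lt (get_lt _ _ _)]

/-- Code of the identity. -/
def idCode (w n : ℕ) : ℕ := pack w (fun i => i) n

theorem get_idCode (w n i : ℕ) (hn : n ≤ 2 ^ w) (hi : i < n) : get w (idCode w n) i = i := by
  rw [idCode, get_pack _ _ _ _ hi, Nat.mod_eq_of_lt (lt_of_lt_of_le hi hn)]

/-- All of `0, …, n-1` satisfy `f`. -/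
def allBelow (f : ℕ → Bool) (n : ℕ) : Bool :=
  Nat.rec true (fun i acc => acc && f i) n

theorem allBelow_spec (f : ℕ → Bool) : ∀ n, allBelow f n = true → ∀ i < n, f i = true := by
  intro n
  induction n with
  | zero => intro _ i hi; omega
  | succ n ih =>
    intro h i hi
    have h' : allBelow f n = true ∧ f n = true := by
      simpa [allBelow, Bool.and_eq_true] using h
    rcases Nat.lt_succ_iff_lt_or_eq.mp hi with h1 | h1
    · exact ih h'.1 i h1
    · exact h1 ▸ h'.2

/-! ### Codes representing permutations -/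

/-- A pair of codes: a permutation and its inverse. -/
abbrev Elt : Type := ℕ × ℕ

/-- The code `e` represents the permutation `σ`. -/
def Rep (w : ℕ) {n : ℕ} (e : Elt) (σ : Equiv.Perm (Fin n)) : Prop :=
  ∀ i : Fin n, get w e.1 i = (σ i : ℕ) ∧ get w e.2 i = (σ⁻¹ i : ℕ)

/-- Product of two codes. -/
def mul (w n : ℕ) (a b : Elt) : Elt := (comp w n a.1 b.1, comp w n b.2 a.2)

/-- The identity code. -/
def one (w n : ℕ) : Elt := (idCode w n, idCode w n)

theorem rep_one {w n : ℕ} (hn : n ≤ 2 ^ w) : Rep w (n := n) (one w n) 1 := by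
  intro i
  simp [one, get_idCode w n i hn i.2]

theorem rep_mul {w n : ℕ} {a b : Elt} {σ τ : Equiv.Perm (Fin n)} (ha : Rep w a σ) (hb : Rep w b τ) :
    Rep w (mul w n a b) (σ * τ) := by
  intro i
  refine ⟨?_, ?_⟩
  · rw [mul, get_comp _ _ _ _ _ i.2, (hb i).1, (ha (τ i)).1]; rfl
  · rw [mul, get_comp _ _ _ _ _ i.2, (ha i).2, (hb (σ⁻¹ i)).2, mul_inv_rev]; rfl

theorem rep_unique {w n : ℕ} {e : Elt} {σ τ : Equiv.Perm (Fin n)} (h₁ : Rep w e σ) (h₂ : Rep w e τ) :
    σ = τ := by
  ext i
  rw [← (h₁ i).1, (h₂ i).1]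

theorem rep_eq_code {w n : ℕ} {a b : Elt} {σ τ : Equiv.Perm (Fin n)} (ha : Rep w a σ)
    (hb : Rep w b τ) (h : a.1 = b.1) : σ = τ := by
  ext i
  rw [← (ha i).1, h, (hb i).1]

/-- Check that a pair of codes is a permutation of `0, …, n-1` and its inverse. -/
def validElt (w n : ℕ) (e : Elt) : Bool :=
  allBelow (fun i => Nat.blt (get w e.1 i) n && Nat.blt (get w e.2 i) n &&
    Nat.beq (get w e.1 (get w e.2 i)) i && Nat.beq (get w e.2 (get w e.1 i)) i) n

/-- The permutation coded by a valid pair (the identity for an invalid one). -/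
def toPerm (w n : ℕ) (e : Elt) : Equiv.Perm (Fin n) :=
  if h : validElt w n e = true then
    { toFun := fun i => ⟨get w e.1 i, by
        have := allBelow_spec _ _ h i i.2
        simp [Bool.and_eq_true] at this; tauto⟩
      invFun := fun i => ⟨get w e.2 i, by
        have := allBelow_spec _ _ h i i.2
        simp [Bool.and_eq_true] at this; tauto⟩
      left_inv := fun i => by
        have := allBelow_spec _ _ h i i.2
        simp [Bool.and_eq_true] at this
        ext; simp; tauto
      right_inv := fun i => by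
        have := allBelow_spec _ _ h i i.2
        simp [Bool.and_eq_true] at this
        ext; simp; tauto }
  else 1

theorem rep_toPerm {w n : ℕ} {e : Elt} (h : validElt w n e = true) : Rep w e (toPerm w n e) := by
  intro i
  rw [toPerm, dif_pos h]
  exact ⟨rfl, rfl⟩

/-! ### The abstract Schreier lemma -/

section Abstract

variable {G : Type*} [Group G] {α : Type*} [MulAction G α]

/-- One level of a stabiliser chain: base point, generators, transversal. -/
abbrev Level (G α : Type*) : Type _ := α × List G × List G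

/-- All products `t₀ * t₁ * ⋯` with `tᵢ` in the `i`-th transversal. -/
def prodSet : List (Level G α) → Set G
  | [] => {1}
  | (_, _, T) :: L => {x | ∃ t ∈ T, ∃ h ∈ prodSet L, t * h = x}

/-- The generators of the first level. -/
def topGens : List (Level G α) → List G
  | [] => []
  | (_, S, _) :: _ => S

/-- The Schreier condition at every level. -/
def Good : List (Level G α) → Prop
  | [] => True
  | (b, S, T) :: L =>
    Good L ∧ (∀ t ∈ T, t ∈ Submonoid.closure {s | s ∈ S}) ∧
    (∀ s ∈ topGens L, s ∈ S ∧ s • b = b) ∧ (1 : G) ∈ T ∧ (T.map fun t => t • b).Nodup ∧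
    ∀ s ∈ S, ∀ t ∈ T, ∃ t' ∈ T, t'⁻¹ * s * t ∈ prodSet L

/-- Product of the transversal lengths. -/
def orbitProd : List (Level G α) → ℕ
  | [] => 1
  | (_, _, T) :: L => T.length * orbitProd L

theorem prodSet_eq : ∀ L : List (Level G α), Good L →
    prodSet L = (Submonoid.closure {s | s ∈ topGens L} : Set G) := by
  intro L
  induction L with
  | nil => intro _; simp [prodSet, topGens]
  | cons l L ih =>
    obtain ⟨b, S, T⟩ := l
    intro hg
    obtain ⟨hL, hT, hsub, h1, -, hS⟩ := hg
    have ih := ih hL
    have hLsub : prodSet L ⊆ (Submonoid.closure {s | s ∈ S} : Set G) := by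
      rw [ih]
      exact Submonoid.closure_mono fun s hs => (hsub s hs).1
    apply Set.Subset.antisymm
    · rintro x ⟨t, ht, h, hh, rfl⟩
      exact mul_mem (hT t ht) (hLsub hh)
    · intro x hx
      have hclosed : ∀ y ∈ Submonoid.closure {s | s ∈ S}, ∀ z ∈ prodSet ((b, S, T) :: L),
          y * z ∈ prodSet ((b, S, T) :: L) := by
        intro y hy
        induction hy using Submonoid.closure_induction with
        | mem s hs =>
          rintro z ⟨t, ht, h, hh, rfl⟩
          obtain ⟨t', ht', hmem⟩ := hS s hs t ht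
          refine ⟨t', ht', t'⁻¹ * s * t * h, ?_, by group⟩
          rw [ih] at hmem hh ⊢
          exact mul_mem hmem hh
        | one => simp
        | mul p q _ _ hp hq => intro z hz; rw [mul_assoc]; exact hp _ (hq _ hz)
      have := hclosed x hx 1 ⟨1, h1, 1, by rw [ih]; exact one_mem _, by simp⟩
      simpa using this

theorem fix_of_mem_prodSet {b : α} {S T : List G} {L : List (Level G α)}
    (hg : Good ((b, S, T) :: L)) {h : G} (hh : h ∈ prodSet L) : h • b = b := by
  rw [prodSet_eq L hg.1] at hh
  have hsub : {s | s ∈ topGens L} ⊆ ((MulAction.stabilizer G b).toSubmonoid : Set G) :=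
    fun s hs => (hg.2.2.1 s hs).2
  exact Submonoid.closure_le.2 hsub hh

theorem ncard_prodSet : ∀ L : List (Level G α), Good L →
    (prodSet L).Finite ∧ (prodSet L).ncard = orbitProd L := by
  intro L
  induction L with
  | nil => intro _; simp [prodSet, orbitProd]
  | cons l L ih =>
    obtain ⟨b, S, T⟩ := l
    intro hg
    obtain ⟨hfin, hcard⟩ := ih hg.1
    have hnd := hg.2.2.2.2.1
    have heq : prodSet ((b, S, T) :: L)
        = (fun p : G × G => p.1 * p.2) '' ({t | t ∈ T} ×ˢ prodSet L) := by
      ext x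
      constructor
      · rintro ⟨t, ht, h, hh, rfl⟩; exact ⟨(t, h), ⟨ht, hh⟩, rfl⟩
      · rintro ⟨⟨t, h⟩, ⟨ht, hh⟩, rfl⟩; exact ⟨t, ht, h, hh, rfl⟩
    have hTfin : {t : G | t ∈ T}.Finite := T.finite_toSet
    refine ⟨heq ▸ (hTfin.prod hfin).image _, ?_⟩
    rw [heq, Set.InjOn.ncard_image, Set.ncard_prod, hcard]
    · have hT : T.Nodup := hnd.of_map _
      classical
      have : {t : G | t ∈ T} = (T.toFinset : Set G) := by ext; simp
      rw [this, Set.ncard_coe_finset, List.toFinset_card_of_nodup hT]
      rfl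
    · rintro ⟨t, h⟩ ⟨ht, hh⟩ ⟨t', h'⟩ ⟨ht', hh'⟩ (he : t * h = t' * h')
      have hb : t • b = t' • b := by
        have := congrArg (· • b) he
        simpa [mul_smul, fix_of_mem_prodSet hg hh, fix_of_mem_prodSet hg hh'] using this
      have htt : t = t' := List.inj_on_of_nodup_map hnd ht ht' hb
      subst htt
      simpa using he

theorem closure_carrier [Finite G] (s : Set G) :
    (Subgroup.closure s : Set G) = (Submonoid.closure s : Set G) := by
  rw [← Subgroup.closure_toSubmonoid_of_finite (s := s)]
  rfl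

theorem good_card [Finite G] {L : List (Level G α)} (hg : Good L) :
    Nat.card (Subgroup.closure {s | s ∈ topGens L}) = orbitProd L := by
  show Nat.card ((Subgroup.closure {s | s ∈ topGens L} : Subgroup G) : Set G) = _
  rw [Nat.card_coe_set_eq, closure_carrier, ← prodSet_eq L hg]
  exact (ncard_prodSet L hg).2

/-- `H` is no larger than the chain: at each level an element of `H` fixing the earlier base points
moves the base point inside the transversal, and only the identity fixes all base points. -/
def Upper (H : Subgroup G) : Set α → List (Level G α) → Prop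
  | F, [] => ∀ σ ∈ H, (∀ x ∈ F, σ • x = x) → σ = 1
  | F, (b, _, T) :: L =>
    (∀ σ ∈ H, (∀ x ∈ F, σ • x = x) → ∃ t ∈ T, t • b = σ • b) ∧ Upper H (insert b F) L

theorem mem_prodSet_of_upper {H : Subgroup G} :
    ∀ (L : List (Level G α)) (F : Set α), Good L → Upper H F L →
      (∀ s ∈ topGens L, s ∈ H ∧ ∀ x ∈ F, s • x = x) →
      ∀ σ ∈ H, (∀ x ∈ F, σ • x = x) → σ ∈ prodSet L := by
  intro L
  induction L with
  | nil => intro F _ hu _ σ hσ hfix; exact hu σ hσ hfix
  | cons l L ih =>
    obtain ⟨b, S, T⟩ := l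
    intro F hg hu hS σ hσ hfix
    obtain ⟨t, ht, htb⟩ := hu.1 σ hσ hfix
    have hT : ∀ y ∈ Submonoid.closure {s | s ∈ S}, y ∈ H ∧ ∀ x ∈ F, y • x = x := by
      intro y hy
      induction hy using Submonoid.closure_induction with
      | mem s hs => exact hS s hs
      | one => exact ⟨one_mem _, fun x _ => one_smul _ x⟩
      | mul p q _ _ hp hq =>
        exact ⟨mul_mem hp.1 hq.1, fun x hx => by rw [mul_smul, hq.2 x hx, hp.2 x hx]⟩
    obtain ⟨htH, htfix⟩ := hT t (hg.2.1 t ht)
    have hsub : ∀ s ∈ topGens L, s ∈ H ∧ ∀ x ∈ insert b F, s • x = x := by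
      intro s hs
      obtain ⟨hsS, hsb⟩ := hg.2.2.1 s hs
      refine ⟨(hS s hsS).1, fun x hx => ?_⟩
      rcases hx with rfl | hx
      · exact hsb
      · exact (hS s hsS).2 x hx
    refine ⟨t, ht, t⁻¹ * σ, ih (insert b F) hg.1 hu.2 hsub _ (mul_mem (inv_mem htH) hσ) ?_,
      by group⟩
    intro x hx
    rcases hx with rfl | hx
    · rw [mul_smul, ← htb, inv_smul_smul]
    · rw [mul_smul, hfix x hx, inv_smul_eq_iff]
      exact (htfix x hx).symm

/-- The first `k` transversals reach every point outside the earlier base points. -/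
def Full : Set α → List (Level G α) → ℕ → Prop
  | _, _, 0 => True
  | _, [], _ + 1 => False
  | F, (b, _, T) :: L, k + 1 => (∀ x, x ∉ F → ∃ t ∈ T, t • b = x) ∧ Full (insert b F) L k

theorem reach : ∀ (k : ℕ) (L : List (Level G α)) (F : Set α), Good L → Full F L k →
    (∀ s ∈ topGens L, ∀ x ∈ F, s • x = x) →
    ∀ xs : List α, xs.length = k → xs.Nodup → (∀ x ∈ xs, x ∉ F) →
      ∃ g ∈ prodSet L, ((L.map fun l => l.1).take k).map (fun b => g • b) = xs := by
  intro k
  induction k with
  | zero =>
    intro L F hg _ _ xs hl _ _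
    refine ⟨1, ?_, by simp [List.length_eq_zero_iff.1 hl]⟩
    rw [prodSet_eq L hg]; exact one_mem _
  | succ k ih =>
    intro L F hg hf hS xs hl hnd havoid
    cases L with
    | nil => exact hf.elim
    | cons l L =>
      obtain ⟨b, S, T⟩ := l
      cases xs with
      | nil => simp at hl
      | cons x xs =>
        obtain ⟨t, ht, htb⟩ := hf.1 x (havoid x List.mem_cons_self)
        have hfix : ∀ y ∈ F, t • y = y := by
          suffices hall : ∀ u ∈ Submonoid.closure {s | s ∈ S}, ∀ y ∈ F, u • y = y from
            hall t (hg.2.1 t ht)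
          intro u hu
          induction hu using Submonoid.closure_induction with
          | mem s hs => exact hS s hs
          | one => exact fun y _ => one_smul _ y
          | mul p q _ _ hp hq => exact fun y hy => by rw [mul_smul, hq y hy, hp y hy]
        have hsub : ∀ s ∈ topGens L, ∀ y ∈ insert b F, s • y = y := by
          intro s hs y hy
          obtain ⟨hsS, hsb⟩ := hg.2.2.1 s hs
          rcases hy with rfl | hy
          · exact hsb
          · exact hS s hsS y hy
        have hnd' := List.nodup_cons.1 hnd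
        obtain ⟨g, hgm, hg'⟩ := ih L (insert b F) hg.1 hf.2 hsub (xs.map fun y => t⁻¹ • y)
          (by simpa using hl) (hnd'.2.map (MulAction.injective t⁻¹)) (by
            intro y hy
            obtain ⟨z, hz, rfl⟩ := List.mem_map.1 hy
            intro hmem
            rw [Set.mem_insert_iff, inv_smul_eq_iff] at hmem
            rcases hmem with h | h
            · exact hnd'.1 (by rwa [h, htb] at hz)
            · refine havoid z (List.mem_cons_of_mem _ hz) ?_
              have := hfix _ h
              rw [smul_inv_smul] at this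
              rwa [← this] at h)
        refine ⟨t * g, ⟨t, ht, g, hgm, rfl⟩, ?_⟩
        have hfun : (fun b : α => (t * g) • b) = (fun y : α => t • y) ∘ fun b : α => g • b := by
          funext y; exact mul_smul t g y
        rw [List.map_cons, List.take_succ_cons, List.map_cons, hfun, ← List.map_map, hg', List.map_map]
        congr 1
        · rw [mul_smul, fix_of_mem_prodSet hg hgm, htb]
        · simp [Function.comp_def]

end Abstract

/-! ### The checker -/

/-- A certificate level: base point, generators, transversal (image of the base point and code). -/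
abbrev CLevel : Type := ℕ × List Elt × List (ℕ × Elt × ℕ × ℕ)

/-- Membership of a code in a list of codes. -/
def memCode (e : Elt) (l : List Elt) : Bool := l.any fun x => Nat.beq x.1 e.1 && Nat.beq x.2 e.2

/-- Check that `e` is the product of the word `u` in `pool`. -/
def wordProd (w n : ℕ) (pool : List Elt) (u : List ℕ) : Elt :=
  u.foldl (fun acc k => mul w n acc (pool.getD k (one w n))) (one w n)

/-- Check the list of derived elements, extending the pool. -/
def checkDerived (w n : ℕ) : List Elt → List (Elt × List ℕ) → Bool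
  | _, [] => true
  | pool, (e, u) :: rest =>
    (let r := wordProd w n pool u; Nat.beq r.1 e.1 && Nat.beq r.2 e.2) &&
      checkDerived w n (pool ++ [e]) rest

/-- Sift a code through the levels. -/
def sift (w n : ℕ) : List CLevel → ℕ → Bool
  | [], g => Nat.beq g (idCode w n)
  | (b, _, T) :: L, g =>
    match T.find? (fun t => Nat.beq t.1 (get w g b)) with
    | none => false
    | some t => sift w n L (comp w n t.2.1.2 g)

/-- The generators of the first certificate level. -/
def topCodes : List CLevel → List Elt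
  | [] => []
  | (_, S, _) :: _ => S

/-- Check a transversal: the first entry is the identity, each later one is a generator times an
earlier entry. -/
def checkTree (w n b : ℕ) (S : List Elt) : List Elt → List (ℕ × Elt × ℕ × ℕ) → Bool
  | _, [] => true
  | prev, (x, e, i, j) :: rest =>
    (let r := mul w n (S.getD j (one w n)) (prev.getD i (one w n))
     Nat.beq r.1 e.1 && Nat.beq r.2 e.2) && Nat.beq (get w e.1 b) x &&
      checkTree w n b S (prev ++ [e]) rest

/-- Check the base points distinctness of a transversal. -/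
def distinctKeys : List ℕ → Bool
  | [] => true
  | x :: l => !(l.any fun y => Nat.beq x y) && distinctKeys l

/-- Check one certificate level above checked levels `L`. -/
def checkLevels (w n : ℕ) : List CLevel → Bool
  | [] => true
  | (b, S, T) :: L =>
    checkLevels w n L && Nat.blt b n &&
    (match T with
     | [] => false
     | (x, e, _, _) :: rest =>
        Nat.beq e.1 (idCode w n) && Nat.beq e.2 (idCode w n) && Nat.beq x b &&
          checkTree w n b S [e] rest) &&
    distinctKeys (T.map fun t => t.1) &&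
    ((topCodes L).all fun s => memCode s S && Nat.beq (get w s.1 b) b) &&
    (S.all fun s => T.all fun t =>
      match T.find? (fun t' => Nat.beq t'.1 (get w s.1 t.1)) with
      | none => false
      | some t' => sift w n L (comp w n t'.2.1.2 (comp w n s.1 t.2.1.1)))

/-- The whole certificate. -/
def checkCert (w n : ℕ) (gens : List Elt) (derived : List (Elt × List ℕ)) (levels : List CLevel) :
    Bool :=
  Nat.ble n (2 ^ w) && (gens.all fun g => validElt w n g) && checkDerived w n gens derived &&
    ((topCodes levels).all fun s => memCode s (gens ++ derived.map fun d => d.1)) &&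
    checkLevels w n levels && (gens.all fun g => sift w n levels g.1)

/-- The order computed by a certificate. -/
def certOrder : List CLevel → ℕ
  | [] => 1
  | (_, _, T) :: L => T.length * certOrder L

/-! ### Soundness -/

section Soundness

variable {w n : ℕ}

theorem rep_getD {l : List Elt} (hn : n ≤ 2 ^ w) {M : Submonoid (Equiv.Perm (Fin n))}
    (h : ∀ e ∈ l, ∃ σ ∈ M, Rep w e σ) (k : ℕ) :
    ∃ σ ∈ M, Rep w (l.getD k (one w n)) σ := by
  rcases Nat.lt_or_ge k l.length with hk | hk
  · rw [List.getD_eq_getElem _ _ hk]; exact h _ (List.getElem_mem hk)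
  · rw [List.getD_eq_default _ _ hk]; exact ⟨1, one_mem _, rep_one hn⟩

theorem rep_wordProd {pool : List Elt} (hn : n ≤ 2 ^ w) {M : Submonoid (Equiv.Perm (Fin n))}
    (h : ∀ e ∈ pool, ∃ σ ∈ M, Rep w e σ) (u : List ℕ) :
    ∃ σ ∈ M, Rep w (wordProd w n pool u) σ := by
  unfold wordProd
  suffices ∀ acc : Elt, (∃ σ ∈ M, Rep w acc σ) →
      ∃ σ ∈ M, Rep w (u.foldl (fun acc k => mul w n acc (pool.getD k (one w n))) acc) σ from
    this _ ⟨1, one_mem _, rep_one hn⟩
  induction u with
  | nil => intro acc ha; simpa using ha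
  | cons k u ih =>
    rintro acc ⟨σ, hσ, hr⟩
    obtain ⟨τ, hτ, hr'⟩ := rep_getD hn h k
    exact ih _ ⟨σ * τ, mul_mem hσ hτ, rep_mul hr hr'⟩

theorem derived_spec (hn : n ≤ 2 ^ w) {M : Submonoid (Equiv.Perm (Fin n))} :
    ∀ (ds : List (Elt × List ℕ)) (pool : List Elt), (∀ e ∈ pool, ∃ σ ∈ M, Rep w e σ) →
      checkDerived w n pool ds = true →
      ∀ e ∈ pool ++ ds.map (fun d => d.1), ∃ σ ∈ M, Rep w e σ := by
  intro ds
  induction ds with
  | nil => intro pool hp _; simpa using hp
  | cons d ds ih =>
    obtain ⟨e, u⟩ := d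
    intro pool hp hc
    simp only [checkDerived, Bool.and_eq_true, Nat.beq_eq] at hc
    obtain ⟨⟨h1, h2⟩, hrest⟩ := hc
    have he : wordProd w n pool u = e := Prod.ext h1 h2
    have := ih (pool ++ [e]) (fun x hx => by
      rcases List.mem_append.1 hx with h | h
      · exact hp x h
      · rw [List.mem_singleton.1 h, ← he]; exact rep_wordProd hn hp u) hrest
    simpa using this

theorem memCode_spec {e : Elt} {l : List Elt} (h : memCode e l = true) : e ∈ l := by
  simp only [memCode, List.any_eq_true, Bool.and_eq_true, Nat.beq_eq] at h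
  obtain ⟨x, hx, h1, h2⟩ := h
  exact (Prod.ext h1 h2 : x = e) ▸ hx

/-- Interpretation of certificate levels. -/
noncomputable def interp (w n : ℕ) [NeZero n] :
    List CLevel → List (Level (Equiv.Perm (Fin n)) (Fin n))
  | [] => []
  | (b, S, T) :: L =>
    (Fin.ofNat n b, S.map (fun e => Classical.epsilon fun σ => Rep w e σ),
      T.map (fun t => Classical.epsilon fun σ => Rep w t.2.1 σ)) :: interp w n L

theorem epsilon_rep {e : Elt} {σ : Equiv.Perm (Fin n)} (h : Rep w e σ) :
    (Classical.epsilon fun τ => Rep w e τ) = σ :=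
  rep_unique (Classical.epsilon_spec ⟨σ, h⟩) h

theorem topGens_interp [NeZero n] (L : List CLevel) :
    topGens (interp w n L) = (topCodes L).map (fun e => Classical.epsilon fun σ => Rep w e σ) := by
  cases L with
  | nil => rfl
  | cons l L => rfl

theorem orbitProd_interp [NeZero n] :
    ∀ L : List CLevel, orbitProd (interp w n L) = certOrder L := by
  intro L
  induction L with
  | nil => rfl
  | cons l L ih => simp [interp, orbitProd, certOrder, ih]

/-- Every code of every level is a representative. -/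
def AllRep (w n : ℕ) : List CLevel → Prop
  | [] => True
  | (_, S, T) :: L =>
    (∀ e ∈ S, ∃ σ : Equiv.Perm (Fin n), Rep w e σ) ∧
      (∀ t ∈ T, ∃ σ : Equiv.Perm (Fin n), Rep w t.2.1 σ) ∧ AllRep w n L

theorem sift_spec [NeZero n] (hn : n ≤ 2 ^ w) : ∀ L : List CLevel, AllRep w n L → ∀ g g' : ℕ,
    ∀ σ : Equiv.Perm (Fin n), Rep w (g, g') σ → sift w n L g = true →
      σ ∈ prodSet (interp w n L) := by
  intro L
  induction L with
  | nil =>
    intro _ g g' σ hr h
    simp only [sift, Nat.beq_eq] at h
    have : σ = 1 := rep_eq_code hr (rep_one hn) h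
    simp [interp, prodSet, this]
  | cons l L ih =>
    obtain ⟨b, S, T⟩ := l
    intro ha g g' σ hr h
    simp only [sift] at h
    split at h
    · exact absurd h (by simp)
    · rename_i t ht
      obtain ⟨τ, hτ⟩ := ha.2.1 t (List.mem_of_find?_eq_some ht)
      have hτ' : Rep w (t.2.1.2, t.2.1.1) τ⁻¹ := fun i => by
        rw [inv_inv]; exact ⟨(hτ i).2, (hτ i).1⟩
      have := ih ha.2.2 _ (comp w n g' t.2.1.1) (τ⁻¹ * σ)
        (rep_mul hτ' hr) h
      refine ⟨τ, List.mem_map.2 ⟨t, List.mem_of_find?_eq_some ht, epsilon_rep hτ⟩, τ⁻¹ * σ, this,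
        by group⟩

theorem tree_spec {b : ℕ} {S : List Elt} (hn : n ≤ 2 ^ w) {M : Submonoid (Equiv.Perm (Fin n))}
    (hS : ∀ e ∈ S, ∃ σ ∈ M, Rep w e σ) :
    ∀ (T : List (ℕ × Elt × ℕ × ℕ)) (prev : List Elt), (∀ e ∈ prev, ∃ σ ∈ M, Rep w e σ) →
      checkTree w n b S prev T = true →
      ∀ t ∈ T, (∃ σ ∈ M, Rep w t.2.1 σ) ∧ get w t.2.1.1 b = t.1 := by
  intro T
  induction T with
  | nil => intro prev _ _ t ht; simp at ht
  | cons hd T ih =>
    obtain ⟨x, e, i, j⟩ := hd
    intro prev hp hc t ht
    simp only [checkTree, Bool.and_eq_true, Nat.beq_eq] at hc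
    obtain ⟨⟨⟨h1, h2⟩, hx⟩, hrest⟩ := hc
    have he : ∃ σ ∈ M, Rep w e σ := by
      obtain ⟨σ, hσ, hrσ⟩ := rep_getD hn hS j
      obtain ⟨τ, hτ, hrτ⟩ := rep_getD hn hp i
      exact ⟨σ * τ, mul_mem hσ hτ, (Prod.ext h1 h2 : _ = e) ▸ rep_mul hrσ hrτ⟩
    rcases List.mem_cons.1 ht with h | h
    · subst h; exact ⟨he, hx⟩
    · refine ih (prev ++ [e]) (fun y hy => ?_) hrest t h
      rcases List.mem_append.1 hy with h' | h'
      · exact hp y h'
      · rw [List.mem_singleton.1 h']; exact he

theorem distinctKeys_spec : ∀ l : List ℕ, distinctKeys l = true → l.Nodup := by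
  intro l
  induction l with
  | nil => intro _; exact List.nodup_nil
  | cons x l ih =>
    intro h
    simp only [distinctKeys, Bool.and_eq_true, Bool.not_eq_true', List.any_eq_false, Nat.beq_eq] at h
    exact List.nodup_cons.2 ⟨fun hx => h.1 x hx rfl, ih h.2⟩

set_option maxHeartbeats 4000000 in
theorem levels_spec [NeZero n] (hn : n ≤ 2 ^ w) : ∀ L : List CLevel, checkLevels w n L = true →
    (∀ e ∈ topCodes L, ∃ σ : Equiv.Perm (Fin n), Rep w e σ) →
    AllRep w n L ∧ Good (interp w n L) := by
  intro L
  induction L with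
  | nil => intro _ _; exact ⟨trivial, trivial⟩
  | cons l L ih =>
    obtain ⟨b, S, T⟩ := l
    intro hc htop
    cases T with
    | nil => simp [checkLevels] at hc
    | cons t0 T' =>
      obtain ⟨x, e, i0, j0⟩ := t0
      simp only [checkLevels, Bool.and_eq_true, List.all_eq_true, Nat.beq_eq, Nat.blt_eq] at hc
      obtain ⟨⟨⟨⟨⟨hL, hb⟩, ⟨⟨⟨he1, he2⟩, hx⟩, htree⟩⟩, hdist⟩, htopL⟩, hsch⟩ := hc
      have hinS : ∀ s ∈ topCodes L, s ∈ S := fun s hs => memCode_spec (htopL s hs).1
      obtain ⟨hallL, hgL⟩ := ih hL (fun s hs => htop s (hinS s hs))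
      have hrS : ∀ s ∈ S, Rep w s (Classical.epsilon fun τ : Equiv.Perm (Fin n) => Rep w s τ) :=
        fun s hs => Classical.epsilon_spec (htop s hs)
      set φ := fun e : Elt => Classical.epsilon fun τ : Equiv.Perm (Fin n) => Rep w e τ with hφ
      let M := Submonoid.closure {σ : Equiv.Perm (Fin n) | σ ∈ S.map φ}
      have hS : ∀ s ∈ S, ∃ σ ∈ M, Rep w s σ := fun s hs =>
        ⟨φ s, Submonoid.subset_closure (List.mem_map.2 ⟨s, hs, rfl⟩), hrS s hs⟩
      have he : Rep w e (1 : Equiv.Perm (Fin n)) :=
        (Prod.ext he1 he2 : e = one w n) ▸ rep_one hn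
      have hT : ∀ t ∈ (x, e, i0, j0) :: T',
          (∃ σ ∈ M, Rep w t.2.1 σ) ∧ get w t.2.1.1 b = t.1 := by
        intro t ht
        rcases List.mem_cons.1 ht with h | h
        · subst h
          refine ⟨⟨1, one_mem _, he⟩, ?_⟩
          show get w e.1 b = x
          rw [he1, get_idCode w n b hn hb, hx]
        · refine tree_spec hn hS T' [e] (fun y hy => ?_) htree t h
          rw [List.mem_singleton.1 hy]; exact ⟨1, one_mem _, he⟩
      have hall : AllRep w n ((b, S, (x, e, i0, j0) :: T') :: L) :=
        ⟨htop, fun t ht => let ⟨σ, _, h⟩ := (hT t ht).1; ⟨σ, h⟩, hallL⟩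
      refine ⟨hall, hgL, ?_, ?_, ?_, ?_, ?_⟩
      · intro σ hσ
        obtain ⟨t, ht, rfl⟩ := List.mem_map.1 hσ
        obtain ⟨τ, hτM, hτ⟩ := (hT t ht).1
        rw [epsilon_rep hτ]; exact hτM
      · intro σ hσ
        rw [topGens_interp] at hσ
        obtain ⟨s, hs, rfl⟩ := List.mem_map.1 hσ
        refine ⟨List.mem_map.2 ⟨s, hinS s hs, rfl⟩, ?_⟩
        apply Fin.ext
        show ((Classical.epsilon fun τ : Equiv.Perm (Fin n) => Rep w s τ) (Fin.ofNat n b) : ℕ) = _
        rw [← ((hrS s (hinS s hs)) (Fin.ofNat n b)).1]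
        simp only [Fin.val_ofNat, Nat.mod_eq_of_lt hb]
        exact (htopL s hs).2
      · exact List.mem_map.2 ⟨(x, e, i0, j0), List.mem_cons_self, epsilon_rep he⟩
      · have hnd := distinctKeys_spec _ hdist
        rw [List.map_map]
        apply List.Nodup.of_map (fun y : Fin n => (y : ℕ))
        rw [List.map_map]
        convert hnd using 1
        apply List.map_congr_left
        intro t ht
        obtain ⟨⟨σ, -, hσ⟩, hk⟩ := hT t ht
        simp only [Function.comp_apply, epsilon_rep hσ, Equiv.Perm.smul_def]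
        rw [← (hσ _).1, Fin.val_ofNat, Nat.mod_eq_of_lt hb, hk]
      · intro σ hσ τ hτ
        obtain ⟨s, hs, rfl⟩ := List.mem_map.1 hσ
        obtain ⟨t, ht, rfl⟩ := List.mem_map.1 hτ
        have hchk := hsch s hs t ht
        split at hchk
        · exact absurd hchk (by simp)
        · rename_i t' ht'
          have hmem := List.mem_of_find?_eq_some ht'
          obtain ⟨π, -, hπ⟩ := (hT t' hmem).1
          obtain ⟨τ, -, hτ'⟩ := (hT t ht).1
          refine ⟨π, List.mem_map.2 ⟨t', hmem, epsilon_rep hπ⟩, ?_⟩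
          rw [epsilon_rep hτ']
          have hπ' : Rep w (t'.2.1.2, t'.2.1.1) π⁻¹ := fun i => by
            rw [inv_inv]; exact ⟨(hπ i).2, (hπ i).1⟩
          rw [mul_assoc]
          exact sift_spec hn L hallL _ _ _ (rep_mul hπ' (rep_mul (hrS s hs) hτ')) hchk

variable {gens : List Elt} {derived : List (Elt × List ℕ)} {levels : List CLevel}

/-- The subgroup generated by the coded generators. -/
def genGroup (w n : ℕ) (gens : List Elt) : Subgroup (Equiv.Perm (Fin n)) :=
  Subgroup.closure {σ | σ ∈ gens.map (toPerm w n)}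

theorem cert_good [NeZero n] (h : checkCert w n gens derived levels = true) :
    Good (interp w n levels) ∧
      Subgroup.closure {σ | σ ∈ topGens (interp w n levels)} = genGroup w n gens := by
  simp only [checkCert, Bool.and_eq_true, List.all_eq_true, Nat.ble_eq] at h
  obtain ⟨⟨⟨⟨⟨hn, hval⟩, hder⟩, htop⟩, hlev⟩, hsift⟩ := h
  let M := (genGroup w n gens).toSubmonoid
  have hgen : ∀ g ∈ gens, ∃ σ ∈ M, Rep w g σ := fun g hg =>
    ⟨toPerm w n g, Subgroup.subset_closure (List.mem_map.2 ⟨g, hg, rfl⟩), rep_toPerm (hval g hg)⟩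
  have hpool := derived_spec hn derived gens hgen hder
  have htopM : ∀ s ∈ topCodes levels, ∃ σ ∈ M, Rep w s σ := fun s hs =>
    hpool s (memCode_spec (htop s hs))
  obtain ⟨hall, hg⟩ := levels_spec hn levels hlev (fun s hs => let ⟨σ, _, h⟩ := htopM s hs; ⟨σ, h⟩)
  refine ⟨hg, le_antisymm ?_ ?_⟩
  · rw [Subgroup.closure_le]
    intro σ hσ
    simp only [Set.mem_ofPred_eq, topGens_interp, List.mem_map] at hσ
    obtain ⟨s, hs, rfl⟩ := hσ
    obtain ⟨τ, hτM, hτ⟩ := htopM s hs
    rw [epsilon_rep hτ]; exact hτM
  · rw [genGroup, Subgroup.closure_le]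
    intro σ hσ
    obtain ⟨g, hgm, rfl⟩ := List.mem_map.1 hσ
    have := sift_spec hn levels hall g.1 g.2 _ (rep_toPerm (hval g hgm)) (hsift g hgm)
    rw [prodSet_eq _ hg] at this
    rwa [closure_carrier]

/-- **Order of a certified permutation group.** -/
theorem cert_card [NeZero n] (h : checkCert w n gens derived levels = true) :
    Nat.card (genGroup w n gens) = certOrder levels := by
  obtain ⟨hg, he⟩ := cert_good h
  rw [← he, good_card hg, orbitProd_interp]

/-- Every element that sifts to the identity lies in the certified group. -/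
theorem cert_mem [NeZero n] (h : checkCert w n gens derived levels = true) {e : Elt}
    (hv : validElt w n e = true) (hs : sift w n levels e.1 = true) :
    toPerm w n e ∈ genGroup w n gens := by
  obtain ⟨hg, he⟩ := cert_good h
  simp only [checkCert, Bool.and_eq_true, List.all_eq_true, Nat.ble_eq] at h
  obtain ⟨⟨⟨⟨⟨hn, hval⟩, hder⟩, htop⟩, hlev⟩, hsift⟩ := h
  have hpool := derived_spec hn derived gens
    (M := (⊤ : Submonoid (Equiv.Perm (Fin n))))
    (fun g hg => ⟨toPerm w n g, trivial, rep_toPerm (hval g hg)⟩) hder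
  obtain ⟨hall, -⟩ := levels_spec hn levels hlev
    (fun s hs => let ⟨σ, _, h⟩ := hpool s (memCode_spec (htop s hs)); ⟨σ, h⟩)
  rw [← he, ← SetLike.mem_coe, closure_carrier, ← prodSet_eq _ hg]
  exact sift_spec hn levels hall e.1 e.2 _ (rep_toPerm hv) hs

end Soundness

end Cfsg.Agent.PermCert
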