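import Cfsg.Agent.Lib.Compute.PermCert

/-!
When the order of a coded permutation group is known to be at most the product of the transversal
lengths, the Schreier conditions of `checkCert` hold without being evaluated: it is enough to check the
trees, the derived elements and the inclusions between the levels.
-/

set_option autoImplicit false

namespace Cfsg.Agent.PermCert

variable {w n : ℕ}

/-- One level of the light check, above the levels `L`. -/
def lightLevel (w n : ℕ) (l : CLevel) (L : List CLevel) : Bool :=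
  Nat.blt l.1 n &&
    (match l.2.2 with
     | [] => false
     | (x, e, _, _) :: rest =>
        Nat.beq e.1 (idCode w n) && Nat.beq e.2 (idCode w n) && Nat.beq x l.1 &&
          checkTree w n l.1 l.2.1 [e] rest) &&
    distinctKeys (l.2.2.map fun t => t.1) &&
    (topCodes L).all fun s => memCode s l.2.1 && Nat.beq (get w s.1 l.1) l.1

/-- The trees and inclusions of all levels. -/
def lightLevels (w n : ℕ) : List CLevel → Bool
  | [] => true
  | l :: L => lightLevels w n L && lightLevel w n l L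

/-- The certificate without the Schreier conditions. -/
def lightCert (w n : ℕ) (gens : List Elt) (derived : List (Elt × List ℕ)) (levels : List CLevel) : Bool :=
  Nat.ble n (2 ^ w) && (gens.all fun g => validElt w n g) && checkDerived w n gens derived &&
    ((topCodes levels).all fun s => memCode s (gens ++ derived.map fun d => d.1)) &&
    lightLevels w n levels && !levels.isEmpty

theorem pack_congr (w : ℕ) {f g : ℕ → ℕ} : ∀ n, (∀ i < n, f i = g i) → pack w f n = pack w g n
  | 0, _ => rfl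
  | n + 1, h => by
    rw [pack_succ, pack_succ, pack_congr w n (fun i hi => h i (by omega)), h n (by omega)]

theorem comp_eq_idCode {a b : ℕ} (h : ∀ i < n, get w a (get w b i) = i) : comp w n a b = idCode w n :=
  pack_congr w n h

/-- The mathematical content of the light check. -/
def LightSpec (w n : ℕ) : List CLevel → Prop
  | [] => True
  | (b, S, T) :: L =>
    LightSpec w n L ∧ b < n ∧ (∀ s ∈ S, ∃ σ : Equiv.Perm (Fin n), Rep w s σ) ∧
      (∀ t ∈ T, (∃ σ ∈ Submonoid.closure {σ : Equiv.Perm (Fin n) | ∃ s ∈ S, Rep w s σ}, Rep w t.2.1 σ) ∧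
        get w t.2.1.1 b = t.1) ∧
      (∀ s ∈ topCodes L, s ∈ S ∧ get w s.1 b = b) ∧
      (∃ t ∈ T, t.1 = b ∧ Rep w (n := n) t.2.1 1) ∧ (T.map fun t => t.1).Nodup

theorem lightSpec_of_check (hn : n ≤ 2 ^ w) : ∀ L : List CLevel, lightLevels w n L = true →
    (∀ e ∈ topCodes L, ∃ σ : Equiv.Perm (Fin n), Rep w e σ) → LightSpec w n L
  | [], _, _ => trivial
  | (b, S, T) :: L, hc, htop => by
    cases T with
    | nil => simp [lightLevels, lightLevel] at hc
    | cons t0 T' =>
      obtain ⟨x, e, i0, j0⟩ := t0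
      simp only [lightLevels, lightLevel, Bool.and_eq_true, List.all_eq_true, Nat.beq_eq, Nat.blt_eq] at hc
      obtain ⟨hL, ⟨⟨hb, ⟨⟨⟨he1, he2⟩, hx⟩, htree⟩⟩, hdist⟩, htopL⟩ := hc
      have hinS : ∀ s ∈ topCodes L, s ∈ S := fun s hs => memCode_spec (htopL s hs).1
      have he : Rep w e (1 : Equiv.Perm (Fin n)) := (Prod.ext he1 he2 : e = one w n) ▸ rep_one hn
      refine ⟨lightSpec_of_check hn L hL fun s hs => htop s (hinS s hs), hb, htop, fun t ht => ?_,
        fun s hs => ⟨hinS s hs, (htopL s hs).2⟩, ⟨_, List.mem_cons_self, hx, he⟩, distinctKeys_spec _ hdist⟩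
      rcases List.mem_cons.1 ht with h | h
      · subst h
        refine ⟨⟨1, one_mem _, he⟩, ?_⟩
        show get w e.1 b = x
        rw [he1, get_idCode w n b hn hb, hx]
      · refine tree_spec hn (fun s hs => ?_) T' [e] (fun y hy => ?_) htree t h
        · obtain ⟨σ, hσ⟩ := htop s hs
          exact ⟨σ, Submonoid.subset_closure ⟨s, hs, hσ⟩, hσ⟩
        · rw [List.mem_singleton.1 hy]; exact ⟨1, one_mem _, he⟩

/-- The monoid generated by the top codes. -/
def topMon (w n : ℕ) (L : List CLevel) : Submonoid (Equiv.Perm (Fin n)) :=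
  Submonoid.closure {σ | ∃ s ∈ topCodes L, Rep w s σ}

/-- The products along a chain, as permutations. -/
def lightSet (w n : ℕ) : List CLevel → Set (Equiv.Perm (Fin n))
  | [] => {1}
  | (_, _, T) :: L => {x | ∃ t ∈ T, ∃ τ, Rep w t.2.1 τ ∧ ∃ h ∈ lightSet w n L, τ * h = x}

theorem topMon_tail_le {b : ℕ} {S : List Elt} {T : List (ℕ × Elt × ℕ × ℕ)} {L : List CLevel}
    (h : LightSpec w n ((b, S, T) :: L)) : topMon w n L ≤ topMon w n ((b, S, T) :: L) :=
  Submonoid.closure_mono fun _ ⟨s, hs, hr⟩ => ⟨s, (h.2.2.2.2.1 s hs).1, hr⟩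

theorem topMon_fix {b : ℕ} {S : List Elt} {T : List (ℕ × Elt × ℕ × ℕ)} {L : List CLevel}
    (h : LightSpec w n ((b, S, T) :: L)) {σ : Equiv.Perm (Fin n)} (hσ : σ ∈ topMon w n L) :
    σ ⟨b, h.2.1⟩ = ⟨b, h.2.1⟩ := by
  induction hσ using Submonoid.closure_induction with
  | mem τ hτ =>
    obtain ⟨s, hs, hr⟩ := hτ
    exact Fin.ext ((hr ⟨b, h.2.1⟩).1.symm.trans (h.2.2.2.2.1 s hs).2)
  | one => rfl
  | mul p q _ _ hp hq => rw [Equiv.Perm.mul_apply, hq, hp]

theorem lightSet_subset : ∀ {L : List CLevel}, LightSpec w n L →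
    lightSet w n L ⊆ (topMon w n L : Set (Equiv.Perm (Fin n)))
  | [], _ => by simp [lightSet]
  | (b, S, T) :: L, h => by
    rintro x ⟨t, ht, τ, hτ, g, hg, rfl⟩
    obtain ⟨⟨σ, hσ, hr⟩, -⟩ := h.2.2.2.1 t ht
    rw [rep_unique hτ hr]
    exact mul_mem hσ (topMon_tail_le h (lightSet_subset h.1 hg))

theorem tfst_apply {b : ℕ} {S : List Elt} {T : List (ℕ × Elt × ℕ × ℕ)} {L : List CLevel}
    (h : LightSpec w n ((b, S, T) :: L)) {t : ℕ × Elt × ℕ × ℕ} (ht : t ∈ T)
    {τ g : Equiv.Perm (Fin n)} (hτ : Rep w t.2.1 τ) (hg : g ∈ lightSet w n L) :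
    ((τ * g) ⟨b, h.2.1⟩ : ℕ) = t.1 := by
  rw [Equiv.Perm.mul_apply, topMon_fix h (lightSet_subset h.1 hg), ← (hτ _).1]
  exact (h.2.2.2.1 t ht).2

theorem ncard_lightSet : ∀ {L : List CLevel}, LightSpec w n L → (lightSet w n L).ncard = certOrder L
  | [], _ => by simp [lightSet, certOrder]
  | (b, S, T) :: L, h => by
    classical
    have hnd : T.Nodup := h.2.2.2.2.2.2.of_map _
    let rep : ℕ × Elt × ℕ × ℕ → Equiv.Perm (Fin n) := fun t => Classical.epsilon fun σ => Rep w t.2.1 σ
    have hrep : ∀ t ∈ T, Rep w t.2.1 (rep t) := fun t ht =>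
      let ⟨σ, _, hσ⟩ := (h.2.2.2.1 t ht).1; Classical.epsilon_spec ⟨σ, hσ⟩
    have heq : lightSet w n ((b, S, T) :: L) =
        (fun p : (ℕ × Elt × ℕ × ℕ) × Equiv.Perm (Fin n) => rep p.1 * p.2) ''
          ((T.toFinset : Set (ℕ × Elt × ℕ × ℕ)) ×ˢ lightSet w n L) := by
      ext x
      constructor
      · rintro ⟨t, ht, τ, hτ, g, hg, rfl⟩
        exact ⟨(t, g), ⟨by simpa using ht, hg⟩, by rw [rep_unique hτ (hrep t ht)]⟩
      · rintro ⟨⟨t, g⟩, ⟨ht, hg⟩, rfl⟩
        rw [List.coe_toFinset, Set.mem_ofPred_eq] at ht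
        exact ⟨t, ht, _, hrep t ht, g, hg, rfl⟩
    rw [heq, Set.InjOn.ncard_image, Set.ncard_prod, Set.ncard_coe_finset,
      List.toFinset_card_of_nodup hnd, ncard_lightSet h.1]
    · rfl
    · rintro ⟨t, g⟩ ⟨ht, hg⟩ ⟨t', g'⟩ ⟨ht', hg'⟩ e
      simp only [List.coe_toFinset, Set.mem_ofPred_eq] at ht ht'
      have e' : rep t * g = rep t' * g' := e
      have hk : t.1 = t'.1 := by
        rw [← tfst_apply h ht (hrep t ht) hg, e', tfst_apply h ht' (hrep t' ht') hg']
      have : t = t' := List.inj_on_of_nodup_map h.2.2.2.2.2.2 ht ht' hk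
      subst this
      rw [mul_left_cancel e']

/-- The next level is full if this one is. -/
theorem full_tail {b : ℕ} {S : List Elt} {T : List (ℕ × Elt × ℕ × ℕ)} {L : List CLevel}
    (h : LightSpec w n ((b, S, T) :: L))
    (hfull : (topMon w n ((b, S, T) :: L) : Set (Equiv.Perm (Fin n))) ⊆ lightSet w n ((b, S, T) :: L)) :
    (topMon w n L : Set (Equiv.Perm (Fin n))) ⊆ lightSet w n L := by
  intro σ hσ
  obtain ⟨t, ht, τ, hτ, g, hg, rfl⟩ := hfull (topMon_tail_le h hσ)
  obtain ⟨t0, ht0, hb0, h10⟩ := h.2.2.2.2.2.1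
  have hk : t.1 = b := by rw [← tfst_apply h ht hτ hg, topMon_fix h hσ]
  have : t = t0 := List.inj_on_of_nodup_map h.2.2.2.2.2.2 ht ht0 (hk.trans hb0.symm)
  subst this
  rwa [rep_unique hτ h10, one_mul]

theorem sift_comp : ∀ {L : List CLevel}, LightSpec w n L → ∀ {a b : Elt} {α β : Equiv.Perm (Fin n)},
    Rep w a α → Rep w b β → α * β ∈ lightSet w n L → sift w n L (comp w n a.1 b.1) = true
  | [], _, a, b, α, β, ha, hb, hm => by
    simp only [lightSet, Set.mem_singleton_iff] at hm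
    simp only [sift, Nat.beq_eq]
    refine comp_eq_idCode fun i hi => ?_
    rw [(hb ⟨i, hi⟩).1, (ha _).1, ← Equiv.Perm.mul_apply, hm]
    rfl
  | (c, S, T) :: L, h, a, b, α, β, ha, hb, hm => by
    obtain ⟨t, ht, τ, hτ, g, hg, he⟩ := hm
    have hab : Rep w (mul w n a b) (α * β) := rep_mul ha hb
    have hkey : get w (comp w n a.1 b.1) c = t.1 := by
      rw [← tfst_apply h ht hτ hg, he]
      exact (hab ⟨c, h.2.1⟩).1
    obtain ⟨t', ht'⟩ : ∃ t', T.find? (fun u => Nat.beq u.1 (get w (comp w n a.1 b.1) c)) = some t' := by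
      rw [← Option.isSome_iff_exists, List.find?_isSome]
      exact ⟨t, ht, by rw [Nat.beq_eq, hkey]⟩
    have hk' : t'.1 = t.1 := by
      have := List.find?_some ht'
      rw [Nat.beq_eq, hkey] at this
      exact this
    have : t' = t := List.inj_on_of_nodup_map h.2.2.2.2.2.2 (List.mem_of_find?_eq_some ht') ht hk'
    subst this
    simp only [sift, ht']
    have hτ' : Rep w (t'.2.1.2, t'.2.1.1) τ⁻¹ := fun i => by
      rw [inv_inv]; exact ⟨(hτ i).2, (hτ i).1⟩
    refine sift_comp h.1 (b := mul w n a b) hτ' hab ?_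
    rwa [← he, inv_mul_cancel_left]

theorem sift_of_mem {L : List CLevel} (h : LightSpec w n L) (hne : L ≠ []) {g : Elt}
    {σ : Equiv.Perm (Fin n)} (hg : Rep w g σ) (hm : σ ∈ lightSet w n L) : sift w n L g.1 = true := by
  obtain ⟨⟨c, S, T⟩, L', rfl⟩ := List.exists_cons_of_ne_nil hne
  obtain ⟨t, ht, τ, hτ, r, hr, he⟩ := hm
  have hkey : get w g.1 c = t.1 := by
    rw [← tfst_apply h ht hτ hr, he]
    exact (hg ⟨c, h.2.1⟩).1
  obtain ⟨t', ht'⟩ : ∃ t', T.find? (fun u => Nat.beq u.1 (get w g.1 c)) = some t' := by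
    rw [← Option.isSome_iff_exists, List.find?_isSome]
    exact ⟨t, ht, by rw [Nat.beq_eq, hkey]⟩
  have hk' : t'.1 = t.1 := by
    have := List.find?_some ht'
    rw [Nat.beq_eq, hkey] at this
    exact this
  have : t' = t := List.inj_on_of_nodup_map h.2.2.2.2.2.2 (List.mem_of_find?_eq_some ht') ht hk'
  subst this
  simp only [sift, ht']
  have hτ' : Rep w (t'.2.1.2, t'.2.1.1) τ⁻¹ := fun i => by
    rw [inv_inv]; exact ⟨(hτ i).2, (hτ i).1⟩
  refine sift_comp h.1 hτ' hg ?_
  rwa [← he, inv_mul_cancel_left]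

theorem checkLevels_of_full : ∀ {L : List CLevel}, lightLevels w n L = true → LightSpec w n L →
    (topMon w n L : Set (Equiv.Perm (Fin n))) ⊆ lightSet w n L → checkLevels w n L = true
  | [], _, _, _ => rfl
  | (b, S, T) :: L, hl, h, hfull => by
    have hL : checkLevels w n L = true := by
      simp only [lightLevels, Bool.and_eq_true] at hl
      exact checkLevels_of_full hl.1 h.1 (full_tail h hfull)
    simp only [lightLevels, lightLevel, Bool.and_eq_true] at hl
    obtain ⟨-, ⟨⟨hb, htree⟩, hdist⟩, htopL⟩ := hl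
    simp only [checkLevels, Bool.and_eq_true, List.all_eq_true]
    refine ⟨⟨⟨⟨⟨hL, hb⟩, htree⟩, hdist⟩, fun s hs => Bool.and_eq_true _ _ ▸ List.all_eq_true.1 htopL s hs⟩,
      fun s hs t ht => ?_⟩
    obtain ⟨σ, hσ⟩ := h.2.2.1 s hs
    obtain ⟨⟨τ, hτm, hτ⟩, hk⟩ := h.2.2.2.1 t ht
    obtain ⟨u, hu, π, hπ, g, hg, he⟩ := hfull
      (mul_mem (Submonoid.subset_closure ⟨s, hs, hσ⟩ : σ ∈ topMon w n ((b, S, T) :: L)) hτm)
    have hkey : get w s.1 t.1 = u.1 := by
      rw [← tfst_apply h hu hπ hg, he, Equiv.Perm.mul_apply, ← hk, (hτ ⟨b, h.2.1⟩).1, (hσ _).1]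
    obtain ⟨t', ht'⟩ : ∃ t', T.find? (fun v => Nat.beq v.1 (get w s.1 t.1)) = some t' := by
      rw [← Option.isSome_iff_exists, List.find?_isSome]
      exact ⟨u, hu, by rw [Nat.beq_eq, hkey]⟩
    have hk' : t'.1 = u.1 := by
      have := List.find?_some ht'
      rw [Nat.beq_eq, hkey] at this
      exact this
    have : t' = u := List.inj_on_of_nodup_map h.2.2.2.2.2.2 (List.mem_of_find?_eq_some ht') hu hk'
    subst this
    simp only [ht']
    have hπ' : Rep w (t'.2.1.2, t'.2.1.1) π⁻¹ := fun i => by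
      rw [inv_inv]; exact ⟨(hπ i).2, (hπ i).1⟩
    refine sift_comp h.1 (b := mul w n s t.2.1) hπ' (rep_mul hσ hτ) ?_
    rwa [← he, inv_mul_cancel_left]

variable {gens : List Elt} {derived : List (Elt × List ℕ)} {levels : List CLevel}

theorem light_facts (h : lightCert w n gens derived levels = true) :
    LightSpec w n levels ∧ lightLevels w n levels = true ∧ levels ≠ [] ∧
      (topMon w n levels : Set (Equiv.Perm (Fin n))) ⊆ genGroup w n gens := by
  simp only [lightCert, Bool.and_eq_true, List.all_eq_true, Nat.ble_eq, Bool.not_eq_true',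
    List.isEmpty_eq_false_iff] at h
  obtain ⟨⟨⟨⟨⟨hn, hval⟩, hder⟩, htop⟩, hlev⟩, hne⟩ := h
  have hgen : ∀ g ∈ gens, ∃ σ ∈ (genGroup w n gens).toSubmonoid, Rep w g σ := fun g hg =>
    ⟨toPerm w n g, Subgroup.subset_closure (List.mem_map.2 ⟨g, hg, rfl⟩), rep_toPerm (hval g hg)⟩
  have hpool := derived_spec hn derived gens hgen hder
  refine ⟨lightSpec_of_check hn levels hlev fun s hs =>
    let ⟨σ, _, hσ⟩ := hpool s (memCode_spec (htop s hs)); ⟨σ, hσ⟩, hlev, hne, ?_⟩
  refine Submonoid.closure_le.2 ?_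
  rintro σ ⟨s, hs, hσ⟩
  obtain ⟨τ, hτ, hr⟩ := hpool s (memCode_spec (htop s hs))
  rw [rep_unique hσ hr]
  exact hτ

/-- The chain bounds the order from below. -/
theorem light_card_le (h : lightCert w n gens derived levels = true) :
    certOrder levels ≤ Nat.card (genGroup w n gens) := by
  obtain ⟨hs, -, -, hle⟩ := light_facts h
  rw [← ncard_lightSet hs]
  exact (Set.ncard_le_ncard ((lightSet_subset hs).trans hle)).trans (Nat.card_coe_set_eq _).ge

/-- **The full check from the light one and a bound on the order.** -/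
theorem checkCert_of_light (h : lightCert w n gens derived levels = true)
    (hle : Nat.card (genGroup w n gens) ≤ certOrder levels) :
    checkCert w n gens derived levels = true := by
  obtain ⟨hs, hlev, hne, hsub⟩ := light_facts h
  have heq : lightSet w n levels = (genGroup w n gens : Set (Equiv.Perm (Fin n))) :=
    Set.eq_of_subset_of_ncard_le ((lightSet_subset hs).trans hsub)
      (by rw [ncard_lightSet hs, ← Nat.card_coe_set_eq]; exact hle)
  have hlv := checkLevels_of_full hlev hs (heq ▸ hsub)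
  simp only [lightCert, Bool.and_eq_true] at h
  simp only [checkCert, Bool.and_eq_true]
  refine ⟨⟨h.1.1, hlv⟩, List.all_eq_true.2 fun g hg => ?_⟩
  have hv := List.all_eq_true.1 h.1.1.1.1.2 g hg
  refine sift_of_mem hs hne (rep_toPerm hv) ?_
  rw [heq]
  exact Subgroup.subset_closure (List.mem_map.2 ⟨g, hg, rfl⟩)

end Cfsg.Agent.PermCert
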