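import Cfsg.Agent.Lib.Compute.AutDefs
import Cfsg.Prelude.Def_KGroupFacts
import Mathlib.GroupTheory.Sylow
import Mathlib.GroupTheory.Perm.Cycle.Type

/-!
Soundness of the automorphism checks: the outer automorphism group has order one, or two when the
second automorphism is exhibited and shown not to be inner.
-/

set_option autoImplicit false
set_option maxHeartbeats 1000000

namespace Cfsg.Agent.PermAut

open Cfsg Cfsg.Agent.PermCert

variable {w n : ℕ}

/-- A code gives the forward values of a permutation. -/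
def Fwd (w : ℕ) (e : ℕ × Equiv.Perm (Fin n)) : Prop := ∀ i : Fin n, get w e.1 i = (e.2 i : ℕ)

theorem app_prod : ∀ (L : List (ℕ × Equiv.Perm (Fin n))), (∀ e ∈ L, Fwd w e) →
    ∀ i : Fin n, app w (L.map Prod.fst) i = ((L.map Prod.snd).prod i : ℕ) := by
  intro L
  induction L with
  | nil => intro _ i; simp [app]
  | cons e L ih =>
    intro h i
    show get w e.1 (app w (L.map Prod.fst) i) = _
    rw [ih (fun a ha => h a (List.mem_cons_of_mem _ ha)) i, h e List.mem_cons_self,
      List.map_cons, List.prod_cons, Equiv.Perm.mul_apply]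

theorem same_iff {A B : List (ℕ × Equiv.Perm (Fin n))} (hA : ∀ e ∈ A, Fwd w e) (hB : ∀ e ∈ B, Fwd w e) :
    same w n (A.map Prod.fst) (B.map Prod.fst) = true ↔ (A.map Prod.snd).prod = (B.map Prod.snd).prod := by
  constructor
  · intro h
    refine Equiv.ext fun i => Fin.ext ?_
    have := allBelow_spec _ _ h i i.2
    rwa [Nat.beq_eq, app_prod A hA, app_prod B hB] at this
  · intro h
    suffices ∀ k, k ≤ n → allBelow (fun i => Nat.beq (app w (A.map Prod.fst) i) (app w (B.map Prod.fst) i)) k = true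
      from this n le_rfl
    intro k
    induction k with
    | zero => intro _; rfl
    | succ k ih =>
      intro hk
      show (allBelow _ k && Nat.beq (app w (A.map Prod.fst) k) (app w (B.map Prod.fst) k)) = true
      rw [ih (by omega), show app w (A.map Prod.fst) k = _ from app_prod A hA ⟨k, by omega⟩,
        show app w (B.map Prod.fst) k = _ from app_prod B hB ⟨k, by omega⟩, h]
      simp

theorem fwd_rep {e : Elt} {σ : Equiv.Perm (Fin n)} (h : Rep w e σ) : Fwd w (e.1, σ) := fun i => (h i).1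

theorem bwd_rep {e : Elt} {σ : Equiv.Perm (Fin n)} (h : Rep w e σ) : Fwd w (e.2, σ⁻¹) := fun i => (h i).2

theorem getD_mem {α : Type} {l : List α} {i : ℕ} (h : i < l.length) (a : α) : l.getD i a ∈ l := by
  rw [List.getD_eq_getElem _ _ h]; exact List.getElem_mem h

theorem allBelow_shift {f : ℕ → Bool} {lo hi k : ℕ} (h : allBelow (fun k' => f (lo + k')) (hi - lo) = true)
    (h1 : lo ≤ k) (h2 : k < hi) : f k = true := by
  have := allBelow_spec _ _ h (k - lo) (by omega)
  rwa [Nat.add_sub_cancel' h1] at this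

theorem sameConj_eq (w e2 a c1 r c2 a' e1 r' : ℕ) :
    ∀ k, sameConj w (2 ^ w) e2 a c1 r c2 a' e1 r' k = same w k [e2, a, c1, r, c2, a', e1] [r'] := by
  intro k
  induction k with
  | zero => rfl
  | succ k ih =>
    show (_ && sameConj w (2 ^ w) e2 a c1 r c2 a' e1 r' k) = (same w k _ _ && _)
    rw [ih, Bool.and_comm]
    rfl

theorem fixesM_eq (w : ℕ) (cs : List ℕ) : ∀ k, fixesM w (2 ^ w) cs k = same w k cs [] := by
  intro k
  induction k with
  | zero => rfl
  | succ k ih =>
    show (_ && fixesM w (2 ^ w) cs k) = (same w k _ _ && _)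
    rw [ih, Bool.and_comm]
    rfl

variable (d : AutData)

/-- The group. -/
abbrev grp (w n : ℕ) (d : AutData) : Subgroup (Equiv.Perm (Fin n)) := genGroup w n d.gens

/-- The element of prime order. -/
def gx (w n : ℕ) (d : AutData) : grp w n d :=
  ⟨toPerm w n d.x, Subgroup.subset_closure (List.mem_map.2 ⟨_, by simp [AutData.gens], rfl⟩)⟩

/-- The involution. -/
def gt (w n : ℕ) (d : AutData) : grp w n d :=
  ⟨toPerm w n d.t, Subgroup.subset_closure (List.mem_map.2 ⟨_, by simp [AutData.gens], rfl⟩)⟩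

variable {d} [NeZero n]

theorem base_facts (hc : checkCert w n d.gens d.derived d.levels = true) (h : baseOK w n d = true) :
    Rep w d.x (gx w n d : Equiv.Perm (Fin n)) ∧ Rep w d.t (gt w n d : Equiv.Perm (Fin n)) ∧
    (∃ N : grp w n d, N * gx w n d * N⁻¹ = gx w n d ^ d.root) ∧
    (∀ i < d.p, Rep w (d.xp i) ((gx w n d ^ i : grp w n d) : Equiv.Perm (Fin n))) ∧
    gx w n d ^ d.p = 1 ∧ gx w n d ≠ 1 ∧ gt w n d * gt w n d = 1 ∧ gt w n d ≠ 1 ∧
    (∀ j < d.p, j ≠ 0 → ∃ i, d.root ^ i % d.p = j) ∧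
    Nat.card (grp w n d) = d.p * d.m ∧ ¬ d.p ∣ d.m ∧
    (∀ g ∈ d.sGens, Rep w g (toPerm w n g) ∧ toPerm w n g ∈ grp w n d) ∧
    certOrder d.sLevels = 2 ^ d.sDepth ∧
    (∃ r, certOrder d.levels = 2 ^ d.sDepth * r ∧ ¬ 2 ∣ r) ∧
    ∀ c ∈ d.cents, ∃ C : grp w n d, Rep w c (C : Equiv.Perm (Fin n)) ∧ C * gx w n d = gx w n d * C := by
  simp only [baseOK, Bool.and_eq_true, List.all_eq_true, Bool.not_eq_true', Nat.beq_eq] at h
  obtain ⟨⟨⟨⟨⟨⟨⟨⟨⟨⟨⟨⟨⟨⟨⟨⟨⟨⟨⟨hx, ht⟩, hnn⟩, hnns⟩, hlen⟩, hpv⟩, hpw⟩, hxp⟩, hx1⟩, htt⟩, ht1⟩, hnx⟩,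
    hroot⟩, hcard⟩, hm⟩, hsg⟩, hso⟩, hodd⟩, hdvd⟩, hcen⟩ := h
  have rx : Rep w d.x (gx w n d : Equiv.Perm (Fin n)) := rep_toPerm hx
  have rt : Rep w d.t (gt w n d : Equiv.Perm (Fin n)) := rep_toPerm ht
  have rn : Rep w d.nn (toPerm w n d.nn) := rep_toPerm hnn
  have fx := fwd_rep rx
  have ft := fwd_rep rt
  refine ⟨rx, rt, ⟨⟨_, cert_mem hc hnn hnns⟩, ?_⟩, fun i hi => ?_, ?_, ?_, ?_, ?_, fun j hj hj0 => ?_,
    (cert_card hc).trans hcard, ?_, fun g hg => ⟨rep_toPerm (hsg g hg).1, cert_mem hc (hsg g hg).1 (hsg g hg).2⟩,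
    hso, ⟨certOrder d.levels / 2 ^ d.sDepth, (Nat.mul_div_cancel' (Nat.dvd_of_mod_eq_zero hdvd)).symm, ?_⟩,
    fun c hc' => ?_⟩
  · have := (same_iff (w := w) (A := [(d.nn.1, toPerm w n d.nn), (d.x.1, (gx w n d : Equiv.Perm (Fin n)))])
      (B := List.replicate d.root (d.x.1, (gx w n d : Equiv.Perm (Fin n))) ++ [(d.nn.1, toPerm w n d.nn)])
      (by simp [fwd_rep rn, fx]) (fun e he => by
        simp only [List.mem_append, List.mem_replicate, List.mem_singleton] at he
        rcases he with ⟨-, rfl⟩ | rfl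
        exacts [fx, fwd_rep rn])).1 (by simpa using hnx)
    simp only [List.map_append, List.map_replicate, List.map_cons, List.map_nil, List.prod_append,
      List.prod_replicate, List.prod_cons, List.prod_nil, mul_one] at this
    refine mul_inv_eq_iff_eq_mul.2 (Subtype.ext ?_)
    simpa using this
  · have hmem : d.xp i ∈ d.xPows := getD_mem (hlen ▸ hi) _
    have r := rep_toPerm (hpv _ hmem)
    have := (same_iff (w := w) (A := [((d.xp i).1, toPerm w n (d.xp i))])
      (B := List.replicate i (d.x.1, (gx w n d : Equiv.Perm (Fin n)))) (by simpa using fwd_rep r)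
      (fun e he => List.eq_of_mem_replicate he ▸ fx)).1 (by simpa using allBelow_spec _ _ hpw i hi)
    simp only [List.map_replicate, List.map_cons, List.map_nil, List.prod_replicate, List.prod_cons,
      List.prod_nil, mul_one] at this
    rw [SubmonoidClass.coe_pow, ← this]
    exact r
  · have := (same_iff (w := w) (A := List.replicate d.p (d.x.1, (gx w n d : Equiv.Perm (Fin n)))) (B := [])
      (fun e he => List.eq_of_mem_replicate he ▸ fx) (by simp)).1 (by simpa using hxp)
    simp only [List.map_replicate, List.prod_replicate, List.map_nil, List.prod_nil] at this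
    exact Subtype.ext (by simpa using this)
  · intro e
    have := (same_iff (w := w) (A := [(d.x.1, (gx w n d : Equiv.Perm (Fin n)))]) (B := []) (by simpa using fx)
      (by simp)).2 (by simp [e])
    simp [hx1] at this
  · have := (same_iff (w := w) (A := [(d.t.1, (gt w n d : Equiv.Perm (Fin n))), (d.t.1, (gt w n d : Equiv.Perm (Fin n)))])
      (B := []) (by simp [ft]) (by simp)).1 (by simpa using htt)
    simp only [List.map_cons, List.map_nil, List.prod_cons, List.prod_nil, mul_one] at this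
    exact Subtype.ext (by simpa using this)
  · intro e
    have := (same_iff (w := w) (A := [(d.t.1, (gt w n d : Equiv.Perm (Fin n)))]) (B := []) (by simpa using ft)
      (by simp)).2 (by simp [e])
    simp [ht1] at this
  · have := allBelow_spec _ _ hroot j hj
    simp only [Bool.or_eq_true, Nat.beq_eq, List.any_eq_true] at this
    exact this.elim (fun h => absurd h hj0) fun ⟨i, _, hi⟩ => ⟨i, hi⟩
  · intro hd
    rw [Nat.mod_eq_zero_of_dvd hd] at hm
    simp at hm
  · intro hd
    rw [Nat.mod_eq_zero_of_dvd hd] at hodd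
    simp at hodd
  · obtain ⟨⟨hv, hs⟩, hcomm⟩ := hcen c hc'
    have r := rep_toPerm hv
    have := (same_iff (w := w) (A := [(c.1, toPerm w n c), (d.x.1, (gx w n d : Equiv.Perm (Fin n)))])
      (B := [(d.x.1, (gx w n d : Equiv.Perm (Fin n))), (c.1, toPerm w n c)])
      (by simp [fwd_rep r, fx]) (by simp [fwd_rep r, fx])).1 (by simpa using hcomm)
    simp only [List.map_cons, List.map_nil, List.prod_cons, List.prod_nil, mul_one] at this
    exact ⟨⟨_, cert_mem hc hv hs⟩, r, Subtype.ext this⟩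

/-- A permutation listed up to conjugation by a power of `x`. -/
def Listed (d : AutData) (σ : grp w n d) : Prop :=
  ∃ k < d.nReps, ∃ i < d.p, Fwd w (getPacked d.reps k,
    (((gx w n d ^ i)⁻¹ * σ * gx w n d ^ i : grp w n d) : Equiv.Perm (Fin n)))

variable (hc : checkCert w n d.gens d.derived d.levels = true) (hb : baseOK w n d = true)
  (hcl : ∀ k < d.nReps, ∃ lo hi, lo ≤ k ∧ k < hi ∧ closureOK w n d lo hi = true)

include hc hb hcl

theorem listed_conj (σ u : grp w n d) (hσ : Listed d σ) : Listed d (u * σ * u⁻¹) := by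
  obtain ⟨rx, rt, -, rpow, hxp, -, -, -, -, -, -, -⟩ := base_facts hc hb
  let M : Submonoid (Equiv.Perm (Fin n)) :=
    { carrier := {g | ∃ hg : g ∈ grp w n d, ∀ σ, Listed d σ →
        Listed d ((⟨g, hg⟩ : grp w n d) * σ * (⟨g, hg⟩ : grp w n d)⁻¹)}
      one_mem' := ⟨one_mem _, fun σ hσ => by
        rw [show (⟨1, one_mem _⟩ : grp w n d) = 1 from rfl, one_mul, inv_one, mul_one]; exact hσ⟩
      mul_mem' := fun {a b} ⟨ha, ha'⟩ ⟨hb, hb'⟩ => ⟨mul_mem ha hb, fun σ hσ => by
        rw [show (⟨a * b, mul_mem ha hb⟩ : grp w n d) = ⟨a, ha⟩ * ⟨b, hb⟩ from rfl,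
          mul_inv_rev, show ∀ a b : grp w n d, a * b * σ * (b⁻¹ * a⁻¹) = a * (b * σ * b⁻¹) * a⁻¹ from
            fun a b => by group]
        exact ha' _ (hb' σ hσ)⟩ }
  have hp : 0 < d.p := by
    rcases Nat.eq_zero_or_pos d.p with h0 | h0
    · have := (base_facts hc hb).2.2.2.2.2.2.2.2.2.2.1
      have h' := (base_facts hc hb).2.2.2.2.2.2.2.2.2.1
      rw [h0, zero_mul] at h'
      exact absurd h' Nat.card_pos.ne'
    · exact h0
  have hgen : {σ | σ ∈ d.gens.map (toPerm w n)} ⊆ (M : Set (Equiv.Perm (Fin n))) := by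
    intro g hg
    refine ⟨Subgroup.subset_closure hg, ?_⟩
    simp only [AutData.gens, List.map_cons, List.map_nil, Set.mem_ofPred_eq, List.mem_cons,
      List.not_mem_nil, or_false] at hg
    intro σ ⟨k, hk, i, hi, hσ⟩
    rcases hg with rfl | rfl
    · refine ⟨k, hk, (i + 1) % d.p, Nat.mod_lt _ hp, ?_⟩
      have e : gx w n d ^ ((i + 1) % d.p) = gx w n d * gx w n d ^ i := by
        rw [← pow_eq_pow_mod (i + 1) hxp, pow_succ']
      show Fwd w (_, (((gx w n d ^ ((i + 1) % d.p))⁻¹ * (gx w n d * σ * (gx w n d)⁻¹) *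
        gx w n d ^ ((i + 1) % d.p) : grp w n d) : Equiv.Perm (Fin n)))
      rw [e, show (gx w n d * gx w n d ^ i)⁻¹ * (gx w n d * σ * (gx w n d)⁻¹) * (gx w n d * gx w n d ^ i) =
        (gx w n d ^ i)⁻¹ * σ * gx w n d ^ i by group]
      exact hσ
    · obtain ⟨lo, hi', h1, h2, hok⟩ := hcl k hk
      have h0 := allBelow_spec _ _ hok (k - lo) (by omega)
      simp only [strict_eq, Nat.add_sub_cancel' h1] at h0
      have h := allBelow_spec _ _ h0 i hi
      simp only [Bool.and_eq_true, Nat.blt_eq, sameConj_eq] at h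
      obtain ⟨⟨hu1, hu2⟩, hs⟩ := h
      set q := get 16 (getTbl d.clos k 0) i
      set v : ℕ × ℕ := (q / d.p, q % d.p) with hv
      refine ⟨v.1, hu1, v.2, hu2, ?_⟩
      show Fwd w (_, (((gx w n d ^ v.2)⁻¹ * (gt w n d * σ * (gt w n d)⁻¹) *
        gx w n d ^ v.2 : grp w n d) : Equiv.Perm (Fin n)))
      generalize hT : ((((gx w n d ^ v.2)⁻¹ * (gt w n d * σ * (gt w n d)⁻¹) *
        gx w n d ^ v.2 : grp w n d) : Equiv.Perm (Fin n))) = T
      intro j
      have h := allBelow_spec _ _ hs j j.2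
      rw [Nat.beq_eq] at h
      have hL := app_prod [((d.xp v.2).2, ((gx w n d ^ v.2 : grp w n d) : Equiv.Perm (Fin n))⁻¹),
        (d.t.1, (gt w n d : Equiv.Perm (Fin n))), ((d.xp i).1, ((gx w n d ^ i : grp w n d) : Equiv.Perm (Fin n))),
        (getPacked d.reps k, (((gx w n d ^ i)⁻¹ * σ * gx w n d ^ i : grp w n d) : Equiv.Perm (Fin n))),
        ((d.xp i).2, ((gx w n d ^ i : grp w n d) : Equiv.Perm (Fin n))⁻¹),
        (d.t.2, (gt w n d : Equiv.Perm (Fin n))⁻¹), ((d.xp v.2).1, ((gx w n d ^ v.2 : grp w n d) : Equiv.Perm (Fin n)))]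
        (by
          intro e he
          simp only [List.mem_cons, List.not_mem_nil, or_false] at he
          rcases he with rfl | rfl | rfl | rfl | rfl | rfl | rfl
          exacts [bwd_rep (rpow _ hu2), fwd_rep rt, fwd_rep (rpow _ hi), hσ, bwd_rep (rpow _ hi),
            bwd_rep rt, fwd_rep (rpow _ hu2)]) j
      simp only [List.map_cons, List.map_nil] at hL
      refine Eq.trans h.symm (hL.trans ?_)
      rw [← hT]
      simp only [List.prod_cons, List.prod_nil, mul_one, Subgroup.coe_mul, InvMemClass.coe_inv]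
      rw [show ∀ a b c s e : Equiv.Perm (Fin n),
        a⁻¹ * (b * (c * (c⁻¹ * s * c * (c⁻¹ * (b⁻¹ * e))))) = a⁻¹ * (b * s * b⁻¹) * e from
          fun a b c s e => by group]
  have hu : (u : Equiv.Perm (Fin n)) ∈
      (Submonoid.closure {σ | σ ∈ d.gens.map (toPerm w n)} : Set (Equiv.Perm (Fin n))) := by
    rw [← closure_carrier]; exact u.2
  obtain ⟨_, h⟩ := Submonoid.closure_le.2 hgen hu
  exact h σ hσ

variable (hsc : checkCert w n d.sGens d.sDerived d.sLevels = true) (hsy : sylowOK w n d = true)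

include hsc hsy

/-- Every involution is listed. -/
theorem listed_of_involution {u : grp w n d} (hu2 : u * u = 1) (hu1 : u ≠ 1) : Listed d u := by
  obtain ⟨rx, -, -, rpow, -, -, -, -, -, hcard, -, hsg, hso, ⟨r, hr, hr2⟩, -⟩ := base_facts hc hb
  haveI : Fact (Nat.Prime 2) := ⟨Nat.prime_two⟩
  have hle : genGroup w n d.sGens ≤ grp w n d := by
    refine (Subgroup.closure_le _).2 fun σ hσ => ?_
    obtain ⟨g, hg, rfl⟩ := List.mem_map.1 hσ
    exact (hsg g hg).2
  let Q : Sylow 2 (grp w n d) := Sylow.ofCard ((genGroup w n d.sGens).subgroupOf (grp w n d)) (by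
    have hr0 : r ≠ 0 := by rintro rfl; simp at hr2
    rw [Nat.card_congr (Subgroup.subgroupOfEquivOfLe hle).toEquiv, cert_card hsc, hso, cert_card hc, hr,
      Nat.factorization_mul (pow_ne_zero _ two_ne_zero) hr0, Finsupp.add_apply,
      Nat.Prime.factorization_pow Nat.prime_two, Finsupp.single_eq_same,
      Nat.factorization_eq_zero_of_not_dvd hr2, add_zero])
  have hpg : IsPGroup 2 (Subgroup.zpowers u) :=
    IsPGroup.of_card (n := 1) (by rw [Nat.card_zpowers, orderOf_eq_prime (by rw [pow_two]; exact hu2) hu1, pow_one])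
  obtain ⟨P, hP⟩ := hpg.exists_le_sylow
  obtain ⟨g, hg⟩ := MulAction.exists_smul_eq (grp w n d) Q P
  have hu' : u ∈ (P : Subgroup (grp w n d)) := hP (Subgroup.mem_zpowers _)
  rw [← hg, Sylow.coe_subgroup_smul, Subgroup.mem_pointwise_smul_iff_inv_smul_mem] at hu'
  simp only [← map_inv, MulAut.smul_def, MulAut.conj_apply, inv_inv] at hu'
  set s : grp w n d := g⁻¹ * u * g with hs
  have hmem : (s : Equiv.Perm (Fin n)) ∈ genGroup w n d.sGens := hu'
  suffices Listed d s by
    have := listed_conj hc hb hcl s g this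
    rwa [show g * s * g⁻¹ = u by rw [hs]; group] at this
  obtain ⟨hg', he⟩ := cert_good hsc
  have hps : (s : Equiv.Perm (Fin n)) ∈ prodSet (interp w n d.sLevels) := by
    rw [prodSet_eq _ hg']
    rw [← he, ← SetLike.mem_coe, closure_carrier] at hmem
    exact hmem
  have hall : AllRep w n d.sLevels := by
    have h := hsc
    simp only [checkCert, Bool.and_eq_true, List.all_eq_true, Nat.ble_eq] at h
    obtain ⟨⟨⟨⟨⟨hn, hval⟩, hder⟩, htop⟩, hlev⟩, -⟩ := h
    have hpool := derived_spec hn d.sDerived d.sGens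
      (M := (⊤ : Submonoid (Equiv.Perm (Fin n))))
      (fun g hg => ⟨toPerm w n g, trivial, rep_toPerm (hval g hg)⟩) hder
    exact (levels_spec hn d.sLevels hlev
      (fun s hs => let ⟨σ, _, h⟩ := hpool s (memCode_spec (htop s hs)); ⟨σ, h⟩)).1
  have key : ∀ {L : List CLevel}, AllRep w n L → ∀ y ∈ prodSet (interp w n L),
      ∃ A : List (ℕ × Equiv.Perm (Fin n)), A.map Prod.fst ∈ prods L ∧ (∀ e ∈ A, Fwd w e) ∧
        (A.map Prod.snd).prod = y := by
    intro L
    induction L with
    | nil =>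
      intro _ y hy
      simp [interp, prodSet] at hy
      exact ⟨[], by simp [prods], by simp, by simp [hy]⟩
    | cons l L ih =>
      obtain ⟨b, S, T⟩ := l
      intro ha y hy
      obtain ⟨t, ht, h, hh, rfl⟩ := hy
      obtain ⟨e, he, rfl⟩ := List.mem_map.1 ht
      obtain ⟨A, hA, hfw, hprod⟩ := ih ha.2.2 h hh
      obtain ⟨σ, hσ⟩ := ha.2.1 e he
      refine ⟨(e.2.1.1, σ) :: A, List.mem_flatMap.2 ⟨e, he, List.mem_map.2 ⟨_, hA, rfl⟩⟩, ?_, ?_⟩
      · simpa [fwd_rep hσ] using hfw
      · simp [hprod, epsilon_rep hσ]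
  obtain ⟨A, hA, hfw, hprod⟩ := key hall _ hps
  have hs2 : s * s = 1 := by rw [hs, show g⁻¹ * u * g * (g⁻¹ * u * g) = g⁻¹ * (u * u) * g by group, hu2]; group
  have hs1 : s ≠ 1 := fun e => hu1 (by rw [show u = g * s * g⁻¹ by rw [hs]; group, e]; group)
  simp only [sylowOK, Bool.and_eq_true, List.all_eq_true, Nat.beq_eq] at hsy
  obtain ⟨k, hk, hke⟩ := List.mem_iff_getElem.1 hA
  have h := hsy.2 ((prods d.sLevels)[k], d.sWit[k]'(hsy.1 ▸ hk))
    (List.mem_iff_getElem.2 ⟨k, by simp [List.length_zip, ← hsy.1, hk], by simp⟩)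
  rw [hke] at h
  simp only [Bool.or_eq_true, Bool.not_eq_true', Bool.and_eq_true, Nat.blt_eq] at h
  generalize d.sWit[k]'(hsy.1 ▸ hk) = v at h
  rcases h with (h | h) | ⟨⟨h1, h2⟩, h3⟩
  · exfalso
    have := (same_iff (w := w) (A := A ++ A) (B := []) (fun e he => hfw e ((List.mem_append.1 he).elim id id))
      (by simp)).2 (by simp [hprod]; exact congrArg Subtype.val hs2)
    simp [h] at this
  · exfalso
    have := (same_iff (w := w) (A := A) (B := []) hfw (by simp)).1 (by simpa using h)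
    simp [hprod] at this
    exact hs1 this
  · refine ⟨v.1, h1, v.2, h2, fun j => ?_⟩
    have e := allBelow_spec _ _ h3 j j.2
    rw [Nat.beq_eq] at e
    have hL := app_prod (((d.xp v.2).2, ((gx w n d ^ v.2 : grp w n d) : Equiv.Perm (Fin n))⁻¹) :: A ++
      [((d.xp v.2).1, ((gx w n d ^ v.2 : grp w n d) : Equiv.Perm (Fin n)))]) (by
        intro e he
        simp only [List.cons_append, List.mem_cons, List.mem_append, List.not_mem_nil, or_false] at he
        rcases he with rfl | he | rfl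
        exacts [bwd_rep (rpow _ h2), hfw e he, fwd_rep (rpow _ h2)]) j
    refine Eq.trans e.symm (Eq.trans (by simp) (hL.trans ?_))
    simp [List.prod_append, hprod, mul_assoc]

variable (two : Bool) (hk : ∀ k < d.nReps, ∃ lo hi, lo ≤ k ∧ k < hi ∧ classifyOK w n d two lo hi = true)

include hk

omit hc hb hcl hsc hsy hk in
theorem word_map {α β : Type*} (h : ℕ → α) (r : α) (f : α → β) (l : List ℕ) (m : ℕ) :
    ((List.replicate m (l.flatMap fun a => [h a, r])).flatten).map f =
      (List.replicate m (l.flatMap fun a => [f (h a), f r])).flatten := by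
  simp [List.map_flatten, List.flatMap, Function.comp_def]

theorem aut_cases (hprime : d.p.Prime) (φ : MulAut (grp w n d)) :
    φ ∈ Inn (grp w n d) ∨ (two = true ∧ ∃ g : grp w n d, ((MulAut.conj g)⁻¹ * φ) (gx w n d) = gx w n d ∧
      Fwd w (d.tImg.1, ((((MulAut.conj g)⁻¹ * φ) (gt w n d) : grp w n d) : Equiv.Perm (Fin n)))) := by
  obtain ⟨rx, rt, ⟨N, hN⟩, rpow, hxp, hx1, htt, ht1, hroot, hcard, hm, -, -, -, hcen⟩ := base_facts hc hb
  haveI : Fact d.p.Prime := ⟨hprime⟩
  set X := gx w n d with hXdef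
  set T := gt w n d with hTdef
  have hX : orderOf X = d.p := orderOf_eq_prime hxp hx1
  -- the image of `x`
  have hit : ∀ i : ℕ, N ^ i * X * (N ^ i)⁻¹ = X ^ (d.root ^ i) := by
    intro i
    induction i with
    | zero => simp
    | succ i ih =>
      rw [show N ^ (i + 1) * X * (N ^ (i + 1))⁻¹ = N * (N ^ i * X * (N ^ i)⁻¹) * N⁻¹ by
        rw [pow_succ']; group, ih, ← conj_pow, hN, ← pow_mul, pow_succ']
  have ho : orderOf (φ X) = d.p := by rw [MulEquiv.orderOf_eq, hX]
  have hu : IsPGroup d.p (Subgroup.zpowers (φ X)) :=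
    IsPGroup.of_card (n := 1) (by rw [Nat.card_zpowers, ho, pow_one])
  obtain ⟨P, hP⟩ := hu.exists_le_sylow
  let Q : Sylow d.p (grp w n d) := Sylow.ofCard (Subgroup.zpowers X) (by
    have hm0 : d.m ≠ 0 := by rintro e; rw [e] at hm; exact hm (dvd_zero _)
    rw [Nat.card_zpowers, hX, hcard, Nat.factorization_mul hprime.ne_zero hm0, Finsupp.add_apply,
      hprime.factorization_self, Nat.factorization_eq_zero_of_not_dvd hm, add_zero, pow_one])
  obtain ⟨g, hg⟩ := MulAction.exists_smul_eq (grp w n d) Q P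
  have hu' : φ X ∈ (P : Subgroup (grp w n d)) := hP (Subgroup.mem_zpowers _)
  rw [← hg, Sylow.coe_subgroup_smul, Subgroup.mem_pointwise_smul_iff_inv_smul_mem] at hu'
  simp only [← map_inv, MulAut.smul_def, MulAut.conj_apply, inv_inv] at hu'
  have hmm : g⁻¹ * φ X * g ∈ Subgroup.zpowers X := hu'
  rw [← mem_powers_iff_mem_zpowers, Submonoid.mem_powers_iff] at hmm
  obtain ⟨j, hj⟩ := hmm
  have e : φ X = g * X ^ j * g⁻¹ := by rw [hj]; group
  have hj0 : j % d.p ≠ 0 := by
    intro h
    rw [pow_eq_pow_mod j hxp, h, pow_zero, mul_one, mul_inv_cancel] at e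
    rw [e, orderOf_one] at ho
    exact hprime.ne_one ho.symm
  obtain ⟨i0, hi0⟩ := hroot _ (Nat.mod_lt _ hprime.pos) hj0
  have hXj : X ^ j = N ^ i0 * X * (N ^ i0)⁻¹ := by
    rw [hit, pow_eq_pow_mod j hxp, pow_eq_pow_mod (d.root ^ i0) hxp, hi0]
  set g₁ := g * N ^ i0 with hg₁
  have h1 : ((MulAut.conj g₁)⁻¹ * φ) X = X := by
    show (MulAut.conj g₁)⁻¹ (φ X) = X
    rw [e, hXj, hg₁, ← map_inv, MulAut.conj_apply]
    group
  -- the image of `t`
  set φ₁ := (MulAut.conj g₁)⁻¹ * φ with hφ₁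
  obtain ⟨k, hkn, i, hi, hfr⟩ := listed_of_involution hc hb hcl hsc hsy (u := φ₁ T)
    (by rw [← map_mul, htt, map_one]) (fun e => ht1 ((MulEquiv.map_eq_one_iff φ₁).1 e))
  set R : grp w n d := (X ^ i)⁻¹ * φ₁ T * X ^ i with hR
  set φ₂ := (MulAut.conj (g₁ * X ^ i))⁻¹ * φ with hφ₂
  have h2x : φ₂ X = X := by
    show (MulAut.conj (g₁ * X ^ i))⁻¹ (φ X) = X
    rw [map_mul, mul_inv_rev, MulAut.mul_apply, show (MulAut.conj g₁)⁻¹ (φ X) = X from h1,
      ← map_inv, MulAut.conj_apply]
    group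
  have h2t : φ₂ T = R := by
    show (MulAut.conj (g₁ * X ^ i))⁻¹ (φ T) = R
    rw [map_mul, mul_inv_rev, MulAut.mul_apply, show (MulAut.conj g₁)⁻¹ (φ T) = φ₁ T from rfl,
      ← map_inv, MulAut.conj_apply, hR]
    group
  obtain ⟨lo, hi', hlo, hhi, hok⟩ := hk k hkn
  have hck := allBelow_spec _ _ hok (k - lo) (by omega)
  simp only [strict_eq, strictList_eq, fixesM_eq, Nat.add_sub_cancel' hlo] at hck
  set u := getTbl d.cls k (2, 0, [], 0)
  have mem_cent : ∀ {z : Elt} (Z : Equiv.Perm (Fin n)), Rep w z Z → u.2.1 < d.cents.length →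
      same w n [(d.cents.getD u.2.1 (0, 0)).1, z.1, (d.cents.getD u.2.1 (0, 0)).2] [getPacked d.reps k] = true →
      ∃ C : grp w n d, C * X = X * C ∧
        (R : Equiv.Perm (Fin n)) = (C : Equiv.Perm (Fin n)) * Z * (C : Equiv.Perm (Fin n))⁻¹ := by
    intro z Z hz hlen hsm
    obtain ⟨C, hC, hCX⟩ := hcen _ (getD_mem hlen _)
    refine ⟨C, hCX, ?_⟩
    have := (same_iff (w := w) (A := [((d.cents.getD u.2.1 (0, 0)).1, (C : Equiv.Perm (Fin n))), (z.1, Z),
      ((d.cents.getD u.2.1 (0, 0)).2, (C : Equiv.Perm (Fin n))⁻¹)])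
      (B := [(getPacked d.reps k, (R : Equiv.Perm (Fin n)))])
      (by
        intro e he
        simp only [List.mem_cons, List.not_mem_nil, or_false] at he
        rcases he with rfl | rfl | rfl
        exacts [fwd_rep hC, fwd_rep hz, bwd_rep hC])
      (by simpa using hfr)).1 (by simpa using hsm)
    simp only [List.map_cons, List.map_nil, List.prod_cons, List.prod_nil, mul_one] at this
    rw [← this, mul_assoc]
  by_cases hu0 : u.1 = 0
  · rw [if_pos hu0] at hck
    simp only [Bool.and_eq_true, Nat.blt_eq] at hck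
    obtain ⟨C, hCX, hRC⟩ := mem_cent _ rt hck.1 hck.2
    refine Or.inl ⟨g₁ * X ^ i * C, ?_⟩
    have heq : φ₂ = MulAut.conj C := by
      have hext : φ₂.toMonoidHom = (MulAut.conj C).toMonoidHom := by
        refine MonoidHom.eq_of_eqOn_dense (s := {X, T}) ?_ ?_
        · rw [eq_top_iff]
          intro a _
          have hle : grp w n d ≤ (Subgroup.closure {X, T}).map (grp w n d).subtype := by
            refine (Subgroup.closure_le _).2 fun σ hσ => ?_
            simp only [AutData.gens, List.map_cons, List.map_nil, Set.mem_ofPred_eq, List.mem_cons,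
              List.not_mem_nil, or_false] at hσ
            rcases hσ with rfl | rfl
            exacts [⟨X, Subgroup.subset_closure (by simp), rfl⟩, ⟨T, Subgroup.subset_closure (by simp), rfl⟩]
          obtain ⟨b, hb', he⟩ := hle a.2
          exact Subtype.ext he ▸ hb'
        · rintro a (rfl | rfl)
          · show φ₂ X = C * X * C⁻¹
            rw [h2x, hCX, mul_inv_cancel_right]
          · show φ₂ T = C * T * C⁻¹
            rw [h2t]
            exact Subtype.ext hRC
      exact MulEquiv.ext fun a => DFunLike.congr_fun hext a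
    rw [map_mul (MulAut.conj) (g₁ * X ^ i) C, ← heq, hφ₂, mul_inv_cancel_left]
  rw [if_neg hu0] at hck
  by_cases hu1 : u.1 = 1
  · rw [if_pos hu1] at hck
    simp only [Bool.and_eq_true, Nat.blt_eq] at hck
    obtain ⟨⟨⟨htwo, htv⟩, hlen⟩, hsm⟩ := hck
    refine Or.inr ⟨htwo, ?_⟩
    obtain ⟨C, hCX, hRC⟩ := mem_cent _ (rep_toPerm htv) hlen hsm
    refine ⟨g₁ * X ^ i * C, ?_, ?_⟩
    · show (MulAut.conj (g₁ * X ^ i * C))⁻¹ (φ X) = X
      rw [map_mul, mul_inv_rev, MulAut.mul_apply, show (MulAut.conj (g₁ * X ^ i))⁻¹ (φ X) = X from h2x,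
        ← map_inv, MulAut.conj_apply, inv_inv, mul_assoc, ← hCX, inv_mul_cancel_left]
    · have e2 : (((MulAut.conj (g₁ * X ^ i * C))⁻¹ * φ) T) = C⁻¹ * R * C := by
        show (MulAut.conj (g₁ * X ^ i * C))⁻¹ (φ T) = _
        rw [map_mul, mul_inv_rev, MulAut.mul_apply, show (MulAut.conj (g₁ * X ^ i))⁻¹ (φ T) = R from h2t,
          ← map_inv, MulAut.conj_apply, inv_inv]
      have e3 : ((C⁻¹ * R * C : grp w n d) : Equiv.Perm (Fin n)) = toPerm w n d.tImg := by
        simp only [Subgroup.coe_mul, InvMemClass.coe_inv, hRC]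
        group
      rw [e2, e3]
      exact fwd_rep (rep_toPerm htv)
  rw [if_neg hu1] at hck
  exfalso
  simp only [Bool.and_eq_true, List.all_eq_true, Nat.blt_eq] at hck
  obtain ⟨hl, hne⟩ := hck
  set l := u.2.2.1
  set m := u.2.2.2
  have keyw : ∀ (z : ℕ) (Z : grp w n d), Fwd w (z, (Z : Equiv.Perm (Fin n))) →
      (same w n (wordCodes d z l m) [] = true ↔
        ((List.replicate m (l.flatMap fun a => [X ^ a, Z])).flatten).prod = 1) := by
    intro z Z hz
    let A : List (ℕ × Equiv.Perm (Fin n)) := (List.replicate m (l.flatMap fun a =>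
      [((d.xp a).1, ((X ^ a : grp w n d) : Equiv.Perm (Fin n))), (z, (Z : Equiv.Perm (Fin n)))])).flatten
    have hA : A.map Prod.fst = wordCodes d z l m := word_map _ _ _ _ _
    have hA2 : (A.map Prod.snd).prod =
        ((((List.replicate m (l.flatMap fun a => [X ^ a, Z])).flatten).prod : grp w n d) : Equiv.Perm (Fin n)) := by
      rw [SubmonoidClass.coe_list_prod, word_map, word_map]
    have := same_iff (w := w) (A := A) (B := []) (fun e he => by
      simp only [A, List.mem_flatten, List.mem_replicate, exists_and_right] at he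
      obtain ⟨q, ⟨-, rfl⟩, hq⟩ := he
      simp only [List.mem_flatMap, List.mem_cons, List.not_mem_nil, or_false] at hq
      obtain ⟨a, ha, rfl | rfl⟩ := hq
      exacts [fwd_rep (rpow a (hl a ha)), hz]) (by simp)
    rw [hA, hA2] at this
    simp only [List.map_nil, List.prod_nil] at this
    exact this.trans OneMemClass.coe_eq_one
  have hmap : φ₂ ((List.replicate m (l.flatMap fun a => [X ^ a, T])).flatten).prod =
      ((List.replicate m (l.flatMap fun a => [X ^ a, R])).flatten).prod := by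
    rw [map_list_prod, word_map]
    simp only [map_pow, h2x, h2t]
  have h := Bool.eq_iff_iff.2 ((keyw _ R hfr).trans
    ((by rw [← hmap]; exact MulEquiv.map_eq_one_iff φ₂ :
      ((List.replicate m (l.flatMap fun a => [X ^ a, R])).flatten).prod = 1 ↔
      ((List.replicate m (l.flatMap fun a => [X ^ a, T])).flatten).prod = 1).trans
      (keyw _ T (fwd_rep rt)).symm))
  rw [h] at hne
  simp at hne

end Cfsg.Agent.PermAut
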