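import Cfsg.Agent.Lib.Compute.PermCert

/-!
Boolean checks bounding the automorphism group of a coded permutation group generated by an element
`x` of prime order with cyclic Sylow subgroup and an involution `t`: the involutions are listed up to
conjugation by powers of `x`, and each listed involution is either the image of `t` under a known
automorphism fixing `x` or is distinguished from `t` by the order of a word in `x` and itself.
-/

set_option autoImplicit false

namespace Cfsg.Agent.PermAut

open Cfsg.Agent.PermCert

/-- Evaluate a number before handing it over. -/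
def strict {β : Type} (v : ℕ) (f : ℕ → β) : β :=
  match v with
  | 0 => f 0
  | m + 1 => f (m + 1)

theorem strict_eq {β : Type} (v : ℕ) (f : ℕ → β) : strict v f = f v := by cases v <;> rfl

/-- Evaluate a list of numbers before handing it over. -/
def strictList {β : Type} : List ℕ → (List ℕ → β) → β
  | [], f => f []
  | a :: as, f => strict a fun a' => strictList as fun as' => f (a' :: as')

theorem strictList_eq {β : Type} : ∀ (L : List ℕ) (f : List ℕ → β), strictList L f = f L
  | [], _ => rfl
  | a :: as, f => by rw [strictList, strict_eq, strictList_eq as]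

/-- An entry of a packed code, with the modulus precomputed. -/
def getM (w M p i : ℕ) : ℕ := Nat.mod (Nat.shiftRight p (Nat.mul w i)) M

theorem getM_eq (w p i : ℕ) : getM w (2 ^ w) p i = get w p i := rfl

/-- Seven codes act as an eighth on the points below a bound. -/
def sameConj (w M e2 a c1 r c2 a' e1 r' : ℕ) : ℕ → Bool
  | 0 => true
  | i + 1 => Nat.beq (getM w M e2 (getM w M a (getM w M c1 (getM w M r (getM w M c2 (getM w M a'
      (getM w M e1 i))))))) (getM w M r' i) && sameConj w M e2 a c1 r c2 a' e1 r' i

/-- A list of codes fixes the points below a bound. -/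
def fixesM (w M : ℕ) (cs : List ℕ) : ℕ → Bool
  | 0 => true
  | i + 1 => Nat.beq (cs.foldr (fun c x => getM w M c x) i) i && fixesM w M cs i

/-- A chunked table. -/
def getTbl {α : Type} (L : List (List α)) (k : ℕ) (dflt : α) : α := (L.getD (k / 64) []).getD (k % 64) dflt

/-- A table of codes below `2 ^ 128`, packed by 256. -/
def getPacked (L : List ℕ) (k : ℕ) : ℕ := get 128 (L.getD (k / 256) 0) (k % 256)

/-- Entry-by-entry application of a list of codes, the last code first. -/
def app (w : ℕ) (cs : List ℕ) (i : ℕ) : ℕ := cs.foldr (fun c x => get w c x) i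

/-- Two lists of codes act equally on the points below `n`. -/
def same (w n : ℕ) (as bs : List ℕ) : Bool := allBelow (fun i => Nat.beq (app w as i) (app w bs i)) n

/-- All products of a chain, as lists of codes. -/
def prods : List CLevel → List (List ℕ)
  | [] => [[]]
  | (_, _, T) :: L => T.flatMap fun t => (prods L).map fun cs => t.2.1.1 :: cs

/-- The certificate data. -/
structure AutData where
  p : ℕ
  m : ℕ
  root : ℕ
  x : Elt
  t : Elt
  nn : Elt
  xPows : List Elt
  derived : List (Elt × List ℕ)
  levels : List CLevel
  sDepth : ℕ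
  sGens : List Elt
  sDerived : List (Elt × List ℕ)
  sLevels : List CLevel
  nReps : ℕ
  reps : List ℕ
  clos : List (List ℕ)
  sWit : List (ℕ × ℕ)
  cents : List Elt
  cls : List (List (ℕ × ℕ × List ℕ × ℕ))
  sigma : Elt
  tImg : Elt

variable (w n : ℕ) (d : AutData)

/-- The code of a power of `x`. -/
def AutData.xp (i : ℕ) : Elt := d.xPows.getD i (0, 0)

/-- The generators of the group. -/
def AutData.gens : List Elt := [d.x, d.t]

/-- The basic elements. -/
def baseOK : Bool :=
  validElt w n d.x && validElt w n d.t && validElt w n d.nn && sift w n d.levels d.nn.1 &&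
  Nat.beq d.xPows.length d.p && d.xPows.all (fun e => validElt w n e) &&
  allBelow (fun i => same w n [(d.xp i).1] (List.replicate i d.x.1)) d.p &&
  same w n (List.replicate d.p d.x.1) [] && !same w n [d.x.1] [] &&
  same w n [d.t.1, d.t.1] [] && !same w n [d.t.1] [] &&
  same w n [d.nn.1, d.x.1] (List.replicate d.root d.x.1 ++ [d.nn.1]) &&
  allBelow (fun j => Nat.beq j 0 || (List.range d.p).any fun i => Nat.beq (d.root ^ i % d.p) j) d.p &&
  Nat.beq (certOrder d.levels) (d.p * d.m) && !Nat.beq (d.m % d.p) 0 &&
  d.sGens.all (fun g => validElt w n g && sift w n d.levels g.1) &&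
  Nat.beq (certOrder d.sLevels) (2 ^ d.sDepth) && !Nat.beq (certOrder d.levels / 2 ^ d.sDepth % 2) 0 &&
  Nat.beq (certOrder d.levels % 2 ^ d.sDepth) 0 &&
  d.cents.all (fun c => validElt w n c && sift w n d.levels c.1 && same w n [c.1, d.x.1] [d.x.1, c.1])

/-- Conjugation by `t` permutes the listed involutions. -/
def closureOK (lo hi : ℕ) : Bool :=
  allBelow (fun k' => strict (lo + k') fun k => strict (getPacked d.reps k) fun r =>
    strict (getTbl d.clos k 0) fun row => strict d.t.1 fun a => strict d.t.2 fun a' => allBelow (fun i =>
      strict (get 16 row i) fun v => strict (v / d.p) fun u1 => strict (v % d.p) fun u2 =>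
      strict (d.xp i).1 fun c1 => strict (d.xp i).2 fun c2 =>
      strict (d.xp u2).1 fun e1 => strict (d.xp u2).2 fun e2 => strict (getPacked d.reps u1) fun r' =>
      Nat.blt u1 d.nReps && Nat.blt u2 d.p && strict (2 ^ w) fun M => sameConj w M e2 a c1 r c2 a' e1 r' n)
    d.p) (hi - lo)

/-- Every involution of the Sylow subgroup is listed. -/
def sylowOK : Bool :=
  Nat.beq (prods d.sLevels).length d.sWit.length &&
  ((prods d.sLevels).zip d.sWit).all fun e =>
    !same w n (e.1 ++ e.1) [] || same w n e.1 [] ||
      (Nat.blt e.2.1 d.nReps && Nat.blt e.2.2 d.p &&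
        same w n ((d.xp e.2.2).2 :: e.1 ++ [(d.xp e.2.2).1]) [getPacked d.reps e.2.1])

/-- The codes of a word. -/
def wordCodes (r : ℕ) (l : List ℕ) (m : ℕ) : List ℕ :=
  (List.replicate m (l.flatMap fun a => [(d.xp a).1, r])).flatten

/-- Each listed involution is the image of `t` under a known automorphism or is distinguished from it;
the second kind of image is permitted when `two` is set. -/
def classifyOK (two : Bool) (lo hi : ℕ) : Bool :=
  allBelow (fun k' =>
    strict (lo + k') fun k => strict (getPacked d.reps k) fun r =>
    let u := getTbl d.cls k (2, 0, [], 0)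
    let c := d.cents.getD u.2.1 (0, 0)
    if u.1 = 0 then Nat.blt u.2.1 d.cents.length && same w n [c.1, d.t.1, c.2] [r]
    else if u.1 = 1 then two && validElt w n d.tImg && Nat.blt u.2.1 d.cents.length && same w n [c.1, d.tImg.1, c.2] [r]
    else u.2.2.1.all (fun a => Nat.blt a d.p) &&
      strict (2 ^ w) fun M =>
        (strictList (wordCodes d r u.2.2.1 u.2.2.2) fun cs => fixesM w M cs n) !=
          (strictList (wordCodes d d.t.1 u.2.2.1 u.2.2.2) fun cs => fixesM w M cs n))
    (hi - lo)

/-- The second automorphism. -/
def sigmaOK : Bool :=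
  validElt w n d.sigma && validElt w n d.tImg && sift w n d.levels d.tImg.1 &&
  same w n [d.sigma.1, d.sigma.1] [] && same w n [d.sigma.1, d.x.1] [d.x.1, d.sigma.1] &&
  same w n [d.sigma.1, d.t.1] [d.tImg.1, d.sigma.1] && d.levels.all (fun l => Nat.blt l.1 n)

/-- The images of the points in `ds` under a product commute with `x`. -/
def consistent (P ds : List ℕ) : Bool :=
  ds.all fun j => ds.all fun k => !Nat.beq (get w d.x.1 j) k || Nat.beq (get w d.x.1 (app w P j)) (app w P k)

/-- No element of the group commutes with `x` and carries `t` to the second image. -/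
def noElt : List CLevel → List ℕ → List ℕ → Bool
  | [], P, _ => !(same w n (P ++ [d.x.1]) (d.x.1 :: P) && same w n (P ++ [d.t.1]) (d.tImg.1 :: P))
  | (b, _, T) :: L, P, ds => T.all fun e =>
      !consistent w d (P ++ [e.2.1.1]) (b :: ds) || noElt L (P ++ [e.2.1.1]) (b :: ds)

end Cfsg.Agent.PermAut
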