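import Cfsg.Agent.Lib.Compute.AutSpec

/-!
The order of the outer automorphism group from the checks.
-/

set_option autoImplicit false

namespace Cfsg.Agent.PermAut

open Cfsg Cfsg.Agent.PermCert

variable {w n : ℕ} [NeZero n] {d : AutData}

theorem noElt_spec {X : Equiv.Perm (Fin n)} (hX : Rep w d.x X) {T R : Equiv.Perm (Fin n)}
    (hT : Rep w d.t T) (hR : Rep w d.tImg R) :
    ∀ (L : List CLevel), Good (interp w n L) → AllRep w n L → (∀ l ∈ L, l.1 < n) →
      ∀ (A : List (ℕ × Equiv.Perm (Fin n))) (ds : List ℕ), (∀ e ∈ A, Fwd w e) → (∀ j ∈ ds, j < n) →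
        noElt w n d L (A.map Prod.fst) ds = true →
        (∀ g ∈ prodSet (interp w n L), ∀ (i : Fin n), (i : ℕ) ∈ ds → g i = i) →
        ∀ h ∈ prodSet (interp w n L),
          (A.map Prod.snd).prod * h * X = X * ((A.map Prod.snd).prod * h) →
          (A.map Prod.snd).prod * h * T ≠ R * ((A.map Prod.snd).prod * h) := by
  intro L
  induction L with
  | nil =>
    intro _ _ _ A ds hA _ hok _ h hh hx ht
    simp [interp, prodSet] at hh
    subst hh
    rw [mul_one] at hx ht
    simp only [noElt, Bool.not_eq_true', Bool.and_eq_false_iff] at hok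
    rcases hok with hok | hok
    · have := (same_iff (w := w) (A := A ++ [(d.x.1, X)]) (B := (d.x.1, X) :: A)
        (fun e he => by
          rcases List.mem_append.1 he with he | he
          · exact hA e he
          · rw [List.mem_singleton.1 he]; exact fwd_rep hX)
        (fun e he => by
          rcases List.mem_cons.1 he with he | he
          · rw [he]; exact fwd_rep hX
          · exact hA e he)).2 (by simpa [List.prod_append] using hx)
      simp only [List.map_append, List.map_cons, List.map_nil] at this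
      simp [hok] at this
    · have := (same_iff (w := w) (A := A ++ [(d.t.1, T)]) (B := (d.tImg.1, R) :: A)
        (fun e he => by
          rcases List.mem_append.1 he with he | he
          · exact hA e he
          · rw [List.mem_singleton.1 he]; exact fwd_rep hT)
        (fun e he => by
          rcases List.mem_cons.1 he with he | he
          · rw [he]; exact fwd_rep hR
          · exact hA e he)).2 (by simpa [List.prod_append] using ht)
      simp only [List.map_append, List.map_cons, List.map_nil] at this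
      simp [hok] at this
  | cons l L ih =>
    obtain ⟨b, S, T'⟩ := l
    intro hg hall hb A ds hA hds hok hfix h hh hx ht
    have hbn : b < n := hb _ List.mem_cons_self
    have hfix' : ∀ g ∈ prodSet (interp w n L), ∀ i : Fin n, (i : ℕ) ∈ b :: ds → g i = i := by
      intro g hg' i hi
      rcases List.mem_cons.1 hi with hi | hi
      · have h1 : g (Fin.ofNat n b) = Fin.ofNat n b := fix_of_mem_prodSet hg hg'
        rwa [show Fin.ofNat n b = i from Fin.ext (by rw [Fin.val_ofNat, Nat.mod_eq_of_lt hbn, hi])] at h1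
      · exact hfix g ⟨1, hg.2.2.2.1, g, hg', one_mul g⟩ i hi
    obtain ⟨τ, hτ, h', hh', rfl⟩ := hh
    obtain ⟨e, he, rfl⟩ := List.mem_map.1 hτ
    obtain ⟨σ, hσ⟩ := hall.2.1 e he
    rw [epsilon_rep hσ] at hx ht
    simp only [noElt, List.all_eq_true, Bool.or_eq_true, Bool.not_eq_true'] at hok
    set A' := A ++ [(e.2.1.1, σ)] with hA'def
    have hA' : ∀ a ∈ A', Fwd w a := fun a ha => by
      rcases List.mem_append.1 ha with ha | ha
      · exact hA a ha
      · rw [List.mem_singleton.1 ha]; exact fwd_rep hσ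
    have hfst : A'.map Prod.fst = A.map Prod.fst ++ [e.2.1.1] := by simp [hA'def]
    have hprod : (A'.map Prod.snd).prod = (A.map Prod.snd).prod * σ := by simp [hA'def]
    rw [← mul_assoc, ← hprod] at hx ht
    have hds' : ∀ j ∈ b :: ds, j < n := fun j hj => by
      rcases List.mem_cons.1 hj with rfl | hj
      exacts [hbn, hds j hj]
    rcases hok e he with hcon | hrec
    · rw [← Bool.not_eq_true] at hcon
      refine hcon ?_
      simp only [consistent, List.all_eq_true, Bool.or_eq_true, Bool.not_eq_true', ← hfst]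
      intro j hj k hk
      by_cases hjk : get w d.x.1 j = k
      · right
        rw [Nat.beq_eq]
        have h1 : X ⟨j, hds' j hj⟩ = ⟨k, hds' k hk⟩ := Fin.ext ((hX ⟨j, hds' j hj⟩).1.symm.trans hjk)
        have e1 := congrArg (fun g : Equiv.Perm (Fin n) => g ⟨j, hds' j hj⟩) hx
        simp only [Equiv.Perm.mul_apply] at e1
        rw [h1, hfix' h' hh' ⟨k, hds' k hk⟩ hk, hfix' h' hh' ⟨j, hds' j hj⟩ hj] at e1
        rw [show app w (A'.map Prod.fst) j = _ from app_prod A' hA' ⟨j, hds' j hj⟩, (hX _).1, ← e1,
          show app w (A'.map Prod.fst) k = _ from app_prod A' hA' ⟨k, hds' k hk⟩]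
      · left
        rw [← Bool.not_eq_true, Nat.beq_eq]
        exact hjk
    · exact ih hg.1 hall.2.2 (fun l hl => hb l (List.mem_cons_of_mem _ hl)) A' (b :: ds) hA' hds'
        (hfst ▸ hrec) hfix' h' hh' hx ht

section

variable (hc : checkCert w n d.gens d.derived d.levels = true) (hb : baseOK w n d = true)
  (hcl : ∀ k < d.nReps, ∃ lo hi, lo ≤ k ∧ k < hi ∧ closureOK w n d lo hi = true)
  (hsc : checkCert w n d.sGens d.sDerived d.sLevels = true) (hsy : sylowOK w n d = true)
  (hprime : d.p.Prime)

include hc hb hcl hsc hsy hprime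

/-- No outer automorphisms. -/
theorem card_out_one
    (hk : ∀ k < d.nReps, ∃ lo hi, lo ≤ k ∧ k < hi ∧ classifyOK w n d false lo hi = true) :
    Nat.card (Out (grp w n d)) = 1 := by
  have h : Inn (grp w n d) = ⊤ := eq_top_iff.2 fun φ _ =>
    (aut_cases hc hb hcl hsc hsy false hk hprime φ).resolve_right fun h => Bool.noConfusion h.1
  show Nat.card (MulAut (grp w n d) ⧸ Inn (grp w n d)) = 1
  rw [← Subgroup.index_eq_card, h, Subgroup.index_top]

/-- Exactly one class of outer automorphisms. -/
theorem card_out_two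
    (hk : ∀ k < d.nReps, ∃ lo hi, lo ≤ k ∧ k < hi ∧ classifyOK w n d true lo hi = true)
    (hs : sigmaOK w n d = true) (hno : noElt w n d d.levels [] [] = true) :
    Nat.card (Out (grp w n d)) = 2 := by
  obtain ⟨rx, rt, -⟩ := base_facts hc hb
  simp only [sigmaOK, Bool.and_eq_true, List.all_eq_true, Nat.blt_eq] at hs
  obtain ⟨⟨⟨⟨⟨⟨hsv, hRv⟩, hRs⟩, hss⟩, hsx⟩, hst⟩, hlb⟩ := hs
  have rs := rep_toPerm hsv
  have rR := rep_toPerm hRv
  set S := toPerm w n d.sigma
  set R := toPerm w n d.tImg
  set X : Equiv.Perm (Fin n) := ↑(gx w n d)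
  set T : Equiv.Perm (Fin n) := ↑(gt w n d)
  have hRmem : R ∈ grp w n d := cert_mem hc hRv hRs
  have hSS : S * S = 1 := by
    have := (same_iff (w := w) (A := [(d.sigma.1, S), (d.sigma.1, S)]) (B := [])
      (by simp [fwd_rep rs]) (by simp)).1 (by simpa using hss)
    simpa using this
  have hSX : S * X = X * S := by
    have := (same_iff (w := w) (A := [(d.sigma.1, S), (d.x.1, X)]) (B := [(d.x.1, X), (d.sigma.1, S)])
      (by simp [fwd_rep rs, fwd_rep rx]) (by simp [fwd_rep rs, fwd_rep rx])).1 (by simpa using hsx)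
    simpa using this
  have hST : S * T = R * S := by
    have := (same_iff (w := w) (A := [(d.sigma.1, S), (d.t.1, T)]) (B := [(d.tImg.1, R), (d.sigma.1, S)])
      (by simp [fwd_rep rs, fwd_rep rt]) (by simp [fwd_rep rs, fwd_rep rR])).1 (by simpa using hst)
    simpa using this
  have hSi : S⁻¹ = S := inv_eq_of_mul_eq_one_right hSS
  have hgens : ∀ {K : Subgroup (Equiv.Perm (Fin n))}, X ∈ K → T ∈ K → grp w n d ≤ K := by
    intro K hx ht
    refine (Subgroup.closure_le _).2 fun σ hσ => ?_
    simp only [AutData.gens, List.map_cons, List.map_nil, Set.mem_ofPred_eq, List.mem_cons,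
      List.not_mem_nil, or_false] at hσ
    rcases hσ with rfl | rfl
    exacts [hx, ht]
  have hconj : ∀ a ∈ grp w n d, S * a * S ∈ grp w n d := by
    intro a ha
    have h : grp w n d ≤ (grp w n d).comap (MulAut.conj S).toMonoidHom := by
      refine hgens ?_ ?_
      · show S * X * S⁻¹ ∈ grp w n d
        rw [hSX, mul_inv_cancel_right]
        exact (gx w n d).2
      · show S * T * S⁻¹ ∈ grp w n d
        rw [hST, mul_inv_cancel_right]
        exact hRmem
    have := h ha
    rwa [Subgroup.mem_comap, show (MulAut.conj S).toMonoidHom a = S * a * S⁻¹ from rfl, hSi] at this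
  have hinv : ∀ a : Equiv.Perm (Fin n), S * (S * a * S) * S = a := fun a => by
    calc S * (S * a * S) * S = (S * S) * a * (S * S) := by group
      _ = a := by rw [hSS, one_mul, mul_one]
  let σA : MulAut (grp w n d) :=
    { toFun := fun a => ⟨S * a * S, hconj a a.2⟩
      invFun := fun a => ⟨S * a * S, hconj a a.2⟩
      left_inv := fun a => Subtype.ext (hinv a)
      right_inv := fun a => Subtype.ext (hinv a)
      map_mul' := fun a b => Subtype.ext (by
        show S * ((a : Equiv.Perm (Fin n)) * b) * S = S * a * S * (S * b * S)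
        calc S * ((a : Equiv.Perm (Fin n)) * b) * S = S * a * (S * S) * b * S := by
              rw [hSS, mul_one, mul_assoc S (a : Equiv.Perm (Fin n))]
          _ = S * a * S * (S * b * S) := by group) }
  have hσx : σA (gx w n d) = gx w n d := Subtype.ext (by
    show S * X * S = X
    rw [hSX, mul_assoc, hSS, mul_one])
  have hσt : ((σA (gt w n d) : grp w n d) : Equiv.Perm (Fin n)) = R := by
    show S * T * S = R
    rw [hST, mul_assoc, hSS, mul_one]
  have hσ2 : σA * σA = 1 := MulEquiv.ext fun a => Subtype.ext (hinv a)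
  have hout : σA ∉ Inn (grp w n d) := by
    rintro ⟨g, hg⟩
    obtain ⟨hgood, he⟩ := cert_good hc
    have hps : (g : Equiv.Perm (Fin n)) ∈ prodSet (interp w n d.levels) := by
      have := g.2
      change (g : Equiv.Perm (Fin n)) ∈ genGroup w n d.gens at this
      rw [← SetLike.mem_coe, ← he, closure_carrier] at this
      rw [prodSet_eq _ hgood]
      exact this
    have hall : AllRep w n d.levels := by
      have h := hc
      simp only [checkCert, Bool.and_eq_true, List.all_eq_true, Nat.ble_eq] at h
      obtain ⟨⟨⟨⟨⟨hn, hval⟩, hder⟩, htop⟩, hlev⟩, -⟩ := h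
      have hpool := derived_spec hn d.derived d.gens
        (M := (⊤ : Submonoid (Equiv.Perm (Fin n))))
        (fun g hg => ⟨toPerm w n g, trivial, rep_toPerm (hval g hg)⟩) hder
      exact (levels_spec hn d.levels hlev
        (fun s hs => let ⟨σ, _, h⟩ := hpool s (memCode_spec (htop s hs)); ⟨σ, h⟩)).1
    have e1 : (g : Equiv.Perm (Fin n)) * X * (g : Equiv.Perm (Fin n))⁻¹ = X :=
      congrArg Subtype.val ((DFunLike.congr_fun hg (gx w n d)).trans hσx)
    have e2 : (g : Equiv.Perm (Fin n)) * T * (g : Equiv.Perm (Fin n))⁻¹ = R :=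
      (congrArg Subtype.val (DFunLike.congr_fun hg (gt w n d))).trans hσt
    have := noElt_spec rx rt rR d.levels hgood hall hlb [] [] (by simp) (by simp) hno (by simp) _ hps
    simp only [List.map_nil, List.prod_nil, one_mul] at this
    exact this (mul_inv_eq_iff_eq_mul.1 e1) (mul_inv_eq_iff_eq_mul.1 e2)
  have aut_ext : ∀ {φ ψ : MulAut (grp w n d)}, φ (gx w n d) = ψ (gx w n d) →
      φ (gt w n d) = ψ (gt w n d) → φ = ψ := by
    intro φ ψ hx ht
    refine MulEquiv.ext fun a => ?_
    obtain ⟨b, hb', he⟩ := hgens (K := (φ.toMonoidHom.eqLocus ψ.toMonoidHom).map (grp w n d).subtype)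
      ⟨gx w n d, hx, rfl⟩ ⟨gt w n d, ht, rfl⟩ a.2
    exact Subtype.ext he ▸ hb'
  show Nat.card (MulAut (grp w n d) ⧸ Inn (grp w n d)) = 2
  rw [← Subgroup.index_eq_card, Subgroup.index_eq_two_iff]
  refine ⟨σA, fun b => ?_⟩
  rcases aut_cases hc hb hcl hsc hsy true hk hprime b with hb' | ⟨-, g, hgx, hgt⟩
  · exact Or.inr ⟨hb', fun h => hout (by
      simpa using (Inn (grp w n d)).mul_mem ((Inn (grp w n d)).inv_mem hb') h)⟩
  · have hbeq : (MulAut.conj g)⁻¹ * b = σA := aut_ext (hgx.trans hσx.symm) (Subtype.ext (by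
      rw [hσt]
      exact Equiv.ext fun i => Fin.ext ((hgt i).symm.trans (rR i).1)))
    have hbe : b = MulAut.conj g * σA := by rw [← hbeq, mul_inv_cancel_left]
    have hg : MulAut.conj g ∈ Inn (grp w n d) := ⟨g, rfl⟩
    subst hbe
    refine Or.inl ⟨by rw [mul_assoc, hσ2, mul_one]; exact hg, fun h => hout ?_⟩
    simpa using (Inn (grp w n d)).mul_mem ((Inn (grp w n d)).inv_mem hg) h

end

end Cfsg.Agent.PermAut
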