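import Cfsg.Agent.Lib.Compute.AutSpec

/-!
The outer automorphism group without listing involutions: generators `x`, `u` with `x` of prime order
generating a self-centralising Sylow subgroup, `nn` normalising it and centralised by `u`, and complete
lists of the centralisers of `x` and `nn`, found by a pruned search of a stabiliser chain.
-/

set_option autoImplicit false
set_option maxHeartbeats 1000000

namespace Cfsg.Agent.CentAut

open Cfsg Cfsg.Agent.PermCert Cfsg.Agent.PermAut

/-- The certificate data. -/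
structure FrameData where
  p : ℕ
  m : ℕ
  r : ℕ
  rinv : ℕ
  x : Elt
  u : Elt
  nn : Elt
  xPows : List Elt
  derived : List (Elt × List ℕ)
  levels : List CLevel
  cent : List Elt
  svals : List ℕ
  verdicts : List (List (ℕ × List ℕ × ℕ))
  sOut : ℕ
  uImg : Elt
  sigma : Elt

/-- The generators. -/
def FrameData.gens (d : FrameData) : List Elt := [d.x, d.u]

variable (w n : ℕ) (d : FrameData)

/-- The images of the new point `b` and of the points in `ds` under a product commute with the codes `cs`. -/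
def agrees (cs : List ℕ) (P : List ℕ) (b : ℕ) (ds : List ℕ) : Bool :=
  cs.all fun c => ds.all fun j =>
    (!Nat.beq (get w c b) j || Nat.beq (get w c (app w P b)) (app w P j)) &&
      (!Nat.beq (get w c j) b || Nat.beq (get w c (app w P j)) (app w P b))

/-- The elements of a chain commuting with `c` are among the listed codes; `cs` serves to prune. -/
def centAll (cs : List ℕ) (c : ℕ) (cl : List ℕ) : List CLevel → List ℕ → List ℕ → Bool
  | [], P, _ => !same w n (P ++ [c]) (c :: P) || cl.any fun e => same w n P [e]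
  | (b, _, T) :: L, P, ds => T.all fun e => strict e.2.1.1 fun t =>
      !agrees w cs (P ++ [t]) b (b :: ds) || centAll cs c cl L (P ++ [t]) (b :: ds)

/-- The code list of a word in two codes, the first to given powers. -/
def wordOf (xc uc : ℕ) (l : List ℕ) (m : ℕ) : List ℕ :=
  (List.replicate m (l.flatMap fun a => List.replicate a xc ++ [uc])).flatten

/-- The basic elements. -/
def frameOK : Bool :=
  validElt w n d.x && validElt w n d.u && validElt w n d.nn && sift w n d.levels d.nn.1 &&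
  d.cent.all (fun c => validElt w n c) && d.levels.all (fun l => Nat.blt l.1 n) &&
  Nat.beq d.xPows.length d.p &&
  allBelow (fun i => same w n [(d.xPows.getD i (0, 0)).1] (List.replicate i d.x.1)) d.p &&
  same w n (List.replicate d.p d.x.1) [] && !same w n [d.x.1] [] &&
  same w n [d.nn.1, d.x.1] (List.replicate d.r d.x.1 ++ [d.nn.1]) &&
  same w n [d.u.1, d.nn.1] [d.nn.1, d.u.1] &&
  Nat.beq (d.r * d.rinv % d.p) 1 &&
  allBelow (fun b => (List.range d.p).any fun a => Nat.beq (a * d.rinv % d.p) ((b + a) % d.p)) d.p &&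
  allBelow (fun j => Nat.beq j 0 || (List.range d.p).any fun i => d.svals.any fun s =>
    Nat.beq (d.r ^ i * s % d.p) j) d.p &&
  Nat.beq (certOrder d.levels) (d.p * d.m) && !Nat.beq (d.m % d.p) 0

/-- The centraliser searches. -/
def centXOK : Bool := centAll w n (d.xPows.map Prod.fst).tail d.x.1 (d.xPows.map Prod.fst) d.levels [] []

/-- The centraliser of the normalising element. -/
def centNOK : Bool := centAll w n [d.nn.1] d.nn.1 (d.cent.map Prod.fst) d.levels [] []

/-- Every pair of images is that of the identity, of the second automorphism, or refuted by a word. -/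
def casesOK (two : Bool) : Bool :=
  allBelow (fun i => allBelow (fun k =>
    let s := d.svals.getD i 0
    let c := d.cent.getD k (0, 0)
    let v := (d.verdicts.getD i []).getD k (2, [], 0)
    if v.1 = 0 then Nat.beq s 1 && same w n [c.1] [d.u.1]
    else if v.1 = 1 then two && Nat.beq s d.sOut && same w n [c.1] [d.uImg.1]
    else same w n (wordOf d.x.1 d.u.1 v.2.1 v.2.2) [] !=
      same w n (wordOf d.x.1 c.1 (v.2.1.map fun a => s * a % d.p) v.2.2) [])
    d.cent.length) d.svals.length

/-- The second automorphism, and no group element acts as it does. -/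
def outerOK : Bool :=
  validElt w n d.sigma && validElt w n d.uImg && sift w n d.levels d.uImg.1 &&
  same w n [d.sigma.1, d.sigma.1] [] &&
  same w n [d.sigma.1, d.x.1] (List.replicate d.sOut d.x.1 ++ [d.sigma.1]) &&
  same w n [d.sigma.1, d.u.1] [d.uImg.1, d.sigma.1] && same w n [d.sigma.1, d.nn.1] [d.nn.1, d.sigma.1] &&
  d.cent.all fun c => !(same w n [c.1, d.x.1] (List.replicate d.sOut d.x.1 ++ [c.1]) &&
    same w n [c.1, d.u.1] [d.uImg.1, c.1])

section Proof

variable {w n d} [NeZero n]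

theorem centAll_spec {c : ℕ} {C : Equiv.Perm (Fin n)} (hC : Fwd w (c, C)) {cs cl : List ℕ}
    (hcs : ∀ q ∈ cs, ∃ Q : Equiv.Perm (Fin n), Fwd w (q, Q) ∧ ∀ g, g * C = C * g → g * Q = Q * g) :
    ∀ (L : List CLevel), Good (interp w n L) → AllRep w n L → (∀ l ∈ L, l.1 < n) →
      ∀ (A : List (ℕ × Equiv.Perm (Fin n))) (ds : List ℕ), (∀ e ∈ A, Fwd w e) → (∀ j ∈ ds, j < n) →
        centAll w n cs c cl L (A.map Prod.fst) ds = true →
        (∀ g ∈ prodSet (interp w n L), ∀ (i : Fin n), (i : ℕ) ∈ ds → g i = i) →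
        ∀ h ∈ prodSet (interp w n L),
          (A.map Prod.snd).prod * h * C = C * ((A.map Prod.snd).prod * h) →
          ∃ e ∈ cl, Fwd w (e, (A.map Prod.snd).prod * h) := by
  intro L
  induction L with
  | nil =>
    intro _ _ _ A ds hA _ hok _ h hh hx
    simp [interp, prodSet] at hh
    subst hh
    rw [mul_one] at hx ⊢
    simp only [centAll, Bool.or_eq_true, Bool.not_eq_true', List.any_eq_true] at hok
    rcases hok with hok | ⟨e, he, hs⟩
    · have := (same_iff (w := w) (A := A ++ [(c, C)]) (B := (c, C) :: A)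
        (fun e he => by
          rcases List.mem_append.1 he with he | he
          · exact hA e he
          · rw [List.mem_singleton.1 he]; exact hC)
        (fun e he => by
          rcases List.mem_cons.1 he with he | he
          · rw [he]; exact hC
          · exact hA e he)).2 (by simpa [List.prod_append] using hx)
      simp only [List.map_append, List.map_cons, List.map_nil] at this
      simp [hok] at this
    · refine ⟨e, he, fun i => ?_⟩
      have h1 := allBelow_spec _ _ hs i i.2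
      rw [Nat.beq_eq, app_prod A hA i] at h1
      exact h1.symm
  | cons l L ih =>
    obtain ⟨b, S, T'⟩ := l
    intro hg hall hb A ds hA hds hok hfix h hh hx
    have hbn : b < n := hb _ List.mem_cons_self
    have hfix' : ∀ g ∈ prodSet (interp w n L), ∀ i : Fin n, (i : ℕ) ∈ b :: ds → g i = i := by
      intro g hg' i hi
      rcases List.mem_cons.1 hi with hi | hi
      · have h1 : g (Fin.ofNat n b) = Fin.ofNat n b := fix_of_mem_prodSet hg hg'
        rwa [show Fin.ofNat n b = i from Fin.ext (by rw [Fin.val_ofNat, Nat.mod_eq_of_lt hbn, hi])] at h1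
      · exact hfix g ⟨1, hg.2.2.2.1, g, hg', one_mul g⟩ i hi
    obtain ⟨τ, hτ, h', hh', rfl⟩ := hh
    obtain ⟨e, he, rfl⟩ := List.mem_map.1 hτ
    obtain ⟨σ, hσ⟩ := hall.2.1 e he
    rw [epsilon_rep hσ] at hx ⊢
    simp only [centAll, strict_eq, List.all_eq_true, Bool.or_eq_true, Bool.not_eq_true'] at hok
    set A' := A ++ [(e.2.1.1, σ)] with hA'def
    have hA' : ∀ a ∈ A', Fwd w a := fun a ha => by
      rcases List.mem_append.1 ha with ha | ha
      · exact hA a ha
      · rw [List.mem_singleton.1 ha]; exact fwd_rep hσ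
    have hfst : A'.map Prod.fst = A.map Prod.fst ++ [e.2.1.1] := by simp [hA'def]
    have hprod : (A'.map Prod.snd).prod = (A.map Prod.snd).prod * σ := by simp [hA'def]
    rw [← mul_assoc, ← hprod] at hx ⊢
    have hds' : ∀ j ∈ b :: ds, j < n := fun j hj => by
      rcases List.mem_cons.1 hj with rfl | hj
      exacts [hbn, hds j hj]
    rcases hok e he with hcon | hrec
    · rw [← Bool.not_eq_true] at hcon
      refine absurd ?_ hcon
      simp only [agrees, List.all_eq_true, Bool.or_eq_true, Bool.and_eq_true, Bool.not_eq_true', ← hfst]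
      intro q hq j hj
      obtain ⟨Q, hQ, hQc⟩ := hcs q hq
      have pair : ∀ i ∈ b :: ds, ∀ k ∈ b :: ds, Nat.beq (get w q i) k = false ∨
          Nat.beq (get w q (app w (A'.map Prod.fst) i)) (app w (A'.map Prod.fst) k) = true := by
        intro i hi k hk
        by_cases hik : get w q i = k
        · right
          rw [Nat.beq_eq]
          have h1 : Q ⟨i, hds' i hi⟩ = ⟨k, hds' k hk⟩ := Fin.ext ((hQ ⟨i, hds' i hi⟩).symm.trans hik)
          have e1 := congrArg (fun g : Equiv.Perm (Fin n) => g ⟨i, hds' i hi⟩) (hQc _ hx)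
          simp only [Equiv.Perm.mul_apply] at e1
          rw [h1, hfix' h' hh' ⟨k, hds' k hk⟩ hk, hfix' h' hh' ⟨i, hds' i hi⟩ hi] at e1
          rw [show app w (A'.map Prod.fst) i = _ from app_prod A' hA' ⟨i, hds' i hi⟩, hQ _, ← e1,
            show app w (A'.map Prod.fst) k = _ from app_prod A' hA' ⟨k, hds' k hk⟩]
        · left
          rw [← Bool.not_eq_true, Nat.beq_eq]
          exact hik
      exact ⟨pair b List.mem_cons_self j hj, pair j hj b List.mem_cons_self⟩
    · exact ih hg.1 hall.2.2 (fun l hl => hb l (List.mem_cons_of_mem _ hl)) A' (b :: ds) hA' hds'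
        (hfst ▸ hrec) hfix' h' hh' hx

theorem centAll_mem (hc : checkCert w n d.gens d.derived d.levels = true)
    (hb : ∀ l ∈ d.levels, l.1 < n) {c : ℕ} {C : Equiv.Perm (Fin n)} (hC : Fwd w (c, C)) {cs cl : List ℕ}
    (hcs : ∀ q ∈ cs, ∃ Q : Equiv.Perm (Fin n), Fwd w (q, Q) ∧ ∀ g, g * C = C * g → g * Q = Q * g)
    (h : centAll w n cs c cl d.levels [] [] = true) {g : Equiv.Perm (Fin n)} (hg : g ∈ genGroup w n d.gens)
    (hx : g * C = C * g) : ∃ e ∈ cl, Fwd w (e, g) := by
  obtain ⟨hgood, he⟩ := cert_good hc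
  have hps : g ∈ prodSet (interp w n d.levels) := by
    rw [← SetLike.mem_coe, ← he, closure_carrier] at hg
    rw [prodSet_eq _ hgood]
    exact hg
  have hall : AllRep w n d.levels := by
    have h := hc
    simp only [checkCert, Bool.and_eq_true, List.all_eq_true, Nat.ble_eq] at h
    obtain ⟨⟨⟨⟨⟨hn, hval⟩, hder⟩, htop⟩, hlev⟩, -⟩ := h
    have hpool := derived_spec hn d.derived d.gens
      (M := (⊤ : Submonoid (Equiv.Perm (Fin n))))
      (fun g hg => ⟨toPerm w n g, trivial, rep_toPerm (hval g hg)⟩) hder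
    exact (levels_spec hn d.levels hlev
      (fun s hs => let ⟨σ, _, h⟩ := hpool s (memCode_spec (htop s hs)); ⟨σ, h⟩)).1
  simpa using centAll_spec hC hcs d.levels hgood hall hb [] [] (by simp) (by simp) h (by simp) g hps
    (by simpa using hx)

/-- The group. -/
abbrev grp (w n : ℕ) (d : FrameData) : Subgroup (Equiv.Perm (Fin n)) := genGroup w n d.gens

/-- The element of prime order. -/
def gx (w n : ℕ) (d : FrameData) : grp w n d :=
  ⟨toPerm w n d.x, Subgroup.subset_closure (List.mem_map.2 ⟨_, by simp [FrameData.gens], rfl⟩)⟩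

/-- The second generator. -/
def gu (w n : ℕ) (d : FrameData) : grp w n d :=
  ⟨toPerm w n d.u, Subgroup.subset_closure (List.mem_map.2 ⟨_, by simp [FrameData.gens], rfl⟩)⟩

theorem wordOf_spec {xc uc : ℕ} {X U : grp w n d} (hx : Fwd w (xc, (X : Equiv.Perm (Fin n))))
    (hu : Fwd w (uc, (U : Equiv.Perm (Fin n)))) (l : List ℕ) (m : ℕ) :
    same w n (wordOf xc uc l m) [] = true ↔ ((l.map fun a => X ^ a * U).prod) ^ m = 1 := by
  let A : List (ℕ × Equiv.Perm (Fin n)) := (List.replicate m (l.flatMap fun a =>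
    List.replicate a (xc, (X : Equiv.Perm (Fin n))) ++ [(uc, (U : Equiv.Perm (Fin n)))])).flatten
  have hA : A.map Prod.fst = wordOf xc uc l m := by
    simp [A, wordOf, List.map_flatten, List.map_replicate, List.flatMap, Function.comp_def]
  have hin : ∀ l : List ℕ, ((l.flatMap fun a => List.replicate a (xc, (X : Equiv.Perm (Fin n))) ++
      [(uc, (U : Equiv.Perm (Fin n)))]).map Prod.snd).prod =
      (((l.map fun a => X ^ a * U).prod : grp w n d) : Equiv.Perm (Fin n)) := by
    intro l
    induction l with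
    | nil => simp
    | cons a l ih =>
      rw [List.flatMap_cons, List.map_append, List.prod_append, ih, List.map_cons, List.prod_cons]
      simp [List.map_replicate, Subgroup.coe_mul]
  have hA2 : (A.map Prod.snd).prod =
      ((((l.map fun a => X ^ a * U).prod) ^ m : grp w n d) : Equiv.Perm (Fin n)) := by
    rw [SubmonoidClass.coe_pow, ← hin l]
    simp only [A, List.map_flatten, List.map_replicate, List.prod_flatten, List.prod_replicate]
  have := same_iff (w := w) (A := A) (B := []) (fun e he => by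
    simp only [A, List.mem_flatten, List.mem_replicate, exists_and_right] at he
    obtain ⟨q, ⟨-, rfl⟩, hq⟩ := he
    simp only [List.mem_flatMap, List.mem_append, List.mem_replicate, List.mem_singleton] at hq
    obtain ⟨a, -, ⟨-, rfl⟩ | rfl⟩ := hq
    exacts [hx, hu]) (by simp)
  rw [hA, hA2] at this
  simp only [List.map_nil, List.prod_nil] at this
  exact this.trans OneMemClass.coe_eq_one

/-- The frame is preserved up to inner automorphisms, with the listed possibilities. -/
theorem aut_cases (hc : checkCert w n d.gens d.derived d.levels = true) (hf : frameOK w n d = true)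
    (hcx : centXOK w n d = true) (hcn : centNOK w n d = true) (two : Bool) (hk : casesOK w n d two = true)
    (hprime : d.p.Prime) (φ : MulAut (grp w n d)) :
    φ ∈ Inn (grp w n d) ∨ (two = true ∧ ∃ g : grp w n d,
      ((MulAut.conj g)⁻¹ * φ) (gx w n d) = gx w n d ^ d.sOut ∧
      Fwd w (d.uImg.1, ((((MulAut.conj g)⁻¹ * φ) (gu w n d) : grp w n d) : Equiv.Perm (Fin n)))) := by
  haveI : Fact d.p.Prime := ⟨hprime⟩
  simp only [frameOK, Bool.and_eq_true, List.all_eq_true, Bool.not_eq_true', Nat.beq_eq, Nat.blt_eq] at hf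
  obtain ⟨⟨⟨⟨⟨⟨⟨⟨⟨⟨⟨⟨⟨⟨⟨⟨hxv, huv⟩, hnv⟩, hns⟩, hcv⟩, hlb⟩, hlen⟩, hpw⟩, hxp⟩, hx1⟩, hnx⟩, hun⟩, hrr⟩,
    hshift⟩, hres⟩, hcard⟩, hm⟩ := hf
  set X := gx w n d with hXdef
  set U := gu w n d with hUdef
  have fx : Fwd w (d.x.1, (X : Equiv.Perm (Fin n))) := fwd_rep (rep_toPerm hxv)
  have fu : Fwd w (d.u.1, (U : Equiv.Perm (Fin n))) := fwd_rep (rep_toPerm huv)
  let N : grp w n d := ⟨toPerm w n d.nn, cert_mem hc hnv hns⟩
  have fn : Fwd w (d.nn.1, (N : Equiv.Perm (Fin n))) := fwd_rep (rep_toPerm hnv)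
  have hXp : X ^ d.p = 1 := by
    have := (same_iff (w := w) (A := List.replicate d.p (d.x.1, (X : Equiv.Perm (Fin n)))) (B := [])
      (fun e he => List.eq_of_mem_replicate he ▸ fx) (by simp)).1 (by simpa using hxp)
    simp only [List.map_replicate, List.prod_replicate, List.map_nil, List.prod_nil] at this
    exact Subtype.ext (by simpa using this)
  have hX1 : X ≠ 1 := by
    intro e
    have := (same_iff (w := w) (A := [(d.x.1, (X : Equiv.Perm (Fin n)))]) (B := []) (by simpa using fx)
      (by simp)).2 (by simp [e])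
    simp [hx1] at this
  have hN : N * X * N⁻¹ = X ^ d.r := by
    have := (same_iff (w := w) (A := [(d.nn.1, (N : Equiv.Perm (Fin n))), (d.x.1, (X : Equiv.Perm (Fin n)))])
      (B := List.replicate d.r (d.x.1, (X : Equiv.Perm (Fin n))) ++ [(d.nn.1, (N : Equiv.Perm (Fin n)))])
      (by simp [fn, fx]) (fun e he => by
        simp only [List.mem_append, List.mem_replicate, List.mem_singleton] at he
        rcases he with ⟨-, rfl⟩ | rfl
        exacts [fx, fn])).1 (by simpa using hnx)
    simp only [List.map_append, List.map_replicate, List.map_cons, List.map_nil, List.prod_append,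
      List.prod_replicate, List.prod_cons, List.prod_nil, mul_one] at this
    exact mul_inv_eq_iff_eq_mul.2 (Subtype.ext (by simpa using this))
  have hUN : U * N = N * U := by
    have := (same_iff (w := w) (A := [(d.u.1, (U : Equiv.Perm (Fin n))), (d.nn.1, (N : Equiv.Perm (Fin n)))])
      (B := [(d.nn.1, (N : Equiv.Perm (Fin n))), (d.u.1, (U : Equiv.Perm (Fin n)))])
      (by simp [fn, fu]) (by simp [fn, fu])).1 (by simpa using hun)
    exact Subtype.ext (by simpa using this)
  have hX : orderOf X = d.p := orderOf_eq_prime hXp hX1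
  have hit : ∀ i : ℕ, N ^ i * X * (N ^ i)⁻¹ = X ^ (d.r ^ i) := by
    intro i
    induction i with
    | zero => simp
    | succ i ih =>
      rw [show N ^ (i + 1) * X * (N ^ (i + 1))⁻¹ = N * (N ^ i * X * (N ^ i)⁻¹) * N⁻¹ by
        rw [pow_succ']; group, ih, ← conj_pow, hN, ← pow_mul, pow_succ']
  -- the image of `x`
  have ho : orderOf (φ X) = d.p := by rw [MulEquiv.orderOf_eq, hX]
  have hu : IsPGroup d.p (Subgroup.zpowers (φ X)) :=
    IsPGroup.of_card (n := 1) (by rw [Nat.card_zpowers, ho, pow_one])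
  obtain ⟨P, hP⟩ := hu.exists_le_sylow
  let Q : Sylow d.p (grp w n d) := Sylow.ofCard (Subgroup.zpowers X) (by
    have hm0 : d.m ≠ 0 := by rintro e; rw [e] at hm; simp at hm
    rw [Nat.card_zpowers, hX, (cert_card hc).trans hcard, Nat.factorization_mul hprime.ne_zero hm0,
      Finsupp.add_apply, hprime.factorization_self,
      Nat.factorization_eq_zero_of_not_dvd (fun hd => by rw [Nat.mod_eq_zero_of_dvd hd] at hm; simp at hm),
      add_zero, pow_one])
  obtain ⟨g, hg⟩ := MulAction.exists_smul_eq (grp w n d) Q P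
  have hu' : φ X ∈ (P : Subgroup (grp w n d)) := hP (Subgroup.mem_zpowers _)
  rw [← hg, Sylow.coe_subgroup_smul, Subgroup.mem_pointwise_smul_iff_inv_smul_mem] at hu'
  simp only [← map_inv, MulAut.smul_def, MulAut.conj_apply, inv_inv] at hu'
  have hmm : g⁻¹ * φ X * g ∈ Subgroup.zpowers X := hu'
  rw [← mem_powers_iff_mem_zpowers, Submonoid.mem_powers_iff] at hmm
  obtain ⟨j, hj⟩ := hmm
  have e : φ X = g * X ^ j * g⁻¹ := by rw [hj]; group
  have hj0 : j % d.p ≠ 0 := by
    intro h
    rw [pow_eq_pow_mod j hXp, h, pow_zero, mul_one, mul_inv_cancel] at e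
    rw [e, orderOf_one] at ho
    exact hprime.ne_one ho.symm
  have hres' := allBelow_spec _ _ hres _ (Nat.mod_lt j hprime.pos)
  simp only [Bool.or_eq_true, Nat.beq_eq, List.any_eq_true] at hres'
  obtain ⟨i0, -, s, hs, hi0⟩ := hres'.resolve_left hj0
  have hXj : X ^ j = N ^ i0 * X ^ s * (N ^ i0)⁻¹ := by
    rw [← conj_pow, hit, ← pow_mul, pow_eq_pow_mod j hXp, pow_eq_pow_mod (d.r ^ i0 * s) hXp, hi0]
  set g₁ := g * N ^ i0 with hg₁
  set φ₁ := (MulAut.conj g₁)⁻¹ * φ with hφ₁
  have h1 : φ₁ X = X ^ s := by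
    show (MulAut.conj g₁)⁻¹ (φ X) = X ^ s
    rw [e, hXj, hg₁, ← map_inv, MulAut.conj_apply]
    group
  -- the image of `nn`
  have hs0 : s % d.p ≠ 0 := by
    intro h
    apply hj0
    rw [← hi0, Nat.mul_mod, h, mul_zero, Nat.zero_mod]
  have hZ : φ₁ N * X ^ s * (φ₁ N)⁻¹ = X ^ (d.r * s) := by
    rw [← h1, ← map_inv, ← map_mul, ← map_mul, hN, map_pow, h1, ← pow_mul, mul_comm]
  have hNs : N * X ^ s * N⁻¹ = X ^ (d.r * s) := by rw [← conj_pow, hN, ← pow_mul]
  have hcomm : N⁻¹ * φ₁ N * X = X * (N⁻¹ * φ₁ N) := by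
    obtain ⟨t, ht⟩ : ∃ t : ℕ, (X ^ s) ^ t = X := by
      have hcop : Nat.Coprime s (orderOf X) := by
        rw [hX]
        exact ((hprime.coprime_iff_not_dvd).2 fun hd => hs0 (Nat.mod_eq_zero_of_dvd hd)).symm
      obtain ⟨t, ht⟩ := exists_pow_eq_self_of_coprime hcop
      exact ⟨t, ht⟩
    have h2 : Commute (N⁻¹ * φ₁ N) (X ^ s) := by
      show N⁻¹ * φ₁ N * X ^ s = X ^ s * (N⁻¹ * φ₁ N)
      calc N⁻¹ * φ₁ N * X ^ s = N⁻¹ * (φ₁ N * X ^ s * (φ₁ N)⁻¹) * φ₁ N := by group
        _ = N⁻¹ * (N * X ^ s * N⁻¹) * φ₁ N := by rw [hZ, hNs]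
        _ = _ := by group
    have h3 := h2.pow_right t
    rwa [ht] at h3
  have hpow : ∀ i < d.p, Fwd w ((d.xPows.getD i (0, 0)).1, ((X ^ i : grp w n d) : Equiv.Perm (Fin n))) := by
    intro i hi j
    have h4 := allBelow_spec _ _ (allBelow_spec _ _ hpw i hi) j j.2
    rw [Nat.beq_eq] at h4
    have h5 := app_prod (List.replicate i (d.x.1, (X : Equiv.Perm (Fin n))))
      (fun e he => List.eq_of_mem_replicate he ▸ fx) j
    simp only [List.map_replicate, List.prod_replicate] at h5
    rw [h5] at h4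
    rw [SubmonoidClass.coe_pow, ← h4]
    rfl
  have hcsX : ∀ q ∈ d.xPows.map Prod.fst, ∃ Q : Equiv.Perm (Fin n), Fwd w (q, Q) ∧
      ∀ g, g * (X : Equiv.Perm (Fin n)) = X * g → g * Q = Q * g := by
    intro q hq
    obtain ⟨q', hq', rfl⟩ := List.mem_map.1 hq
    obtain ⟨i, hi, rfl⟩ := List.mem_iff_getElem.1 hq'
    have := hpow i (hlen ▸ hi)
    rw [List.getD_eq_getElem _ _ hi] at this
    exact ⟨_, this, fun g hg => by rw [SubmonoidClass.coe_pow]; exact (Commute.pow_right hg i)⟩
  obtain ⟨e0, he0, hf0⟩ := centAll_mem hc hlb fx (fun q hq => hcsX q (List.mem_of_mem_tail hq)) hcx (N⁻¹ * φ₁ N).2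
    (by exact_mod_cast congrArg Subtype.val hcomm)
  obtain ⟨q, hq, rfl⟩ := List.mem_map.1 he0
  obtain ⟨b, hb, rfl⟩ := List.mem_iff_getElem.1 hq
  rw [hlen] at hb
  have hb' : N⁻¹ * φ₁ N = X ^ b := by
    refine Subtype.ext (Equiv.ext fun i => Fin.ext ?_)
    have h4 := allBelow_spec _ _ (allBelow_spec _ _ hpw b hb) i i.2
    rw [Nat.beq_eq, List.getD_eq_getElem _ _ (by rwa [hlen])] at h4
    have h5 := app_prod (List.replicate b (d.x.1, (X : Equiv.Perm (Fin n))))
      (fun e he => List.eq_of_mem_replicate he ▸ fx) i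
    simp only [List.map_replicate, List.prod_replicate] at h5
    rw [h5] at h4
    rw [← hf0 i, SubmonoidClass.coe_pow, ← h4]
    rfl
  have hsh := allBelow_spec _ _ hshift b hb
  simp only [List.any_eq_true, Nat.beq_eq] at hsh
  obtain ⟨a, -, ha⟩ := hsh
  have hXa : N⁻¹ * X ^ a * N = X ^ (a * d.rinv) := by
    have h6 : N * X ^ (a * d.rinv) * N⁻¹ = X ^ a := by
      rw [← conj_pow, hN, ← pow_mul, pow_eq_pow_mod _ hXp, pow_eq_pow_mod a hXp, mul_comm a, ← mul_assoc,
        Nat.mul_mod, hrr, one_mul, Nat.mod_mod]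
    rw [← h6]; group
  have hN1 : φ₁ N = X ^ a * N * (X ^ a)⁻¹ := by
    have h7 : φ₁ N = N * X ^ b := by rw [← hb']; group
    rw [h7, show X ^ a * N * (X ^ a)⁻¹ = N * ((N⁻¹ * X ^ a * N) * (X ^ a)⁻¹) by group, hXa]
    congr 1
    rw [eq_mul_inv_iff_mul_eq, ← pow_add, pow_eq_pow_mod (b + a) hXp, ← ha, ← pow_eq_pow_mod _ hXp]
  set φ₂ := (MulAut.conj (g₁ * X ^ a))⁻¹ * φ with hφ₂
  have hφ₂' : ∀ y, φ₂ y = (X ^ a)⁻¹ * φ₁ y * X ^ a := fun y => by
    show (MulAut.conj (g₁ * X ^ a))⁻¹ (φ y) = _
    rw [map_mul, mul_inv_rev, MulAut.mul_apply, show (MulAut.conj g₁)⁻¹ (φ y) = φ₁ y from rfl,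
      ← map_inv, MulAut.conj_apply, inv_inv]
  have h2x : φ₂ X = X ^ s := by
    rw [hφ₂', h1, mul_assoc, ← pow_add, add_comm, pow_add, inv_mul_cancel_left]
  have h2n : φ₂ N = N := by rw [hφ₂', hN1]; group
  -- the image of `u`
  have hVN : φ₂ U * N = N * φ₂ U := by rw [← h2n, ← map_mul, ← map_mul, hUN]
  obtain ⟨e1, he1, hf1⟩ := centAll_mem hc hlb fn (by simpa using ⟨_, fn, fun g hg => hg⟩) hcn (φ₂ U).2 (by exact_mod_cast congrArg Subtype.val hVN)
  obtain ⟨q, hq, rfl⟩ := List.mem_map.1 he1
  obtain ⟨k, hkn, rfl⟩ := List.mem_iff_getElem.1 hq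
  obtain ⟨si, hsi, rfl⟩ := List.mem_iff_getElem.1 hs
  have hck := allBelow_spec _ _ (allBelow_spec _ _ hk si hsi) k hkn
  simp only [List.getD_eq_getElem _ _ hsi, List.getD_eq_getElem _ _ hkn] at hck
  have eqU : ∀ {z : Elt} {Z : Equiv.Perm (Fin n)}, Fwd w (z.1, Z) →
      same w n [(d.cent[k]).1] [z.1] = true → ((φ₂ U : grp w n d) : Equiv.Perm (Fin n)) = Z := by
    intro z Z hz hsm
    have := (same_iff (w := w) (A := [((d.cent[k]).1, ((φ₂ U : grp w n d) : Equiv.Perm (Fin n)))])
      (B := [(z.1, Z)]) (by simpa using hf1) (by simpa using hz)).1 (by simpa using hsm)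
    simpa using this
  set v := (d.verdicts.getD si []).getD k (2, [], 0)
  by_cases hv0 : v.1 = 0
  · rw [if_pos hv0] at hck
    simp only [Bool.and_eq_true, Nat.beq_eq] at hck
    refine Or.inl ⟨g₁ * X ^ a, ?_⟩
    have h1' : φ₂ X = X := by rw [h2x, hck.1, pow_one]
    have h2' : φ₂ U = U := Subtype.ext (eqU fu hck.2)
    have hext : φ₂.toMonoidHom = MonoidHom.id _ := by
      refine MonoidHom.eq_of_eqOn_dense (s := {X, U}) ?_ ?_
      · rw [eq_top_iff]
        intro y _
        have hle : grp w n d ≤ (Subgroup.closure {X, U}).map (grp w n d).subtype := by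
          refine (Subgroup.closure_le _).2 fun σ hσ => ?_
          simp only [FrameData.gens, List.map_cons, List.map_nil, Set.mem_ofPred_eq, List.mem_cons,
            List.not_mem_nil, or_false] at hσ
          rcases hσ with rfl | rfl
          exacts [⟨X, Subgroup.subset_closure (by simp), rfl⟩, ⟨U, Subgroup.subset_closure (by simp), rfl⟩]
        obtain ⟨c, hc', he⟩ := hle y.2
        exact Subtype.ext he ▸ hc'
      · rintro y (rfl | rfl)
        exacts [h1', h2']
    have : φ₂ = 1 := MulEquiv.ext fun y => DFunLike.congr_fun hext y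
    rw [hφ₂, inv_mul_eq_one] at this
    exact this
  rw [if_neg hv0] at hck
  by_cases hv1 : v.1 = 1
  · rw [if_pos hv1] at hck
    simp only [Bool.and_eq_true, Nat.beq_eq] at hck
    refine Or.inr ⟨hck.1.1, g₁ * X ^ a, ?_, fun i => ?_⟩
    · show φ₂ X = _
      rw [h2x, hck.1.2]
    · show _ = ((((φ₂ U : grp w n d) : Equiv.Perm (Fin n)) i : Fin n) : ℕ)
      have h8 := allBelow_spec _ _ hck.2 i i.2
      rw [Nat.beq_eq] at h8
      exact h8.symm.trans (hf1 i)
  rw [if_neg hv1] at hck
  exfalso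
  have hw1 := wordOf_spec (d := d) fx fu v.2.1 v.2.2
  have hw2 := wordOf_spec (d := d) fx hf1 (v.2.1.map fun a => d.svals[si] * a % d.p) v.2.2
  have hmap : φ₂ (((v.2.1.map fun a => X ^ a * U).prod) ^ v.2.2) =
      (((v.2.1.map fun a => d.svals[si] * a % d.p).map fun a => X ^ a * φ₂ U).prod) ^ v.2.2 := by
    rw [map_pow, map_list_prod, List.map_map, List.map_map]
    congr 2
    refine List.map_congr_left fun a _ => ?_
    simp only [Function.comp_apply, map_mul, map_pow, h2x, ← pow_mul, ← pow_eq_pow_mod _ hXp]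
  have h := Bool.eq_iff_iff.2 (hw1.trans
    (((MulEquiv.map_eq_one_iff φ₂).symm.trans (by rw [hmap])).trans hw2.symm))
  rw [h] at hck
  simp at hck

end Proof

end Cfsg.Agent.CentAut
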