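import Cfsg.Agent.Lib.Compute.CentAut
import Cfsg.Agent.Lib.Compute.LightCert

/-!
The order of the outer automorphism group from the centraliser checks.
-/

set_option autoImplicit false
set_option maxHeartbeats 1000000

namespace Cfsg.Agent.CentAut

open Cfsg Cfsg.Agent.PermCert Cfsg.Agent.PermAut

variable {w n : ℕ} [NeZero n] {d : FrameData}

/-- The light chain on the new generators gives the full check inside a group of the same order. -/
theorem cert_of_model {gens : List Elt} {derived : List (Elt × List ℕ)} {levels : List CLevel}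
    (hc : checkCert w n gens derived levels = true)
    (hl : lightCert w n d.gens d.derived d.levels = true)
    (hs : (d.gens.all fun g => validElt w n g && sift w n levels g.1) = true)
    (ho : certOrder levels = certOrder d.levels) :
    checkCert w n d.gens d.derived d.levels = true ∧ grp w n d = genGroup w n gens := by
  have hle : grp w n d ≤ genGroup w n gens := by
    refine (Subgroup.closure_le _).2 fun σ hσ => ?_
    obtain ⟨g, hg, rfl⟩ := List.mem_map.1 hσ
    simp only [List.all_eq_true, Bool.and_eq_true] at hs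
    exact cert_mem hc (hs g hg).1 (hs g hg).2
  have hcard : Nat.card (grp w n d) ≤ certOrder d.levels := by
    rw [← ho, ← cert_card hc]
    exact Nat.card_le_card_of_injective _ (Subgroup.inclusion_injective hle)
  have hcert := checkCert_of_light hl hcard
  refine ⟨hcert, Subgroup.eq_of_le_of_card_ge hle ?_⟩
  rw [cert_card hc, cert_card hcert, ho]

variable (hc : checkCert w n d.gens d.derived d.levels = true) (hf : frameOK w n d = true)
  (hcx : centXOK w n d = true) (hcn : centNOK w n d = true) (hprime : d.p.Prime)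

include hc hf hcx hcn hprime

/-- No outer automorphisms. -/
theorem card_out_one (hk : casesOK w n d false = true) : Nat.card (Out (grp w n d)) = 1 := by
  have h : Inn (grp w n d) = ⊤ := eq_top_iff.2 fun φ _ =>
    (aut_cases hc hf hcx hcn false hk hprime φ).resolve_right fun h => Bool.noConfusion h.1
  show Nat.card (MulAut (grp w n d) ⧸ Inn (grp w n d)) = 1
  rw [← Subgroup.index_eq_card, h, Subgroup.index_top]

/-- Exactly one class of outer automorphisms. -/
theorem card_out_two (hk : casesOK w n d true = true) (hs : outerOK w n d = true) :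
    Nat.card (Out (grp w n d)) = 2 := by
  have hf' := hf
  simp only [frameOK, Bool.and_eq_true, List.all_eq_true, Bool.not_eq_true', Nat.beq_eq, Nat.blt_eq] at hf'
  obtain ⟨⟨⟨⟨⟨⟨⟨⟨⟨⟨⟨⟨⟨⟨⟨⟨hxv, huv⟩, hnv⟩, hns⟩, hcv⟩, hlb⟩, -⟩, -⟩, -⟩, -⟩, -⟩, hun⟩, -⟩, -⟩, -⟩, -⟩, -⟩ :=
    hf'
  simp only [outerOK, Bool.and_eq_true, List.all_eq_true] at hs
  obtain ⟨⟨⟨⟨⟨⟨⟨hsv, hRv⟩, hRs⟩, hss⟩, hsx⟩, hsu⟩, hsn⟩, hno⟩ := hs
  have rs := rep_toPerm hsv
  have rR := rep_toPerm hRv
  have rx := rep_toPerm hxv
  have ru := rep_toPerm huv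
  have rn := rep_toPerm hnv
  set S := toPerm w n d.sigma
  set R := toPerm w n d.uImg
  set X : Equiv.Perm (Fin n) := ↑(gx w n d) with hXdef
  set U : Equiv.Perm (Fin n) := ↑(gu w n d) with hUdef
  set N : Equiv.Perm (Fin n) := toPerm w n d.nn
  have fX : Fwd w (d.x.1, X) := fwd_rep rx
  have fU : Fwd w (d.u.1, U) := fwd_rep ru
  have fN : Fwd w (d.nn.1, N) := fwd_rep rn
  have hRmem : R ∈ grp w n d := cert_mem hc hRv hRs
  have hNmem : N ∈ grp w n d := cert_mem hc hnv hns
  have hSS : S * S = 1 := by
    have := (same_iff (w := w) (A := [(d.sigma.1, S), (d.sigma.1, S)]) (B := [])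
      (by simp [fwd_rep rs]) (by simp)).1 (by simpa using hss)
    simpa using this
  have hSX : S * X = X ^ d.sOut * S := by
    have := (same_iff (w := w) (A := [(d.sigma.1, S), (d.x.1, X)])
      (B := List.replicate d.sOut (d.x.1, X) ++ [(d.sigma.1, S)])
      (by simp [fwd_rep rs, fX]) (fun e he => by
        simp only [List.mem_append, List.mem_replicate, List.mem_singleton] at he
        rcases he with ⟨-, rfl⟩ | rfl
        exacts [fX, fwd_rep rs])).1 (by simpa using hsx)
    simpa using this
  have hSU : S * U = R * S := by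
    have := (same_iff (w := w) (A := [(d.sigma.1, S), (d.u.1, U)]) (B := [(d.uImg.1, R), (d.sigma.1, S)])
      (by simp [fwd_rep rs, fU]) (by simp [fwd_rep rs, fwd_rep rR])).1 (by simpa using hsu)
    simpa using this
  have hSN : S * N = N * S := by
    have := (same_iff (w := w) (A := [(d.sigma.1, S), (d.nn.1, N)]) (B := [(d.nn.1, N), (d.sigma.1, S)])
      (by simp [fwd_rep rs, fN]) (by simp [fwd_rep rs, fN])).1 (by simpa using hsn)
    simpa using this
  have hSi : S⁻¹ = S := inv_eq_of_mul_eq_one_right hSS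
  have hgens : ∀ {K : Subgroup (Equiv.Perm (Fin n))}, X ∈ K → U ∈ K → grp w n d ≤ K := by
    intro K hx ht
    refine (Subgroup.closure_le _).2 fun σ hσ => ?_
    simp only [FrameData.gens, List.map_cons, List.map_nil, Set.mem_ofPred_eq, List.mem_cons,
      List.not_mem_nil, or_false] at hσ
    rcases hσ with rfl | rfl
    exacts [hx, ht]
  have hconj : ∀ a ∈ grp w n d, S * a * S ∈ grp w n d := by
    intro a ha
    have h : grp w n d ≤ (grp w n d).comap (MulAut.conj S).toMonoidHom := by
      refine hgens ?_ ?_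
      · show S * X * S⁻¹ ∈ grp w n d
        rw [hSX, mul_inv_cancel_right]
        exact pow_mem (gx w n d).2 _
      · show S * U * S⁻¹ ∈ grp w n d
        rw [hSU, mul_inv_cancel_right]
        exact hRmem
    have := h ha
    rwa [Subgroup.mem_comap, show (MulAut.conj S).toMonoidHom a = S * a * S⁻¹ from rfl, hSi] at this
  have hinv : ∀ a : Equiv.Perm (Fin n), S * (S * a * S) * S = a := fun a => by
    calc S * (S * a * S) * S = (S * S) * a * (S * S) := by group
      _ = a := by rw [hSS, one_mul, mul_one]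
  let σA : MulAut (grp w n d) :=
    { toFun := fun a => ⟨S * a * S, hconj a a.2⟩
      invFun := fun a => ⟨S * a * S, hconj a a.2⟩
      left_inv := fun a => Subtype.ext (hinv a)
      right_inv := fun a => Subtype.ext (hinv a)
      map_mul' := fun a b => Subtype.ext (by
        show S * ((a : Equiv.Perm (Fin n)) * b) * S = S * a * S * (S * b * S)
        calc S * ((a : Equiv.Perm (Fin n)) * b) * S = S * a * (S * S) * b * S := by
              rw [hSS, mul_one, mul_assoc S (a : Equiv.Perm (Fin n))]
          _ = S * a * S * (S * b * S) := by group) }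
  have hσx : σA (gx w n d) = gx w n d ^ d.sOut := Subtype.ext (by
    show S * X * S = _
    rw [hSX, mul_assoc, hSS, mul_one, SubmonoidClass.coe_pow])
  have hσu : ((σA (gu w n d) : grp w n d) : Equiv.Perm (Fin n)) = R := by
    show S * U * S = R
    rw [hSU, mul_assoc, hSS, mul_one]
  have hσ2 : σA * σA = 1 := MulEquiv.ext fun a => Subtype.ext (hinv a)
  have hout : σA ∉ Inn (grp w n d) := by
    rintro ⟨g, hg⟩
    have e1 : (g : Equiv.Perm (Fin n)) * X * (g : Equiv.Perm (Fin n))⁻¹ = X ^ d.sOut := by
      rw [hXdef, ← SubmonoidClass.coe_pow]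
      exact congrArg Subtype.val ((DFunLike.congr_fun hg (gx w n d)).trans hσx)
    have e2 : (g : Equiv.Perm (Fin n)) * U * (g : Equiv.Perm (Fin n))⁻¹ = R :=
      (congrArg Subtype.val (DFunLike.congr_fun hg (gu w n d))).trans hσu
    have e3 : (g : Equiv.Perm (Fin n)) * N * (g : Equiv.Perm (Fin n))⁻¹ = N := by
      refine (congrArg Subtype.val (DFunLike.congr_fun hg ⟨N, hNmem⟩)).trans ?_
      show S * N * S = N
      rw [hSN, mul_assoc, hSS, mul_one]
    obtain ⟨e, he, hfe⟩ := centAll_mem hc hlb fN (by simpa using ⟨_, fN, fun g hg => hg⟩) hcn g.2 (mul_inv_eq_iff_eq_mul.1 e3)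
    obtain ⟨c, hcm, rfl⟩ := List.mem_map.1 he
    refine absurd ?_ (Bool.eq_false_iff.1 (Bool.not_eq_true' _ ▸ hno c hcm))
    rw [Bool.and_eq_true]
    constructor
    · have := (same_iff (w := w) (A := [(c.1, (g : Equiv.Perm (Fin n))), (d.x.1, X)])
        (B := List.replicate d.sOut (d.x.1, X) ++ [(c.1, (g : Equiv.Perm (Fin n)))])
        (by simp [hfe, fX]) (fun e he => by
          simp only [List.mem_append, List.mem_replicate, List.mem_singleton] at he
          rcases he with ⟨-, rfl⟩ | rfl
          exacts [fX, hfe])).2 (by simpa using mul_inv_eq_iff_eq_mul.1 e1)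
      simpa using this
    · have := (same_iff (w := w) (A := [(c.1, (g : Equiv.Perm (Fin n))), (d.u.1, U)])
        (B := [(d.uImg.1, R), (c.1, (g : Equiv.Perm (Fin n)))])
        (by simp [hfe, fU]) (by simp [hfe, fwd_rep rR])).2 (by simpa using mul_inv_eq_iff_eq_mul.1 e2)
      simpa using this
  have aut_ext : ∀ {φ ψ : MulAut (grp w n d)}, φ (gx w n d) = ψ (gx w n d) →
      φ (gu w n d) = ψ (gu w n d) → φ = ψ := by
    intro φ ψ hx ht
    refine MulEquiv.ext fun a => ?_
    obtain ⟨b, hb', he⟩ := hgens (K := (φ.toMonoidHom.eqLocus ψ.toMonoidHom).map (grp w n d).subtype)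
      ⟨gx w n d, hx, rfl⟩ ⟨gu w n d, ht, rfl⟩ a.2
    exact Subtype.ext he ▸ hb'
  show Nat.card (MulAut (grp w n d) ⧸ Inn (grp w n d)) = 2
  rw [← Subgroup.index_eq_card, Subgroup.index_eq_two_iff]
  refine ⟨σA, fun b => ?_⟩
  rcases aut_cases hc hf hcx hcn true hk hprime b with hb' | ⟨-, g, hgx, hgu⟩
  · exact Or.inr ⟨hb', fun h => hout (by
      simpa using (Inn (grp w n d)).mul_mem ((Inn (grp w n d)).inv_mem hb') h)⟩
  · have hbeq : (MulAut.conj g)⁻¹ * b = σA := aut_ext (hgx.trans hσx.symm) (Subtype.ext (by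
      rw [hσu]
      exact Equiv.ext fun i => Fin.ext ((hgu i).symm.trans (rR i).1)))
    have hbe : b = MulAut.conj g * σA := by rw [← hbeq, mul_inv_cancel_left]
    have hg : MulAut.conj g ∈ Inn (grp w n d) := ⟨g, rfl⟩
    subst hbe
    refine Or.inl ⟨by rw [mul_assoc, hσ2, mul_one]; exact hg, fun h => hout ?_⟩
    simpa using (Inn (grp w n d)).mul_mem ((Inn (grp w n d)).inv_mem hg) h

end Cfsg.Agent.CentAut
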