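import Cfsg.Agent.Lib.Compute.CosetCert

/-!
The upper bound given by a coset certificate, without any permutation representation: the index is at most
the number of cosets and a word fixing the base coset in the table lies in the subgroup.
-/

set_option autoImplicit false

namespace Cfsg.Agent.CosetCert

theorem index_bound {P : Params} {G : Type*} [Group G] {gen : ℕ → G} (hinv : ∀ x, gen x * gen x = 1)
    (hgen : Subgroup.closure (gen '' {x | x < P.k}) = ⊤) {base : List (List ℕ)}
    (hbase : ∀ w ∈ base, wprod gen w = 1) {hints : List (ℕ × ℕ × Bool)}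
    (hrots : rotsOK base P.rots.entries hints = true) {H : Subgroup G}
    (hsubs : ∀ w ∈ P.subs, wprod gen w ∈ H)
    {n : ℕ} {tree : List ℕ} {phases : List Phase} (hcert : checkCert P n tree phases = true)
    (htab : tableOK P n = true) (hn : 0 < n) :
    Finite (G ⧸ H) ∧ H.index ≤ n ∧
      ∀ w : List ℕ, (w.all fun x => Nat.blt x P.k) = true → tact P w 0 = 0 → wprod gen w ∈ H := by
  set q₀ : G ⧸ H := ((1 : G) : G ⧸ H) with hq₀
  have hstab : ∀ h ∈ H, h • q₀ = q₀ := fun h hh => by
    show ((h * 1 : G) : G ⧸ H) = ((1 : G) : G ⧸ H)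
    rw [QuotientGroup.eq]; simpa using hh
  have hs : ∀ x (q : G ⧸ H), gen x • gen x • q = q := fun x q => by rw [smul_smul, hinv, one_smul]
  obtain ⟨q, hq0, hq⟩ := checkCert_sound (P := P) (s := fun x q => gen x • q) (q₀ := q₀)
    (fun w hw q => by
      rw [act_eq_wprod, wprod_reverse hinv, rotsOK_spec hinv hbase _ _ hrots w hw, inv_one, one_smul])
    (fun w hw => by
      rw [act_eq_wprod, wprod_reverse hinv]
      exact hstab _ (inv_mem (hsubs w hw)))
    hs hcert
  have hk : 0 < P.k := (tableOK_pos P htab).1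
  have hget : ∀ i < n * P.k, P.T.get i < n := by
    intro i hi
    have := tableOK_spec P htab hi
    simp only [Bool.and_eq_true, Nat.blt_eq] at this
    exact this.1
  have hidx : ∀ c < n, ∀ x < P.k, c * P.k + x < n * P.k := by
    intro c hc x hx
    have : (c + 1) * P.k ≤ n * P.k := Nat.mul_le_mul_right _ hc
    rw [Nat.add_mul, Nat.one_mul] at this
    omega
  have hstep : ∀ c < n, ∀ x < P.k, gen x • q c = q (P.T.get (c * P.k + x)) := by
    intro c hc x hx
    have := hq _ (hidx c hc x hx)
    rwa [Nat.mul_comm c, Nat.mul_add_mod, Nat.mod_eq_of_lt hx, Nat.mul_add_div hk, Nat.div_eq_of_lt hx,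
      Nat.add_zero, Nat.mul_comm] at this
  have hword : ∀ (w : List ℕ), (w.all fun x => Nat.blt x P.k) = true → ∀ c < n,
      tact P w c < n ∧ wprod gen w.reverse • q c = q (tact P w c) := by
    intro w
    induction w with
    | nil => intro _ c hc; simp [tact_nil, wprod, hc]
    | cons x w ih =>
      intro hw c hc
      rw [List.all_cons, Bool.and_eq_true, Nat.blt_eq] at hw
      obtain ⟨h1, h2⟩ := ih hw.2 _ (hget _ (hidx c hc x hw.1))
      refine ⟨by rw [tact_cons]; exact h1, ?_⟩
      rw [tact_cons, ← h2, ← hstep c hc x hw.1, smul_smul]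
      congr 1
      simp [wprod]
  have hsurj : Function.Surjective fun c : Fin n => q c := by
    set qq := fun c : Fin n => q c
    have hin : ∀ x < P.k, ∀ t, t ∈ Set.range qq → gen x • t ∈ Set.range qq := by
      rintro x hx _ ⟨c, rfl⟩
      exact ⟨⟨_, hget _ (hidx c c.2 x hx)⟩, (hstep c c.2 x hx).symm⟩
    have hall : ∀ g : G, (∀ t, t ∈ Set.range qq → g • t ∈ Set.range qq) ∧
        (∀ t, t ∈ Set.range qq → g⁻¹ • t ∈ Set.range qq) := by
      intro g
      have hg : g ∈ Subgroup.closure (gen '' {x | x < P.k}) := hgen ▸ Subgroup.mem_top g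
      induction hg using Subgroup.closure_induction with
      | mem y hy =>
        obtain ⟨x, hx, rfl⟩ := hy
        rw [inv_eq_of_mul_eq_one_right (hinv x)]
        exact ⟨hin x hx, hin x hx⟩
      | one => simp
      | mul a b _ _ ha hb =>
        exact ⟨fun t ht => by rw [mul_smul]; exact ha.1 _ (hb.1 t ht),
          fun t ht => by rw [mul_inv_rev, mul_smul]; exact hb.2 _ (ha.2 t ht)⟩
      | inv a _ ha => exact ⟨ha.2, by rw [inv_inv]; exact ha.1⟩
    intro t
    refine QuotientGroup.induction_on t fun g => ?_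
    obtain ⟨c, hc⟩ := (hall g).1 q₀ ⟨⟨0, hn⟩, hq0⟩
    refine ⟨c, hc.trans ?_⟩
    show ((g * 1 : G) : G ⧸ H) = (g : G ⧸ H)
    rw [mul_one]
  haveI hf : Finite (G ⧸ H) := Finite.of_surjective _ hsurj
  refine ⟨hf, ?_, fun w hw h0 => ?_⟩
  · rw [Subgroup.index]
    exact (Nat.card_le_card_of_surjective _ hsurj).trans (le_of_eq (Nat.card_fin n))
  · obtain ⟨-, h2⟩ := hword w hw 0 hn
    rw [h0, hq0] at h2
    have h3 : (wprod gen w.reverse * 1 : G) ∈ H := by
      have := QuotientGroup.eq.1 (show ((1 : G) : G ⧸ H) = ((wprod gen w.reverse * 1 : G) : G ⧸ H) from h2.symm)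
      simpa using this
    rw [mul_one, wprod_reverse hinv] at h3
    simpa using inv_mem h3

end Cfsg.Agent.CosetCert
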