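import Cfsg.Agent.Lib.Compute.CosetCert

/-!
Upper bounds on orders from coset enumeration certificates inside an arbitrary group.

If involutions `gen 0, …, gen (k-1)` satisfy the relators of a certified table with `n` points and the
subgroup words generate a finite subgroup `H`, then `gen 0, …, gen (k-1)` generate at most `n * |H|`
elements.
-/

set_option autoImplicit false

namespace Cfsg.Agent.CosetCert

noncomputable section

variable {G : Type*} [Group G]

/-- A finite subgroup of at most `m` elements. -/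
def CardLe (K : Subgroup G) (m : ℕ) : Prop := Finite K ∧ Nat.card K ≤ m

theorem cardLe_bot : CardLe (⊥ : Subgroup G) 1 := ⟨inferInstance, by simp⟩

theorem CardLe.mono {K L : Subgroup G} {m : ℕ} (h : CardLe L m) (hKL : K ≤ L) : CardLe K m := by
  have := h.1
  exact ⟨Finite.of_injective _ (Subgroup.inclusion_injective hKL),
    (Nat.card_le_card_of_injective _ (Subgroup.inclusion_injective hKL)).trans h.2⟩

theorem CardLe.of_top {m : ℕ} (h : CardLe (⊤ : Subgroup G) m) : Finite G ∧ Nat.card G ≤ m := by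
  have := h.1
  exact ⟨Finite.of_equiv _ Subgroup.topEquiv.toEquiv,
    Nat.card_congr (Subgroup.topEquiv (G := G)).toEquiv ▸ h.2⟩

variable {P : Params}

/-- The cosets of `H` met by the generated subgroup are labelled by the table. -/
theorem cardLe_of_cert {gen : ℕ → G} (hinv : ∀ x, gen x * gen x = 1) {base : List (List ℕ)}
    (hbase : ∀ w ∈ base, wprod gen w = 1) {hints : List (ℕ × ℕ × Bool)}
    (hrots : rotsOK base P.rots.entries hints = true) {H : Subgroup G} {sw : List (List ℕ)}
    (hH : ∀ w ∈ sw, wprod gen w ∈ H)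
    (hsubs : (P.subs.all fun w => sw.any fun u => wordEq w u || wordEq w.reverse u) = true)
    {n : ℕ} {tree : List ℕ} {phases : List Phase} (hcert : checkCert P n tree phases = true)
    (htab : tableOK P n = true) {m : ℕ} (hm : CardLe H m) :
    CardLe (Subgroup.closure (gen '' {x | x < P.k})) (n * m) := by
  obtain ⟨hk, hn⟩ := tableOK_pos P htab
  set q₀ : G ⧸ H := ((1 : G) : G ⧸ H) with hq₀
  have hstab : ∀ h ∈ H, h • q₀ = q₀ := fun h hh => by
    show ((h * 1 : G) : G ⧸ H) = ((1 : G) : G ⧸ H)
    rw [QuotientGroup.eq]; simpa using hh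
  have hs : ∀ x (q : G ⧸ H), gen x • gen x • q = q := fun x q => by rw [smul_smul, hinv, one_smul]
  simp only [List.all_eq_true, List.any_eq_true, Bool.or_eq_true] at hsubs
  obtain ⟨q, hq0, hq⟩ := checkCert_sound (P := P) (s := fun x q => gen x • q) (q₀ := q₀)
    (fun w hw q => by
      rw [act_eq_wprod, wprod_reverse hinv, rotsOK_spec hinv hbase _ _ hrots w hw, inv_one, one_smul])
    (fun w hw => by
      rw [act_eq_wprod]
      refine hstab _ ?_
      obtain ⟨u, hu, h⟩ := hsubs w hw
      rcases h with h | h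
      · obtain rfl := eq_of_wordEq h
        rw [wprod_reverse hinv]
        exact inv_mem (hH _ hu)
      · exact eq_of_wordEq h ▸ hH _ hu)
    hs hcert
  have hget : ∀ i < n * P.k, P.T.get i < n := by
    intro i hi
    have := tableOK_spec P htab hi
    simp only [Bool.and_eq_true, Nat.blt_eq] at this
    exact this.1
  let qq : Fin n → G ⧸ H := fun c => q c
  set K := Subgroup.closure (gen '' {x | x < P.k}) with hK
  have hstep : ∀ x < P.k, ∀ t, t ∈ Set.range qq → gen x • t ∈ Set.range qq := by
    rintro x hx _ ⟨c, rfl⟩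
    have hi : (c : ℕ) * P.k + x < n * P.k := by
      have : ((c : ℕ) + 1) * P.k ≤ n * P.k := Nat.mul_le_mul_right _ c.2
      rw [Nat.add_mul, Nat.one_mul] at this
      omega
    have := hq _ hi
    rw [Nat.mul_comm (c : ℕ), Nat.mul_add_mod, Nat.mod_eq_of_lt hx, Nat.mul_add_div hk,
      Nat.div_eq_of_lt hx, Nat.add_zero] at this
    exact ⟨⟨_, hget _ (Nat.mul_comm (c : ℕ) _ ▸ hi)⟩, this.symm⟩
  have hall : ∀ g ∈ K, (∀ t, t ∈ Set.range qq → g • t ∈ Set.range qq) ∧
      (∀ t, t ∈ Set.range qq → g⁻¹ • t ∈ Set.range qq) := by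
    intro g hg
    rw [hK] at hg
    induction hg using Subgroup.closure_induction with
    | mem y hy =>
      obtain ⟨x, hx, rfl⟩ := hy
      rw [inv_eq_of_mul_eq_one_right (hinv x)]
      exact ⟨hstep x hx, hstep x hx⟩
    | one => simp
    | mul a b _ _ ha hb =>
      exact ⟨fun t ht => by rw [mul_smul]; exact ha.1 _ (hb.1 t ht),
        fun t ht => by rw [mul_inv_rev, mul_smul]; exact hb.2 _ (ha.2 t ht)⟩
    | inv a _ ha => exact ⟨ha.2, by rw [inv_inv]; exact ha.1⟩
  have hc : ∀ g : K, ∃ c : Fin n, ((g : G) : G ⧸ H) = qq c := by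
    intro g
    obtain ⟨c, hc⟩ := (hall g g.2).1 q₀ ⟨⟨0, hn⟩, hq0⟩
    refine ⟨c, ?_⟩
    rw [hc]
    show ((g : G) : G ⧸ H) = (((g : G) * 1 : G) : G ⧸ H)
    rw [mul_one]
  choose c hc using hc
  let F : K → Fin n × H := fun g =>
    (c g, ⟨(qq (c g)).out⁻¹ * g, by rw [← QuotientGroup.eq, QuotientGroup.out_eq', hc g]⟩)
  have hF : Function.Injective F := by
    intro g g' h
    simp only [F, Prod.mk.injEq, Subtype.mk.injEq] at h
    obtain ⟨h1, h2⟩ := h
    rw [h1] at h2
    exact Subtype.ext (mul_left_cancel h2)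
  have := hm.1
  refine ⟨Finite.of_injective F hF, (Nat.card_le_card_of_injective F hF).trans ?_⟩
  rw [Nat.card_prod, Nat.card_fin]
  exact Nat.mul_le_mul_left _ hm.2

end

end Cfsg.Agent.CosetCert
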