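import Mathlib.GroupTheory.GroupAction.Quotient
import Mathlib.GroupTheory.Index
import Mathlib.Data.Set.Card
import Mathlib.Data.Nat.Bitwise
import Mathlib.Tactic

/-!
Kernel-checked coset enumeration certificates for groups generated by involutions.

* Generators are numbered `0, …, k-1`; a word is a list of numbers, acting from the left letter first.
* The coset table is a binary trie of packed chunks, `T (c * k + x)` being the image of coset `c` under
  generator `x`.
* A certificate proves, for any set on which the generators act by involutions so that the relators act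
  trivially and the subgroup words fix the base point, that the table edges hold. It consists of a
  spanning tree (definitions), scans of relators with a single unknown edge, and short derivations with
  auxiliary nodes.

The checker is meant for `decide +kernel`.
-/

set_option autoImplicit false

namespace Cfsg.Agent.CosetCert

noncomputable section

/-! ### Tables and bit sets -/

/-- A packed table: leaves hold chunks of 16 bit entries, a node splits on parity. -/
inductive Tab where
  | leaf (v : ℕ)
  | node (l r : Tab)

/-- Entry `i` of a table. (Recursors keep the kernel evaluation short.) -/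
def Tab.get (t : Tab) : ℕ → ℕ :=
  Tab.rec (fun v i => Nat.land (Nat.shiftRight v (Nat.mul 16 i)) 65535)
    (fun _ _ l r i => Bool.rec r l (Nat.beq (Nat.mod i 2) 0) (Nat.div i 2)) t

/-- A table of words. -/
inductive WTab where
  | leaf (w : List ℕ)
  | node (l r : WTab)

/-- Entry `i` of a table of words. -/
def WTab.get (t : WTab) : ℕ → List ℕ :=
  WTab.rec (fun w _ => w)
    (fun _ _ l r i => Bool.rec (r (Nat.div i 2)) (l (Nat.div i 2)) (Nat.beq (Nat.mod i 2) 0)) t

/-- The entries of a table of words. -/
def WTab.entries (t : WTab) : List (List ℕ) := WTab.rec (fun w => [w]) (fun _ _ l r => l ++ r) t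

theorem WTab.get_mem : ∀ (t : WTab) (i : ℕ), t.get i ∈ t.entries := by
  intro t
  induction t with
  | leaf w => intro i; exact List.mem_singleton_self _
  | node l r hl hr =>
    intro i
    show Bool.rec (r.get (Nat.div i 2)) (l.get (Nat.div i 2)) (Nat.beq (Nat.mod i 2) 0) ∈ l.entries ++ r.entries
    cases Nat.beq (Nat.mod i 2) 0
    · exact List.mem_append_right _ (hr _)
    · exact List.mem_append_left _ (hl _)

/-- Membership of `i` in a bit set. -/
def bit (m i : ℕ) : Bool := Nat.beq (Nat.mod (Nat.shiftRight m i) 2) 1

/-- Insert `i` into a bit set. -/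
def insBit (m i : ℕ) : ℕ := Nat.lor m (Nat.shiftLeft 1 i)

theorem insBit_eq (m i : ℕ) : insBit m i = m ||| (1 <<< i) := rfl

theorem bit_eq_testBit (m i : ℕ) : bit m i = m.testBit i := by
  change Nat.beq ((m >>> i) % 2) 1 = m.testBit i
  rw [Nat.testBit_eq_decide_div_mod_eq, Nat.shiftRight_eq_div_pow]
  rw [Bool.eq_iff_iff, Nat.beq_eq, decide_eq_true_eq]

theorem bit_zero (i : ℕ) : bit 0 i = false := by
  rw [bit_eq_testBit]; exact Nat.zero_testBit i

theorem bit_insBit {m i j : ℕ} (h : bit (insBit m i) j = true) : j = i ∨ bit m j = true := by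
  rw [bit_eq_testBit, insBit_eq, Nat.testBit_or, Bool.or_eq_true] at h
  rcases h with h | h
  · exact Or.inr (by rw [bit_eq_testBit]; exact h)
  · rw [Nat.one_shiftLeft, Nat.testBit_two_pow, decide_eq_true_eq] at h
    exact Or.inl h.symm

theorem bit_insBit_self (m i : ℕ) : bit (insBit m i) i = true := by
  rw [bit_eq_testBit, insBit_eq, Nat.testBit_or, Nat.one_shiftLeft, Nat.testBit_two_pow]; simp

theorem bit_insBit_of {m i j : ℕ} (h : bit m j = true) : bit (insBit m i) j = true := by
  rw [bit_eq_testBit] at h ⊢
  rw [insBit_eq, Nat.testBit_or, h, Bool.true_or]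

theorem bit_full {m N i : ℕ} (h : Nat.beq m (2 ^ N - 1) = true) (hi : i < N) : bit m i = true := by
  rw [Nat.eq_of_beq_eq_true h, bit_eq_testBit, Nat.testBit_two_pow_sub_one]; simpa using hi

/-! ### Bounded quantifier -/

/-- `f i` for all `i < n`. (A bare recursor: the kernel evaluates it with little overhead.) -/
def allBelow (f : ℕ → Bool) (n : ℕ) : Bool := Nat.rec true (fun i r => Bool.rec false r (f i)) n

theorem allBelow_spec {f : ℕ → Bool} :
    ∀ {n : ℕ}, allBelow f n = true → ∀ {i : ℕ}, i < n → f i = true := by
  intro n
  induction n with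
  | zero => intro _ i hi; omega
  | succ n ih =>
    intro h i hi
    change Bool.rec false (allBelow f n) (f n) = true at h
    cases hf : f n with
    | false => rw [hf] at h; exact Bool.noConfusion h
    | true =>
      rw [hf] at h
      rcases Nat.lt_succ_iff_lt_or_eq.1 hi with h1 | h1
      · exact ih h h1
      · exact h1 ▸ hf

/-! ### Words -/

section act

variable {X : Type*} (s : ℕ → X → X)

/-- The action of a word, first letter first. -/
def act (w : List ℕ) (q : X) : X := w.foldl (fun q x => s x q) q

theorem act_nil (q : X) : act s [] q = q := rfl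
theorem act_cons (x : ℕ) (w : List ℕ) (q : X) : act s (x :: w) q = act s w (s x q) := rfl
theorem act_append (u v : List ℕ) (q : X) : act s (u ++ v) q = act s v (act s u q) := List.foldl_append

variable {s}

theorem act_reverse_act (hs : ∀ x q, s x (s x q) = q) :
    ∀ (w : List ℕ) (q : X), act s w.reverse (act s w q) = q := by
  intro w
  induction w with
  | nil => intro q; rfl
  | cons x w ih =>
    intro q
    rw [act_cons, List.reverse_cons, act_append, ih, act_cons, act_nil, hs]

theorem act_act_reverse (hs : ∀ x q, s x (s x q) = q) (w : List ℕ) (q : X) :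
    act s w (act s w.reverse q) = q := by
  conv_lhs => arg 2; rw [← List.reverse_reverse w]
  rw [← act_reverse_act hs w.reverse q, act_reverse_act hs w.reverse q, List.reverse_reverse]
  have := act_reverse_act hs w.reverse q
  rwa [List.reverse_reverse] at this

end act

/-- Free reduction of a word in involutions, with a stack. -/
def reduceAux : List ℕ → List ℕ → List ℕ
  | st, [] => st.reverse
  | [], x :: w => reduceAux [x] w
  | y :: st, x :: w => bif Nat.beq y x then reduceAux st w else reduceAux (x :: y :: st) w

/-- Free reduction of a word in involutions. -/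
def reduce (w : List ℕ) : List ℕ := reduceAux [] w

theorem act_reduceAux {X : Type*} {s : ℕ → X → X} (hs : ∀ x q, s x (s x q) = q) :
    ∀ (w st : List ℕ) (q : X), act s (reduceAux st w) q = act s (st.reverse ++ w) q := by
  intro w
  induction w with
  | nil => intro st q; cases st <;> simp [reduceAux]
  | cons x w ih =>
    intro st q
    cases st with
    | nil => rw [reduceAux, ih]; rfl
    | cons y st =>
      rw [reduceAux]
      cases h : Nat.beq y x
      · rw [cond_false, ih]; simp
      · rw [cond_true, ih]
        obtain rfl := Nat.eq_of_beq_eq_true h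
        simp [act_append, act_cons, act_nil, hs]

theorem act_reduce {X : Type*} {s : ℕ → X → X} (hs : ∀ x q, s x (s x q) = q) (w : List ℕ) (q : X) :
    act s (reduce w) q = act s w q := act_reduceAux hs w [] q

/-- Boolean equality of words. -/
def wordEq : List ℕ → List ℕ → Bool
  | [], [] => true
  | x :: u, y :: v => Nat.beq x y && wordEq u v
  | _, _ => false

theorem eq_of_wordEq : ∀ {u v : List ℕ}, wordEq u v = true → u = v := by
  intro u
  induction u with
  | nil => intro v h; cases v <;> simp [wordEq] at h ⊢
  | cons x u ih =>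
    intro v h
    cases v with
    | nil => simp [wordEq] at h
    | cons y v =>
      simp only [wordEq, Bool.and_eq_true] at h
      rw [Nat.eq_of_beq_eq_true h.1, ih h.2]

/-! ### The certificate -/

/-- An equation `act w q_a = q_b`. -/
structure EqFact where
  a : ℕ
  w : List ℕ
  b : ℕ

/-- A link of a chain of equations: a known table edge, or an earlier equation (counted backwards). -/
inductive Link where
  | edge (x : ℕ)
  | fwd (i : ℕ)
  | bwd (i : ℕ)

/-- The justification of a derived equation: free reduction, a relator, or a subgroup word at node `0`. -/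
inductive Why where
  | free
  | rel (r : ℕ)
  | sub (r : ℕ)

/-- A step of an auxiliary derivation. -/
inductive Aux where
  | node (a x : ℕ)
  | derive (a : ℕ) (chain : List Link) (w : List ℕ) (why : Why)
  | commit (i : ℕ)

/-- A phase: a list of coded scans, or an auxiliary derivation. -/
inductive Phase where
  | scans (l : List ℕ)
  | aux (l : List Aux)

/-- Checker state. -/
structure St where
  size : ℕ
  known : ℕ
  eqs : List EqFact

/-- Parameters of a certificate: table, number of generators, relator rotations, subgroup words. -/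
structure Params where
  T : Tab
  k : ℕ
  rots : WTab
  subs : List (List ℕ)

variable (P : Params)

/-- Record both directions of a table edge. -/
def addEdge (st : St) (f x b : ℕ) : Option St :=
  bif Nat.blt x P.k && Nat.blt f st.size && Nat.blt b st.size && Nat.beq (P.T.get (f * P.k + x)) b &&
      Nat.beq (P.T.get (b * P.k + x)) f then
    some { st with known := insBit (insBit st.known (f * P.k + x)) (b * P.k + x) }
  else none

/-- Follow known edges. -/
def walk (known : ℕ) : List ℕ → ℕ → Option ℕ
  | [], c => some c
  | x :: w, c =>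
    bif Nat.blt x P.k && bit known (c * P.k + x) then walk known w (P.T.get (c * P.k + x)) else none

/-- A spanning tree step: the next node is defined as the image of an earlier one. -/
def treeStep (st : St) (e : ℕ) : Option St :=
  bif Nat.blt (e / P.k) st.size && Nat.blt 0 P.k && Nat.beq (P.T.get e) st.size &&
      Nat.beq (P.T.get (st.size * P.k + e % P.k)) (e / P.k) then
    addEdge P { st with size := st.size + 1 } (e / P.k) (e % P.k) st.size
  else none

/-- Follow known edges up to the last letter, and record the edge it must be. -/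
def closeLoop (st : St) (f : ℕ) (w : List ℕ) : ℕ → Option St :=
  List.rec (fun _ => none)
    (fun x rest r c =>
      match rest with
      | [] => addEdge P st c x f
      | _ :: _ =>
        bif Nat.blt x P.k && bit st.known (c * P.k + x) then r (P.T.get (c * P.k + x)) else none) w

/-- A scan of a relator rotation whose last edge is unknown, coded as `c * 4096 + r`; the codes
`r ≥ 2048` scan a subgroup word at node `0`, the position of the unknown edge being `c`. -/
def scanStep (st : St) (code : ℕ) : Option St :=
  let r := code % 4096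
  let c := code / 4096
  bif Nat.ble 2048 r then
    let w := P.subs.getD (r - 2048) []
    match walk P st.known (w.take c) 0, w.drop c with
    | some f, x :: v =>
      match walk P st.known v.reverse 0 with
      | some b => addEdge P st f x b
      | none => none
    | _, _ => none
  else
    bif Nat.blt c st.size then closeLoop P st c (P.rots.get r) c else none

/-- Compose a chain from node `a`, accumulating the word. -/
def chainEnd (st : St) : List Link → ℕ → List ℕ → Option (ℕ × List ℕ)
  | [], a, w => some (a, w)
  | .edge x :: l, a, w =>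
    bif Nat.blt x P.k && bit st.known (a * P.k + x) then chainEnd st l (P.T.get (a * P.k + x)) (w ++ [x])
    else none
  | .fwd i :: l, a, w =>
    match st.eqs[i]? with
    | some f => bif Nat.beq f.a a then chainEnd st l f.b (w ++ f.w) else none
    | none => none
  | .bwd i :: l, a, w =>
    match st.eqs[i]? with
    | some f => bif Nat.beq f.b a then chainEnd st l f.a (w ++ f.w.reverse) else none
    | none => none

/-- Check a justification. -/
def whyOK (a : ℕ) (w : List ℕ) : Why → Bool
  | .free => wordEq w []
  | .rel r => wordEq w (P.rots.get r)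
  | .sub r => Nat.beq a 0 && wordEq w (P.subs.getD r [])

/-- An auxiliary step. -/
def auxStep (st : St) : Aux → Option St
  | .node a x =>
    bif Nat.blt a st.size then
      some { size := st.size + 1, known := st.known, eqs := ⟨a, [x], st.size⟩ :: st.eqs }
    else none
  | .derive a ch w' y =>
    bif Nat.blt a st.size then
      match chainEnd P st ch a [] with
      | some (b, w) =>
        bif whyOK P a (reduce (w ++ w'.reverse)) y then some { st with eqs := ⟨a, w', b⟩ :: st.eqs }
        else none
      | none => none
    else none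
  | .commit i =>
    match st.eqs[i]? with
    | some f =>
      match f.w with
      | [x] => addEdge P st f.a x f.b
      | _ => none
    | none => none

/-- Fold a failing step over a list. -/
def runList {α : Type} (f : St → α → Option St) : List α → St → Option St
  | [], st => some st
  | a :: l, st => match f st a with
    | some st' => runList f l st'
    | none => none

/-- Run one phase; auxiliary equations do not survive the phase. -/
def phaseStep (st : St) : Phase → Option St
  | .scans l => runList (scanStep P) l st
  | .aux l => (runList (auxStep P) l st).map fun st' => { st' with eqs := [] }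

/-- Run the certificate and compare with the full table. -/
def checkCert (n : ℕ) (tree : List ℕ) (phases : List Phase) : Bool :=
  match runList (treeStep P) tree ⟨1, 0, []⟩ with
  | some st =>
    match runList (phaseStep P) phases st with
    | some st' => Nat.beq st'.known (2 ^ (n * P.k) - 1)
    | none => false
  | none => false

/-- The state is the expected one, with no pending equations. -/
def stIs : Option St → ℕ → ℕ → Bool
  | some ⟨s, k, []⟩, n, m => Nat.beq s n && Nat.beq k m
  | _, _, _ => false

theorem eq_of_stIs : ∀ {o : Option St} {n m : ℕ}, stIs o n m = true → o = some ⟨n, m, []⟩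
  | some ⟨s, k, []⟩, n, m, h => by
    simp only [stIs, Bool.and_eq_true] at h
    rw [Nat.eq_of_beq_eq_true h.1, Nat.eq_of_beq_eq_true h.2]
  | some ⟨_, _, _ :: _⟩, _, _, h => by simp [stIs] at h
  | none, _, _, h => by simp [stIs] at h

/-- The phases complete the table from the state with `N` nodes and known edges `m`. -/
def Run (n N m : ℕ) (phases : List Phase) : Prop :=
  ∃ N', runList (phaseStep P) phases ⟨N, m, []⟩ = some ⟨N', 2 ^ (n * P.k) - 1, []⟩

theorem runList_append {α : Type} (f : St → α → Option St) :
    ∀ (u v : List α) (st st' : St), runList f u st = some st' →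
      runList f (u ++ v) st = runList f v st' := by
  intro u
  induction u with
  | nil => intro v st st' h; simp only [runList, Option.some.injEq] at h; rw [← h]; rfl
  | cons a u ih =>
    intro v st st' h
    rw [runList] at h
    cases ha : f st a with
    | none => simp [ha] at h
    | some s₁ =>
      simp only [ha] at h
      rw [List.cons_append, runList, ha]
      exact ih v s₁ st' h

/-- The last segment of a certificate. -/
theorem run_last {n N N' m : ℕ} {seg : List Phase}
    (h : stIs (runList (phaseStep P) seg ⟨N, m, []⟩) N' (2 ^ (n * P.k) - 1) = true) :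
    Run P n N m seg :=
  ⟨N', eq_of_stIs h⟩

/-- A certificate checked in segments, each from a stated state. -/
theorem run_append {n N N' m m' : ℕ} {seg rest : List Phase}
    (h : stIs (runList (phaseStep P) seg ⟨N, m, []⟩) N' m' = true) (h' : Run P n N' m' rest) :
    Run P n N m (seg ++ rest) := by
  obtain ⟨N'', h'⟩ := h'
  exact ⟨N'', (runList_append _ seg rest _ _ (eq_of_stIs h)).trans h'⟩

theorem checkCert_of_run {n N m : ℕ} {tree : List ℕ} {phases : List Phase}
    (h : stIs (runList (treeStep P) tree ⟨1, 0, []⟩) N m = true) (h' : Run P n N m phases) :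
    checkCert P n tree phases = true := by
  obtain ⟨N', h'⟩ := h'
  rw [checkCert, eq_of_stIs h]
  simp only [h']
  exact Nat.beq_refl _

section sound

variable {P} {X : Type*} {s : ℕ → X → X} (q₀ : X)

/-- The invariant of the checker. -/
def Inv (s : ℕ → X → X) (P : Params) (st : St) (q : ℕ → X) : Prop :=
  q 0 = q₀ ∧ 0 < st.size ∧
    (∀ f ∈ st.eqs, f.a < st.size ∧ f.b < st.size ∧ act s f.w (q f.a) = q f.b) ∧
    ∀ i, bit st.known i = true →
      i / P.k < st.size ∧ P.T.get i < st.size ∧ s (i % P.k) (q (i / P.k)) = q (P.T.get i)

variable {q₀}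

theorem addEdge_sound (hs : ∀ x q, s x (s x q) = q) {st st' : St} {f x b : ℕ} {q : ℕ → X}
    (h : Inv q₀ s P st q) (he : s x (q f) = q b) (hst : addEdge P st f x b = some st') :
    Inv q₀ s P st' q := by
  unfold addEdge at hst
  cases hc : (Nat.blt x P.k && Nat.blt f st.size && Nat.blt b st.size &&
      Nat.beq (P.T.get (f * P.k + x)) b && Nat.beq (P.T.get (b * P.k + x)) f) with
  | false => simp [hc] at hst
  | true =>
    simp only [hc, cond_true, Option.some.injEq] at hst
    subst hst
    simp only [Bool.and_eq_true, Nat.blt_eq, Nat.beq_eq] at hc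
    obtain ⟨⟨⟨⟨hx, hf⟩, hb⟩, h1⟩, h2⟩ := hc
    have e1 : ∀ c, (c * P.k + x) / P.k = c := fun c => by
      rw [Nat.mul_comm, Nat.mul_add_div (by omega), Nat.div_eq_of_lt hx, Nat.add_zero]
    have e2 : ∀ c, (c * P.k + x) % P.k = x := fun c => by
      rw [Nat.mul_comm, Nat.mul_add_mod, Nat.mod_eq_of_lt hx]
    refine ⟨h.1, h.2.1, h.2.2.1, fun i hi => ?_⟩
    rcases bit_insBit hi with rfl | hi
    · rw [e1, e2, h2]; exact ⟨hb, hf, by rw [← he, hs]⟩
    rcases bit_insBit hi with rfl | hi
    · rw [e1, e2, h1]; exact ⟨hf, hb, he⟩
    exact h.2.2.2 i hi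

theorem walk_sound {st : St} {q : ℕ → X} (h : Inv q₀ s P st q) :
    ∀ (w : List ℕ) (c d : ℕ), c < st.size → walk P st.known w c = some d →
      d < st.size ∧ act s w (q c) = q d := by
  intro w
  induction w with
  | nil => intro c d hc hd; simp only [walk, Option.some.injEq] at hd; subst hd; exact ⟨hc, rfl⟩
  | cons x w ih =>
    intro c d hc hd
    rw [walk] at hd
    cases hb : (Nat.blt x P.k && bit st.known (c * P.k + x)) with
    | false => simp [hb] at hd
    | true =>
      simp only [hb, cond_true] at hd
      simp only [Bool.and_eq_true, Nat.blt_eq] at hb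
      obtain ⟨-, h2, h3⟩ := h.2.2.2 _ hb.2
      rw [Nat.mul_comm c, Nat.mul_add_div (by omega), Nat.div_eq_of_lt hb.1, Nat.add_zero,
        Nat.mul_add_mod, Nat.mod_eq_of_lt hb.1, Nat.mul_comm] at h3
      obtain ⟨h4, h5⟩ := ih _ d h2 hd
      exact ⟨h4, by rw [act_cons, h3, h5]⟩

theorem treeStep_sound (hs : ∀ x q, s x (s x q) = q) {st st' : St} {e : ℕ} {q : ℕ → X}
    (h : Inv q₀ s P st q) (hst : treeStep P st e = some st') : ∃ q', Inv q₀ s P st' q' := by
  unfold treeStep at hst
  cases hc : (Nat.blt (e / P.k) st.size && Nat.blt 0 P.k && Nat.beq (P.T.get e) st.size &&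
      Nat.beq (P.T.get (st.size * P.k + e % P.k)) (e / P.k)) with
  | false => simp [hc] at hst
  | true =>
    simp only [hc, cond_true] at hst
    simp only [Bool.and_eq_true, Nat.blt_eq, Nat.beq_eq] at hc
    have hp : e / P.k < st.size := hc.1.1.1
    set q' := Function.update q st.size (s (e % P.k) (q (e / P.k))) with hq'
    have hlt : ∀ i, i < st.size → q' i = q i := fun i hi => Function.update_of_ne hi.ne _ _
    refine ⟨q', addEdge_sound hs ?_ ?_ hst⟩
    · refine ⟨by rw [hlt 0 h.2.1, h.1], Nat.succ_pos _, fun f hf => ?_, fun i hi => ?_⟩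
      · obtain ⟨h1, h2, h3⟩ := h.2.2.1 f hf
        exact ⟨by simp; omega, by simp; omega, by rw [hlt _ h1, hlt _ h2, h3]⟩
      · obtain ⟨h1, h2, h3⟩ := h.2.2.2 i hi
        exact ⟨by simp; omega, by simp; omega, by rw [hlt _ h1, hlt _ h2, h3]⟩
    · rw [hlt _ hp, hq', Function.update_self]

variable (hrot : ∀ w ∈ P.rots.entries, ∀ q : X, act s w q = q) (hsub : ∀ w ∈ P.subs, act s w q₀ = q₀)

include hrot in
theorem rots_getD (r : ℕ) (q : X) : act s (P.rots.get r) q = q :=
  hrot _ (WTab.get_mem _ _) q

include hsub in
theorem subs_getD (r : ℕ) : act s (P.subs.getD r []) q₀ = q₀ := by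
  rw [List.getD_eq_getElem?_getD]
  cases h : P.subs[r]? with
  | none => rfl
  | some w => exact hsub w (List.mem_of_getElem? h)

theorem closeLoop_sound (hs : ∀ x q, s x (s x q) = q) {st st' : St} {q : ℕ → X}
    (h : Inv q₀ s P st q) {f : ℕ} :
    ∀ (w : List ℕ) (c : ℕ), c < st.size → act s w (q c) = q f → closeLoop P st f w c = some st' →
      Inv q₀ s P st' q := by
  intro w
  induction w with
  | nil => intro c _ _ hd; simp [closeLoop] at hd
  | cons x rest ih =>
    intro c hc hw hd
    cases rest with
    | nil => exact addEdge_sound hs h hw hd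
    | cons y rest =>
      change (bif Nat.blt x P.k && bit st.known (c * P.k + x) then
        closeLoop P st f (y :: rest) (P.T.get (c * P.k + x)) else none) = some st' at hd
      cases hb : (Nat.blt x P.k && bit st.known (c * P.k + x)) with
      | false => simp [hb] at hd
      | true =>
        simp only [hb, cond_true] at hd
        simp only [Bool.and_eq_true, Nat.blt_eq] at hb
        obtain ⟨-, h2, h3⟩ := h.2.2.2 _ hb.2
        rw [Nat.mul_comm c, Nat.mul_add_div (by omega), Nat.div_eq_of_lt hb.1, Nat.add_zero,
          Nat.mul_add_mod, Nat.mod_eq_of_lt hb.1, Nat.mul_comm] at h3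
        exact ih _ h2 (by rw [← h3, ← act_cons]; exact hw) hd

include hrot hsub in
theorem scanStep_sound (hs : ∀ x q, s x (s x q) = q) {st st' : St} {code : ℕ} {q : ℕ → X}
    (h : Inv q₀ s P st q) (hst : scanStep P st code = some st') : Inv q₀ s P st' q := by
  simp only [scanStep] at hst
  cases hb : Nat.ble 2048 (code % 4096) with
  | false =>
    simp only [hb, cond_false] at hst
    cases hc : Nat.blt (code / 4096) st.size with
    | false => simp [hc] at hst
    | true =>
      simp only [hc, cond_true] at hst
      exact closeLoop_sound hs h _ _ (Nat.le_of_ble_eq_true hc) (rots_getD hrot _ _) hst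
  | true =>
    simp only [hb, cond_true] at hst
    set pos := code / 4096
    set w := P.subs.getD (code % 4096 - 2048) [] with hw
    have hfix : act s w (q 0) = q 0 := by rw [h.1]; exact subs_getD hsub _
    cases hf : walk P st.known (w.take pos) 0 with
    | none => simp [hf] at hst
    | some f =>
      cases hd : w.drop pos with
      | nil => simp [hf, hd] at hst
      | cons x v =>
        simp only [hf, hd] at hst
        cases hbb : walk P st.known v.reverse 0 with
        | none => simp [hbb] at hst
        | some b =>
          simp only [hbb] at hst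
          refine addEdge_sound hs h ?_ hst
          obtain ⟨-, h1⟩ := walk_sound h _ _ _ h.2.1 hf
          obtain ⟨-, h2⟩ := walk_sound h _ _ _ h.2.1 hbb
          rw [← List.take_append_drop pos w, hd, act_append, h1, act_cons] at hfix
          rw [← h2]
          conv_rhs => rw [← hfix]
          rw [act_reverse_act hs]

theorem chainEnd_sound (hs : ∀ x q, s x (s x q) = q) {st : St} {q : ℕ → X} (h : Inv q₀ s P st q) :
    ∀ (l : List Link) (a₀ a : ℕ) (w : List ℕ) (b : ℕ) (w' : List ℕ), a < st.size →
      act s w (q a₀) = q a → chainEnd P st l a w = some (b, w') →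
      b < st.size ∧ act s w' (q a₀) = q b := by
  intro l
  induction l with
  | nil =>
    intro a₀ a w b w' ha hw hd
    simp only [chainEnd, Option.some.injEq, Prod.mk.injEq] at hd
    obtain ⟨rfl, rfl⟩ := hd
    exact ⟨ha, hw⟩
  | cons t l ih =>
    intro a₀ a w b w' ha hw hd
    cases t with
    | edge x =>
      rw [chainEnd] at hd
      cases hb : (Nat.blt x P.k && bit st.known (a * P.k + x)) with
      | false => simp [hb] at hd
      | true =>
        simp only [hb, cond_true] at hd
        simp only [Bool.and_eq_true, Nat.blt_eq] at hb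
        obtain ⟨-, h2, h3⟩ := h.2.2.2 _ hb.2
        rw [Nat.mul_comm a, Nat.mul_add_div (by omega), Nat.div_eq_of_lt hb.1, Nat.add_zero,
          Nat.mul_add_mod, Nat.mod_eq_of_lt hb.1, Nat.mul_comm] at h3
        exact ih a₀ _ _ b w' h2 (by rw [act_append, hw, act_cons, act_nil, h3]) hd
    | fwd i =>
      rw [chainEnd] at hd
      cases hi : st.eqs[i]? with
      | none => simp [hi] at hd
      | some f =>
        simp only [hi] at hd
        cases hb : Nat.beq f.a a with
        | false => simp [hb] at hd
        | true =>
          simp only [hb, cond_true] at hd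
          obtain ⟨-, h2, h3⟩ := h.2.2.1 f (List.mem_of_getElem? hi)
          exact ih a₀ _ _ b w' h2
            (by rw [act_append, hw, ← Nat.eq_of_beq_eq_true hb, h3]) hd
    | bwd i =>
      rw [chainEnd] at hd
      cases hi : st.eqs[i]? with
      | none => simp [hi] at hd
      | some f =>
        simp only [hi] at hd
        cases hb : Nat.beq f.b a with
        | false => simp [hb] at hd
        | true =>
          simp only [hb, cond_true] at hd
          obtain ⟨h1, -, h3⟩ := h.2.2.1 f (List.mem_of_getElem? hi)
          exact ih a₀ _ _ b w' h1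
            (by rw [act_append, hw, ← Nat.eq_of_beq_eq_true hb, ← h3]; exact act_reverse_act hs _ _) hd

include hrot hsub in
theorem auxStep_sound (hs : ∀ x q, s x (s x q) = q) {st st' : St} {t : Aux} {q : ℕ → X}
    (h : Inv q₀ s P st q) (hst : auxStep P st t = some st') : ∃ q', Inv q₀ s P st' q' := by
  cases t with
  | node a x =>
    rw [auxStep] at hst
    cases hc : Nat.blt a st.size with
    | false => simp [hc] at hst
    | true =>
      simp only [hc, cond_true, Option.some.injEq] at hst
      subst hst
      rw [Nat.blt_eq] at hc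
      set q' := Function.update q st.size (s x (q a)) with hq'
      have hlt : ∀ i, i < st.size → q' i = q i := fun i hi => Function.update_of_ne hi.ne _ _
      refine ⟨q', by rw [hlt 0 h.2.1, h.1], Nat.succ_pos _, fun f hf => ?_, fun i hi => ?_⟩
      · rcases List.mem_cons.1 hf with rfl | hf
        · refine ⟨by simp; omega, by simp, ?_⟩
          simp only [act_cons, act_nil]
          rw [hlt a hc, hq', Function.update_self]
        · obtain ⟨h1, h2, h3⟩ := h.2.2.1 f hf
          exact ⟨by simp; omega, by simp; omega, by rw [hlt _ h1, hlt _ h2, h3]⟩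
      · obtain ⟨h1, h2, h3⟩ := h.2.2.2 i hi
        exact ⟨by simp; omega, by simp; omega, by rw [hlt _ h1, hlt _ h2, h3]⟩
  | derive a ch w' y =>
    rw [auxStep] at hst
    cases hc : Nat.blt a st.size with
    | false => simp [hc] at hst
    | true =>
      simp only [hc, cond_true] at hst
      rw [Nat.blt_eq] at hc
      cases he : chainEnd P st ch a [] with
      | none => simp [he] at hst
      | some bw =>
        obtain ⟨b, w⟩ := bw
        simp only [he] at hst
        cases hy : whyOK P a (reduce (w ++ w'.reverse)) y with
        | false => simp [hy] at hst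
        | true =>
          simp only [hy, cond_true, Option.some.injEq] at hst
          subst hst
          obtain ⟨hb, hw⟩ := chainEnd_sound hs h ch a a [] b w hc rfl he
          have hfix : act s (w ++ w'.reverse) (q a) = q a := by
            rw [← act_reduce hs]
            cases y with
            | free => rw [eq_of_wordEq hy]; rfl
            | rel r => rw [eq_of_wordEq hy]; exact rots_getD hrot r _
            | sub r =>
              simp only [whyOK, Bool.and_eq_true, Nat.beq_eq] at hy
              rw [eq_of_wordEq hy.2, hy.1, h.1]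
              exact subs_getD hsub r
          refine ⟨q, h.1, h.2.1, fun f hf => ?_, h.2.2.2⟩
          rcases List.mem_cons.1 hf with rfl | hf
          · refine ⟨hc, hb, ?_⟩
            rw [act_append, hw] at hfix
            show act s w' (q a) = q b
            rw [← hfix]
            exact act_act_reverse hs _ _
          · exact h.2.2.1 f hf
  | commit i =>
    rw [auxStep] at hst
    cases hi : st.eqs[i]? with
    | none => simp [hi] at hst
    | some f =>
      simp only [hi] at hst
      obtain ⟨-, -, h3⟩ := h.2.2.1 f (List.mem_of_getElem? hi)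
      rcases hw : f.w with _ | ⟨x, _ | _⟩ <;> simp only [hw] at hst h3
      · exact absurd hst (by simp)
      · exact ⟨q, addEdge_sound hs h h3 hst⟩
      · exact absurd hst (by simp)

theorem runList_sound {α : Type} {f : St → α → Option St}
    (hf : ∀ st st' a q, Inv q₀ s P st q → f st a = some st' → ∃ q', Inv q₀ s P st' q') :
    ∀ (l : List α) (st st' : St) (q : ℕ → X), Inv q₀ s P st q → runList f l st = some st' →
      ∃ q', Inv q₀ s P st' q' := by
  intro l
  induction l with
  | nil => intro st st' q h he; simp only [runList, Option.some.injEq] at he; subst he; exact ⟨q, h⟩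
  | cons a l ih =>
    intro st st' q h he
    rw [runList] at he
    cases hc : f st a with
    | none => simp [hc] at he
    | some st₁ =>
      simp only [hc] at he
      obtain ⟨q', h'⟩ := hf _ _ _ _ h hc
      exact ih _ _ _ h' he

include hrot hsub in
theorem phaseStep_sound (hs : ∀ x q, s x (s x q) = q) {st st' : St} {t : Phase} {q : ℕ → X}
    (h : Inv q₀ s P st q) (hst : phaseStep P st t = some st') : ∃ q', Inv q₀ s P st' q' := by
  cases t with
  | scans l =>
    exact runList_sound (fun _ _ _ q h hh => ⟨q, scanStep_sound hrot hsub hs h hh⟩) l st st' q h hst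
  | aux l =>
    rw [phaseStep] at hst
    cases hc : runList (auxStep P) l st with
    | none => simp [hc] at hst
    | some st₁ =>
      simp only [hc, Option.map_some, Option.some.injEq] at hst
      subst hst
      obtain ⟨q', h'⟩ := runList_sound (fun _ _ _ _ h hh => auxStep_sound hrot hsub hs h hh) l st st₁ q h hc
      exact ⟨q', h'.1, h'.2.1, fun f hf => absurd hf List.not_mem_nil, h'.2.2.2⟩

include hrot hsub in
/-- Soundness: all table edges hold for some labelling of the cosets. -/
theorem checkCert_sound (hs : ∀ x q, s x (s x q) = q) {n : ℕ} {tree : List ℕ} {phases : List Phase}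
    (hc : checkCert P n tree phases = true) :
    ∃ q : ℕ → X, q 0 = q₀ ∧
      ∀ i < n * P.k, s (i % P.k) (q (i / P.k)) = q (P.T.get i) := by
  rw [checkCert] at hc
  cases h1 : runList (treeStep P) tree ⟨1, 0, []⟩ with
  | none => simp [h1] at hc
  | some st =>
    simp only [h1] at hc
    cases h2 : runList (phaseStep P) phases st with
    | none => simp [h2] at hc
    | some st' =>
      simp only [h2] at hc
      have h0 : Inv q₀ s P ⟨1, 0, []⟩ (fun _ => q₀) :=
        ⟨rfl, Nat.one_pos, fun f hf => absurd hf List.not_mem_nil,
          fun i hi => by simp [bit_zero] at hi⟩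
      obtain ⟨q, hq⟩ := runList_sound (fun _ _ _ _ h hh => treeStep_sound hs h hh) tree _ _ _ h0 h1
      obtain ⟨q', hq'⟩ :=
        runList_sound (fun _ _ _ _ h hh => phaseStep_sound hrot hsub hs h hh) phases _ _ _ hq h2
      exact ⟨q', hq'.1, fun i hi => (hq'.2.2.2 i (bit_full hc hi)).2.2⟩

end sound

/-! ### The permutation representation given by the table -/

/-- The column of generator `x` is an involution of `[0, n)`. -/
def genOK (n x : ℕ) : Bool :=
  allBelow (fun c => Nat.blt (P.T.get (c * P.k + x)) n &&
    Nat.beq (P.T.get (P.T.get (c * P.k + x) * P.k + x)) c) n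

/-- The table defines involutions on `0, …, n-1`. -/
def tableOK (n : ℕ) : Bool :=
  Nat.blt 0 P.k && Nat.blt 0 n && allBelow (fun x => genOK P n x) P.k

theorem tableOK_pos {n : ℕ} (h : tableOK P n = true) : 0 < P.k ∧ 0 < n := by
  simp only [tableOK, Bool.and_eq_true, Nat.blt_eq] at h
  exact h.1

/-- A table checked column by column. -/
theorem tableOK_of_gens {n : ℕ} (hk : Nat.blt 0 P.k = true) (hn : Nat.blt 0 n = true)
    (h : ∀ x < P.k, genOK P n x = true) : tableOK P n = true := by
  have : ∀ j, j ≤ P.k → allBelow (fun x => genOK P n x) j = true := by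
    intro j
    induction j with
    | zero => intro _; rfl
    | succ j ih =>
      intro hj
      change Bool.rec false (allBelow (fun x => genOK P n x) j) (genOK P n j) = true
      rw [h j (by omega), ih (by omega)]
  rw [tableOK, hk, hn, this P.k le_rfl]
  rfl

theorem tableOK_spec {n i : ℕ} (h : tableOK P n = true) (hi : i < n * P.k) :
    (Nat.blt (P.T.get i) n && Nat.beq (P.T.get (P.T.get i * P.k + i % P.k)) (i / P.k)) = true := by
  have hk := (tableOK_pos P h).1
  simp only [tableOK, Bool.and_eq_true] at h
  have h1 := allBelow_spec (allBelow_spec h.2 (Nat.mod_lt i hk)) ((Nat.div_lt_iff_lt_mul hk).2 hi)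
  rwa [Nat.div_add_mod' i P.k] at h1

/-- The action of a word on table points. -/
def tact (w : List ℕ) : ℕ → ℕ :=
  List.rec (fun c => c) (fun x _ r c => r (P.T.get (Nat.add (Nat.mul c P.k) x))) w

theorem tact_nil (c : ℕ) : tact P [] c = c := rfl
theorem tact_cons (x : ℕ) (w : List ℕ) (c : ℕ) :
    tact P (x :: w) c = tact P w (P.T.get (c * P.k + x)) := rfl

/-- The word has letters below `k` and fixes every point. -/
def wordFix (n : ℕ) (w : List ℕ) : Bool :=
  (w.all fun x => Nat.blt x P.k) && allBelow (fun c => Nat.beq (tact P w c) c) n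

/-- The word has letters below `k` and fixes every point below `n`. -/
def Fixes (n : ℕ) (w : List ℕ) : Prop :=
  (w.all fun x => Nat.blt x P.k) = true ∧ ∀ c < n, tact P w c = c

theorem fixes_of_wordFix {n : ℕ} {w : List ℕ} (h : wordFix P n w = true) : Fixes P n w := by
  simp only [wordFix, Bool.and_eq_true] at h
  exact ⟨h.1, fun c hc => Nat.eq_of_beq_eq_true (allBelow_spec h.2 hc)⟩

/-- `m` copies of a word. -/
def rep : ℕ → List ℕ → List ℕ
  | 0, _ => []
  | m + 1, w => w ++ rep m w

theorem tact_append (u v : List ℕ) (c : ℕ) : tact P (u ++ v) c = tact P v (tact P u c) := by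
  induction u generalizing c with
  | nil => rfl
  | cons x u ih => rw [List.cons_append, tact_cons, tact_cons, ih]

theorem tact_rep (u : List ℕ) : ∀ (m c : ℕ), tact P (rep m u) c = (tact P u)^[m] c := by
  intro m
  induction m with
  | zero => intro c; rfl
  | succ m ih => intro c; rw [rep, tact_append, ih, Function.iterate_succ_apply]

/-- Walk `e` steps of `u` from `c`, recording the points; the set is left unchanged unless the walk
comes back to `c`. -/
def cycAdd (u : List ℕ) (c m₀ : ℕ) : ℕ → ℕ → ℕ → ℕ :=
  Nat.rec (fun d m => Bool.rec m₀ m (Nat.beq d c)) (fun _ r d m => r (tact P u d) (insBit m d))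

/-- Points covered by cycles of `u` of length dividing `e`. -/
def powMask (u : List ℕ) (e : ℕ) : ℕ → ℕ :=
  Nat.rec 0 (fun c m => Bool.rec (cycAdd P u c m e c m) m (bit m c))

/-- `u ^ e` fixes every point, checked cycle by cycle. -/
def powFix (n : ℕ) (u : List ℕ) (e : ℕ) : Bool :=
  (u.all fun x => Nat.blt x P.k) && Nat.beq (powMask P u e n) (2 ^ n - 1)

theorem cycAdd_sound {u : List ℕ} {e c m₀ : ℕ} :
    ∀ (j i m : ℕ), i + j = e →
      cycAdd P u c m₀ j ((tact P u)^[i] c) m = m₀ ∨
      ((tact P u)^[e] c = c ∧ ∀ d, bit (cycAdd P u c m₀ j ((tact P u)^[i] c) m) d = true →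
        bit m d = true ∨ ∃ l, d = (tact P u)^[l] c) := by
  intro j
  induction j with
  | zero =>
    intro i m hi
    obtain rfl : i = e := by omega
    change Bool.rec m₀ m (Nat.beq ((tact P u)^[i] c) c) = m₀ ∨ _
    cases hb : Nat.beq ((tact P u)^[i] c) c with
    | false => exact Or.inl rfl
    | true =>
      refine Or.inr ⟨Nat.eq_of_beq_eq_true hb, fun d hd => Or.inl ?_⟩
      change bit (Bool.rec m₀ m (Nat.beq ((tact P u)^[i] c) c)) d = true at hd
      rwa [hb] at hd
  | succ j ih =>
    intro i m hi
    change cycAdd P u c m₀ j (tact P u ((tact P u)^[i] c)) (insBit m ((tact P u)^[i] c)) = m₀ ∨ _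
    rw [← Function.iterate_succ_apply' (tact P u)]
    rcases ih (i + 1) (insBit m ((tact P u)^[i] c)) (by omega) with h1 | ⟨h1, h2⟩
    · exact Or.inl h1
    · refine Or.inr ⟨h1, fun d hd => ?_⟩
      change bit (cycAdd P u c m₀ j (tact P u ((tact P u)^[i] c)) (insBit m ((tact P u)^[i] c))) d = true at hd
      rw [← Function.iterate_succ_apply' (tact P u)] at hd
      rcases h2 d hd with h3 | h3
      · exact (bit_insBit h3).elim (fun he => Or.inr ⟨i, he⟩) Or.inl
      · exact Or.inr h3

theorem powMask_sound {u : List ℕ} {e : ℕ} :
    ∀ (n x : ℕ), bit (powMask P u e n) x = true → (tact P u)^[e] x = x := by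
  intro n
  induction n with
  | zero => intro x hx; change bit 0 x = true at hx; rw [bit_zero] at hx; exact Bool.noConfusion hx
  | succ n ih =>
    intro x hx
    change bit (Bool.rec (cycAdd P u n (powMask P u e n) e n (powMask P u e n)) (powMask P u e n)
      (bit (powMask P u e n) n)) x = true at hx
    cases hb : bit (powMask P u e n) n with
    | true => rw [hb] at hx; exact ih x hx
    | false =>
      rw [hb] at hx
      change bit (cycAdd P u n (powMask P u e n) e ((tact P u)^[0] n) (powMask P u e n)) x = true at hx
      rcases cycAdd_sound P (u := u) (e := e) (c := n) (m₀ := powMask P u e n) e 0 (powMask P u e n)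
        (Nat.zero_add e) with h1 | ⟨h1, h2⟩
      · rw [h1] at hx; exact ih x hx
      · rcases h2 x hx with h3 | ⟨l, rfl⟩
        · exact ih x h3
        · rw [← Function.iterate_add_apply, Nat.add_comm, Function.iterate_add_apply, h1]

theorem fixes_of_powFix {n : ℕ} {u : List ℕ} {e : ℕ} {w : List ℕ} (h : powFix P n u e = true)
    (hw : w = rep e u) : Fixes P n w := by
  subst hw
  rw [powFix, Bool.and_eq_true] at h
  refine ⟨?_, fun c hc => ?_⟩
  · have : ∀ j, ((rep j u).all fun x => Nat.blt x P.k) = true := by
      intro j
      induction j with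
      | zero => rfl
      | succ j ih => rw [rep, List.all_append, h.1, ih]; rfl
    exact this e
  · rw [tact_rep]
    exact powMask_sound P n c (bit_full h.2 hc)

/-- Each word has letters below `k` and fixes the point `0`. -/
def wordsFixBase (ws : List (List ℕ)) : Bool :=
  ws.all fun w => (w.all fun x => Nat.blt x P.k) && Nat.beq (tact P w 0) 0

/-- The tree reaches node `i + 1` from an earlier node. -/
def treeOK : List ℕ → ℕ → Bool
  | [], _ => true
  | e :: l, i => Nat.ble (e / P.k) i && Nat.beq (P.T.get e) (i + 1) && treeOK l (i + 1)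

theorem treeOK_spec :
    ∀ (l : List ℕ) (i : ℕ), treeOK P l i = true →
      ∀ j, i < j → j ≤ i + l.length → ∃ e, e / P.k < j ∧ P.T.get e = j := by
  intro l
  induction l with
  | nil => intro i _ j h1 h2; simp at h2; omega
  | cons e l ih =>
    intro i h j h1 h2
    simp only [treeOK, Bool.and_eq_true, Nat.ble_eq, Nat.beq_eq] at h
    rcases eq_or_lt_of_le (Nat.succ_le_of_lt h1) with h3 | h3
    · exact ⟨e, by omega, by omega⟩
    · exact ih _ h.2 j h3 (by simp at h2; omega)

variable {P}

/-- Permutation of `Fin n` of a generator. -/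
def genPerm {n : ℕ} (h : tableOK P n = true) (x : ℕ) : Equiv.Perm (Fin n) :=
  if hx : x < P.k then
    have key : ∀ c : Fin n, P.T.get (c * P.k + x) < n ∧
        P.T.get (P.T.get (c * P.k + x) * P.k + x) = c := fun c => by
      have hi : (c : ℕ) * P.k + x < n * P.k := by
        have : ((c : ℕ) + 1) * P.k ≤ n * P.k := Nat.mul_le_mul_right _ c.2
        rw [Nat.add_mul, Nat.one_mul] at this
        omega
      have := tableOK_spec P h hi
      rw [Bool.and_eq_true, Nat.blt_eq, Nat.beq_eq, Nat.mul_comm _ P.k, Nat.mul_add_mod,
        Nat.mod_eq_of_lt hx, Nat.mul_add_div (by omega), Nat.div_eq_of_lt hx, Nat.add_zero,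
        Nat.mul_comm P.k] at this
      exact this
    { toFun := fun c => ⟨P.T.get (c * P.k + x), (key c).1⟩
      invFun := fun c => ⟨P.T.get (c * P.k + x), (key c).1⟩
      left_inv := fun c => Fin.ext (key c).2
      right_inv := fun c => Fin.ext (key c).2 }
  else 1

theorem genPerm_val {n : ℕ} (h : tableOK P n = true) {x : ℕ} (hx : x < P.k) (c : Fin n) :
    (genPerm h x c : ℕ) = P.T.get (c * P.k + x) := by
  rw [genPerm, dif_pos hx]; rfl

theorem genPerm_invol {n : ℕ} (h : tableOK P n = true) (x : ℕ) :
    genPerm h x * genPerm h x = 1 := by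
  by_cases hx : x < P.k
  · ext c
    rw [Equiv.Perm.mul_apply]
    conv_lhs => rw [genPerm, dif_pos hx]
    simp only [Equiv.coe_fn_mk]
    have hi : (c : ℕ) * P.k + x < n * P.k := by
      have : ((c : ℕ) + 1) * P.k ≤ n * P.k := Nat.mul_le_mul_right _ c.2
      rw [Nat.add_mul, Nat.one_mul] at this
      omega
    have := tableOK_spec P h hi
    rw [Bool.and_eq_true, Nat.blt_eq, Nat.beq_eq, Nat.mul_comm _ P.k, Nat.mul_add_mod,
      Nat.mod_eq_of_lt hx, Nat.mul_add_div (by omega), Nat.div_eq_of_lt hx, Nat.add_zero,
      Nat.mul_comm P.k] at this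
    simpa using this.2
  · rw [genPerm, dif_neg hx, mul_one]

/-- A word in a group: the product of the letters. -/
def wprod {G : Type*} [Group G] (gen : ℕ → G) (w : List ℕ) : G := (w.map gen).prod

theorem act_eq_wprod {G X : Type*} [Group G] [MulAction G X] (gen : ℕ → G) :
    ∀ (w : List ℕ) (q : X), act (fun x q => gen x • q) w q = wprod gen w.reverse • q := by
  intro w
  induction w with
  | nil => intro q; simp [act_nil, wprod]
  | cons x w ih =>
    intro q
    rw [act_cons, ih, smul_smul]
    simp [wprod]

theorem wprod_reverse {G : Type*} [Group G] {gen : ℕ → G} (hinv : ∀ x, gen x * gen x = 1)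
    (w : List ℕ) : wprod gen w.reverse = (wprod gen w)⁻¹ := by
  induction w with
  | nil => simp [wprod]
  | cons x w ih =>
    have e1 : wprod gen (x :: w).reverse = wprod gen w.reverse * gen x := by simp [wprod]
    have e2 : wprod gen (x :: w) = gen x * wprod gen w := by simp [wprod]
    rw [e1, e2, ih, mul_inv_rev, inv_eq_of_mul_eq_one_right (hinv x)]

/-- Products of the table permutations evaluate by the table. -/
theorem wprod_genPerm {n : ℕ} (h : tableOK P n = true) :
    ∀ (w : List ℕ), (w.all fun x => Nat.blt x P.k) = true → ∀ c : Fin n,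
      (wprod (genPerm h) w.reverse c : ℕ) = tact P w c := by
  intro w
  induction w with
  | nil => intro _ c; simp [wprod, tact_nil]
  | cons x w ih =>
    intro hw c
    rw [List.all_cons, Bool.and_eq_true, Nat.blt_eq] at hw
    have e1 : wprod (genPerm h) (x :: w).reverse = wprod (genPerm h) w.reverse * genPerm h x := by
      simp [wprod]
    rw [e1, Equiv.Perm.mul_apply, ih hw.2, tact_cons, genPerm_val h hw.1]

/-- A checked relator is trivial in the permutation group of the table. -/
theorem wprod_eq_one_of_fixes {n : ℕ} (h : tableOK P n = true) {w : List ℕ}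
    (hw : Fixes P n w) : wprod (genPerm h) w = 1 := by
  have h1 : wprod (genPerm h) w.reverse = 1 := by
    refine Equiv.ext fun c => Fin.ext ?_
    rw [wprod_genPerm h w hw.1, hw.2 c c.2]
    rfl
  rwa [wprod_reverse (genPerm_invol h), inv_eq_one] at h1

/-- A conjugate presentation of a relator: rotate left by `i`, possibly reversed. -/
def rotWord (w : List ℕ) (i : ℕ) (rev : Bool) : List ℕ :=
  let v := bif rev then w.reverse else w
  v.drop i ++ v.take i

/-- The list of rotations is as described by the hints. -/
def rotsOK (base : List (List ℕ)) : List (List ℕ) → List (ℕ × ℕ × Bool) → Bool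
  | [], [] => true
  | w :: l, (j, i, r) :: hs => wordEq w (rotWord (base.getD j []) i r) && rotsOK base l hs
  | _, _ => false

theorem wprod_rotWord {G : Type*} [Group G] {gen : ℕ → G} (hinv : ∀ x, gen x * gen x = 1) {w : List ℕ}
    (h : wprod gen w = 1) (i : ℕ) (r : Bool) : wprod gen (rotWord w i r) = 1 := by
  have key : ∀ v : List ℕ, wprod gen v = 1 → wprod gen (v.drop i ++ v.take i) = 1 := by
    intro v hv
    rw [wprod, List.map_append, List.prod_append]
    rw [wprod, ← List.take_append_drop i v, List.map_append, List.prod_append] at hv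
    exact mul_eq_one_comm.1 hv
  cases r
  · exact key w h
  · exact key w.reverse (by rw [wprod_reverse hinv, h, inv_one])

theorem rotsOK_spec {G : Type*} [Group G] {gen : ℕ → G} (hinv : ∀ x, gen x * gen x = 1)
    {base : List (List ℕ)} (hb : ∀ w ∈ base, wprod gen w = 1) :
    ∀ (l : List (List ℕ)) (hs : List (ℕ × ℕ × Bool)), rotsOK base l hs = true →
      ∀ w ∈ l, wprod gen w = 1 := by
  intro l
  induction l with
  | nil => intro hs _ w hw; exact absurd hw List.not_mem_nil
  | cons v l ih =>
    intro hs h w hw
    cases hs with
    | nil => simp [rotsOK] at h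
    | cons t hs =>
      obtain ⟨j, i, r⟩ := t
      simp only [rotsOK, Bool.and_eq_true] at h
      rcases List.mem_cons.1 hw with rfl | hw
      · rw [eq_of_wordEq h.1]
        refine wprod_rotWord hinv ?_ i r
        rw [List.getD_eq_getElem?_getD]
        cases hj : base[j]? with
        | none => simp [wprod]
        | some u => exact hb u (List.mem_of_getElem? hj)
      · exact ih hs h.2 w hw

/-- The main result: the table is the action on the cosets of `H`. -/
theorem exists_equiv {G : Type*} [Group G] {gen : ℕ → G} (hinv : ∀ x, gen x * gen x = 1)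
    (hgen : Subgroup.closure (gen '' {x | x < P.k}) = ⊤) {base : List (List ℕ)}
    (hbase : ∀ w ∈ base, wprod gen w = 1) {hints : List (ℕ × ℕ × Bool)}
    (hrots : rotsOK base P.rots.entries hints = true) {H : Subgroup G} {sw : List (List ℕ)}
    (hH : H = Subgroup.closure {g | ∃ w ∈ sw, g = wprod gen w})
    (hsubs : ∀ w ∈ P.subs, w ∈ sw ∨ w.reverse ∈ sw)
    {n : ℕ} {tree : List ℕ} {phases : List Phase} (hcert : checkCert P n tree phases = true)
    (htab : tableOK P n = true) (hfix0 : wordsFixBase P sw = true)
    (htree : treeOK P tree 0 = true) (hlen : tree.length + 1 = n)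
    (φ : G →* Equiv.Perm (Fin n)) (hφ : ∀ x < P.k, φ (gen x) = genPerm htab x) :
    ∃ e : G ⧸ H ≃ Fin n, (e ((1 : G) : G ⧸ H) : ℕ) = 0 ∧ ∀ (g : G) (q : G ⧸ H), e (g • q) = φ g (e q) := by
  have hn : 0 < n := by omega
  set z : Fin n := ⟨0, hn⟩ with hz
  have hφw : ∀ w : List ℕ, (w.all fun x => Nat.blt x P.k) = true → ∀ c : Fin n,
      (φ (wprod gen w.reverse) c : ℕ) = tact P w c := by
    intro w
    induction w with
    | nil => intro _ c; simp [wprod, tact_nil]
    | cons x w ih =>
      intro hw c
      rw [List.all_cons, Bool.and_eq_true, Nat.blt_eq] at hw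
      have e1 : wprod gen (x :: w).reverse = wprod gen w.reverse * gen x := by simp [wprod]
      rw [e1, map_mul, Equiv.Perm.mul_apply, ih hw.2, tact_cons, hφ x hw.1, genPerm_val htab hw.1]
  have hHfix : ∀ h ∈ H, φ h z = z := by
    intro h hh
    rw [hH] at hh
    induction hh using Subgroup.closure_induction with
    | mem g hg =>
      obtain ⟨w, hw, rfl⟩ := hg
      simp only [wordsFixBase, List.all_eq_true, Bool.and_eq_true, Nat.beq_eq] at hfix0
      obtain ⟨h1, h2⟩ := hfix0 w hw
      have h3 : φ (wprod gen w.reverse) z = z := Fin.ext (by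
        rw [hφw w (List.all_eq_true.2 h1)]; exact h2)
      rw [wprod_reverse hinv, map_inv] at h3
      exact (Equiv.Perm.inv_eq_iff_eq.1 h3).symm
    | one => simp
    | mul a b _ _ ha hb => rw [map_mul, Equiv.Perm.mul_apply, hb, ha]
    | inv a _ ha =>
      rw [map_inv]
      exact Equiv.Perm.inv_eq_iff_eq.2 ha.symm
  let ψ : G ⧸ H → Fin n := fun q => Quotient.liftOn' q (fun g => φ g z) fun a b hab => by
    have h : a⁻¹ * b ∈ H := QuotientGroup.leftRel_apply.1 hab
    have h2 := hHfix _ h
    calc φ a z = φ a (φ (a⁻¹ * b) z) := by rw [h2]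
      _ = φ b z := by rw [← Equiv.Perm.mul_apply, ← map_mul, mul_inv_cancel_left]
  have hψ : ∀ (g : G) (q : G ⧸ H), ψ (g • q) = φ g (ψ q) := by
    intro g q
    refine QuotientGroup.induction_on q fun a => ?_
    show φ (g * a) z = φ g (φ a z)
    rw [map_mul, Equiv.Perm.mul_apply]
  set q₀ : G ⧸ H := ((1 : G) : G ⧸ H) with hq₀
  have hψ0 : ψ q₀ = z := by show φ 1 z = z; simp
  have hstab : ∀ h ∈ H, h • q₀ = q₀ := fun h hh => by
    show ((h * 1 : G) : G ⧸ H) = ((1 : G) : G ⧸ H)
    rw [QuotientGroup.eq]; simpa using hh
  have hs : ∀ x (q : G ⧸ H), gen x • gen x • q = q := fun x q => by rw [smul_smul, hinv, one_smul]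
  obtain ⟨q, hq0, hq⟩ := checkCert_sound (P := P) (s := fun x q => gen x • q) (q₀ := q₀)
    (fun w hw q => by
      rw [act_eq_wprod, wprod_reverse hinv, rotsOK_spec hinv hbase _ _ hrots w hw, inv_one, one_smul])
    (fun w hw => by
      rw [act_eq_wprod]
      refine hstab _ ?_
      rcases hsubs w hw with h | h
      · rw [wprod_reverse hinv]
        exact inv_mem (hH ▸ Subgroup.subset_closure ⟨w, h, rfl⟩)
      · exact hH ▸ Subgroup.subset_closure ⟨w.reverse, h, rfl⟩)
    hs hcert
  have hk : 0 < P.k := by
    exact (tableOK_pos P htab).1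
  have hget : ∀ i < n * P.k, P.T.get i < n := by
    intro i hi
    have h := htab
    have := tableOK_spec P h hi
    simp only [Bool.and_eq_true, Nat.blt_eq] at this
    exact this.1
  have hψq : ∀ j, ∀ hj : j < n, ψ (q j) = ⟨j, hj⟩ := by
    intro j
    induction j using Nat.strong_induction_on with
    | _ j ih =>
      intro hj
      rcases Nat.eq_zero_or_pos j with rfl | hjpos
      · rw [hq0, hψ0]
      obtain ⟨e, he1, he2⟩ := treeOK_spec P tree 0 htree j hjpos (by omega)
      have hei : e < n * P.k := by
        rw [← Nat.div_lt_iff_lt_mul hk]; omega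
      have := hq e hei
      rw [he2] at this
      rw [← this, hψ, ih _ he1 (by omega), hφ _ (Nat.mod_lt _ hk)]
      refine Fin.ext ?_
      rw [genPerm_val htab (Nat.mod_lt _ hk)]
      show P.T.get (e / P.k * P.k + e % P.k) = j
      rw [Nat.div_add_mod' e P.k, he2]
  let qq : Fin n → G ⧸ H := fun c => q c
  have hsurj : Function.Surjective qq := by
    have hstep : ∀ x < P.k, ∀ t, t ∈ Set.range qq → gen x • t ∈ Set.range qq := by
      rintro x hx _ ⟨c, rfl⟩
      have hi : (c : ℕ) * P.k + x < n * P.k := by
        have : ((c : ℕ) + 1) * P.k ≤ n * P.k := Nat.mul_le_mul_right _ c.2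
        rw [Nat.add_mul, Nat.one_mul] at this
        omega
      have := hq _ hi
      rw [Nat.mul_comm (c : ℕ), Nat.mul_add_mod, Nat.mod_eq_of_lt hx, Nat.mul_add_div hk,
        Nat.div_eq_of_lt hx, Nat.add_zero] at this
      exact ⟨⟨_, hget _ (Nat.mul_comm (c : ℕ) _ ▸ hi)⟩, this.symm⟩
    have hall : ∀ g : G, (∀ t, t ∈ Set.range qq → g • t ∈ Set.range qq) ∧
        (∀ t, t ∈ Set.range qq → g⁻¹ • t ∈ Set.range qq) := by
      intro g
      have hg : g ∈ Subgroup.closure (gen '' {x | x < P.k}) := hgen ▸ Subgroup.mem_top g
      induction hg using Subgroup.closure_induction with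
      | mem y hy =>
        obtain ⟨x, hx, rfl⟩ := hy
        rw [inv_eq_of_mul_eq_one_right (hinv x)]
        exact ⟨hstep x hx, hstep x hx⟩
      | one => simp
      | mul a b _ _ ha hb =>
        exact ⟨fun t ht => by rw [mul_smul]; exact ha.1 _ (hb.1 t ht),
          fun t ht => by rw [mul_inv_rev, mul_smul]; exact hb.2 _ (ha.2 t ht)⟩
      | inv a _ ha => exact ⟨ha.2, by rw [inv_inv]; exact ha.1⟩
    intro t
    refine QuotientGroup.induction_on t fun g => ?_
    have h0 : q₀ ∈ Set.range qq := ⟨z, hq0⟩
    obtain ⟨c, hc⟩ := (hall g).1 q₀ h0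
    refine ⟨c, hc.trans ?_⟩
    show ((g * 1 : G) : G ⧸ H) = (g : G ⧸ H)
    rw [mul_one]
  refine ⟨{ toFun := ψ, invFun := qq, left_inv := fun t => ?_, right_inv := fun c => hψq c c.2 },
    by show (ψ q₀ : ℕ) = 0; rw [hψ0], hψ⟩
  obtain ⟨c, rfl⟩ := hsurj t
  show qq (ψ (qq c)) = qq c
  rw [show ψ (qq c) = c from hψq c c.2]

end

end Cfsg.Agent.CosetCert
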