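import Cfsg.Agent.Lib.Compute.CosetCardLe

/-!
Lower bounds on the order of the permutation group of a certified table, from a chain of base points.

Each level gives words fixing the earlier base points, a new base point and a tree of steps
`64 * t + j` (the image of a point `t` already reached under word `j`) which reaches `tree.length + 1`
different points.
-/

set_option autoImplicit false

namespace Cfsg.Agent.CosetCert

noncomputable section

/-- A level of a base chain. -/
structure BaseLevel where
  sw : List (List ℕ)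
  pt : ℕ
  tree : List ℕ

variable (P : Params)

/-- Grow a set of points along coded steps. -/
def reach (sw : List (List ℕ)) : List ℕ → ℕ → Option ℕ
  | [], m => some m
  | e :: l, m =>
    let u := tact P (sw.getD (e % 64) []) (e / 64)
    bif bit m (e / 64) && !(bit m u) then reach sw l (insBit m u) else none

/-- One level, given the earlier base points. -/
def levelGood (n : ℕ) (fixed : List ℕ) (L : BaseLevel) : Bool :=
  Nat.blt L.pt n && (L.sw.all fun w => w.all fun x => Nat.blt x P.k) &&
    (fixed.all fun t => L.sw.all fun w => Nat.beq (tact P w t) t) &&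
    (reach P L.sw L.tree (insBit 0 L.pt)).isSome

/-- The whole chain. -/
def chainGood (n : ℕ) : List ℕ → List BaseLevel → Bool
  | _, [] => true
  | fixed, L :: Ls => levelGood P n fixed L && chainGood n (L.pt :: fixed) Ls

/-- The product of the numbers of points reached. -/
def chainSize : List BaseLevel → ℕ
  | [] => 1
  | L :: Ls => (L.tree.length + 1) * chainSize Ls

/-- The base points, newest first. -/
def chainPts : List ℕ → List BaseLevel → List ℕ
  | fixed, [] => fixed
  | fixed, L :: Ls => chainPts (L.pt :: fixed) Ls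

/-- The word has letters below `k` and fixes the given points. -/
def wordFixPts (n : ℕ) (pts w : List ℕ) : Bool :=
  (w.all fun x => Nat.blt x P.k) && pts.all fun p => Nat.blt p n && Nat.beq (tact P w p) p

variable {P}

theorem reach_spec {sw : List (List ℕ)} {R : ℕ → Prop}
    (hR : ∀ t, R t → ∀ w ∈ sw, R (tact P w t)) :
    ∀ (l : List ℕ) (m m' : ℕ), (∀ t, bit m t = true → R t) → reach P sw l m = some m' →
      ∀ o : List ℕ, o.Nodup → (∀ t, bit m t = true ↔ t ∈ o) →
        ∃ o' : List ℕ, o'.Nodup ∧ (∀ t ∈ o', R t) ∧ o'.length = o.length + l.length := by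
  intro l
  induction l with
  | nil =>
    intro m m' hm _ o ho hmo
    exact ⟨o, ho, fun t ht => hm t ((hmo t).2 ht), by simp⟩
  | cons e l ih =>
    intro m m' hm hr o ho hmo
    rw [reach] at hr
    set u := tact P (sw.getD (e % 64) []) (e / 64) with hu
    cases hc : (bit m (e / 64) && !(bit m u)) with
    | false => simp [hc] at hr
    | true =>
      simp only [hc, cond_true] at hr
      simp only [Bool.and_eq_true, Bool.not_eq_true'] at hc
      have hRu : R u := by
        rw [hu, List.getD_eq_getElem?_getD]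
        cases hj : sw[e % 64]? with
        | none => exact hm _ hc.1
        | some w => exact hR _ (hm _ hc.1) w (List.mem_of_getElem? hj)
      have hnot : u ∉ o := fun h => by
        have := (hmo u).2 h
        rw [hc.2] at this
        exact Bool.noConfusion this
      obtain ⟨o', h1, h2, h3⟩ := ih (insBit m u) m'
        (fun t ht => (bit_insBit ht).elim (fun e => e ▸ hRu) (hm t)) hr (u :: o)
        (List.nodup_cons.2 ⟨hnot, ho⟩)
        (fun x => ⟨fun hx => (bit_insBit hx).elim (fun e => e ▸ List.mem_cons_self)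
            (fun e => List.mem_cons_of_mem _ ((hmo x).1 e)),
          fun hx => by
            rcases List.mem_cons.1 hx with rfl | hx
            · exact bit_insBit_self _ _
            · exact bit_insBit_of ((hmo x).2 hx)⟩)
      exact ⟨o', h1, h2, by simp only [List.length_cons] at h3 ⊢; omega⟩

/-- The permutations fixing a list of points. -/
def fixPts (n : ℕ) (bs : List ℕ) : Subgroup (Equiv.Perm (Fin n)) where
  carrier := {σ | ∀ i : Fin n, (i : ℕ) ∈ bs → σ i = i}
  one_mem' := fun _ _ => rfl
  mul_mem' := fun {a b} ha hb i hi => by rw [Equiv.Perm.mul_apply, hb i hi, ha i hi]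
  inv_mem' := fun {a} ha i hi => by
    conv_lhs => rw [← ha i hi]
    simp [Equiv.Perm.inv_def]

theorem mem_fixPts {n : ℕ} {bs : List ℕ} {σ : Equiv.Perm (Fin n)} :
    σ ∈ fixPts n bs ↔ ∀ i : Fin n, (i : ℕ) ∈ bs → σ i = i := Iff.rfl

theorem card_fix_split {n : ℕ} (K : Subgroup (Equiv.Perm (Fin n))) (bs : List ℕ) (t : Fin n) :
    Nat.card ↥(K ⊓ fixPts n bs) = (MulAction.orbit ↥(K ⊓ fixPts n bs) t).ncard *
      Nat.card ↥(K ⊓ fixPts n ((t : ℕ) :: bs)) := by
  have h := Subgroup.index_mul_card (MulAction.stabilizer ↥(K ⊓ fixPts n bs) t)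
  rw [MulAction.index_stabilizer] at h
  rw [← h]
  congr 1
  refine Nat.card_congr
    { toFun := fun g => ⟨g.1.1, g.1.2.1, fun i hi => ?_⟩
      invFun := fun g => ⟨⟨g.1, g.2.1, fun i hi => g.2.2 i (List.mem_cons_of_mem _ hi)⟩,
        g.2.2 t List.mem_cons_self⟩
      left_inv := fun _ => rfl
      right_inv := fun _ => rfl }
  rcases List.mem_cons.1 hi with hi | hi
  · rw [Fin.ext hi]
    exact g.2
  · exact g.1.2.2 i hi

variable {G : Type*} [Group G] {gen : ℕ → G}

/-- A homomorphism agreeing with the table evaluates words by the table. -/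
theorem hom_tact {n : ℕ} (htab : tableOK P n = true) (φ : G →* Equiv.Perm (Fin n))
    (hφ : ∀ x < P.k, φ (gen x) = genPerm htab x) :
    ∀ w : List ℕ, (w.all fun x => Nat.blt x P.k) = true → ∀ c : Fin n,
      (φ (wprod gen w.reverse) c : ℕ) = tact P w c := by
  intro w
  induction w with
  | nil => intro _ c; simp [wprod, tact_nil]
  | cons x w ih =>
    intro hw c
    rw [List.all_cons, Bool.and_eq_true, Nat.blt_eq] at hw
    have e1 : wprod gen (x :: w).reverse = wprod gen w.reverse * gen x := by simp [wprod]
    rw [e1, map_mul, Equiv.Perm.mul_apply, ih hw.2, tact_cons, hφ x hw.1, genPerm_val htab hw.1]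

theorem chain_le {n : ℕ} (htab : tableOK P n = true) (φ : G →* Equiv.Perm (Fin n))
    (hφ : ∀ x < P.k, φ (gen x) = genPerm htab x) :
    ∀ (Ls : List BaseLevel) (fixed : List ℕ), chainGood P n fixed Ls = true →
      chainSize Ls * Nat.card ↥(φ.range ⊓ fixPts n (chainPts fixed Ls)) ≤
        Nat.card ↥(φ.range ⊓ fixPts n fixed) := by
  intro Ls
  induction Ls with
  | nil => intro fixed _; simp [chainSize, chainPts]
  | cons L Ls ih =>
    intro fixed h
    simp only [chainGood, levelGood, Bool.and_eq_true, Nat.blt_eq] at h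
    obtain ⟨⟨⟨⟨ht, hlet⟩, hfix⟩, hreach⟩, hrest⟩ := h
    rw [card_fix_split φ.range fixed ⟨L.pt, ht⟩, chainSize, chainPts, mul_assoc]
    refine Nat.mul_le_mul ?_ (ih _ hrest)
    obtain ⟨m', hm'⟩ := Option.isSome_iff_exists.1 hreach
    set K := φ.range ⊓ fixPts n fixed with hK
    have hlt : ∀ w ∈ L.sw, (w.all fun x => Nat.blt x P.k) = true := fun w hw =>
      List.all_eq_true.1 hlet w hw
    have hmem : ∀ w ∈ L.sw, φ (wprod gen w.reverse) ∈ K := fun w hw =>
      ⟨⟨_, rfl⟩, fun i hi => Fin.ext (by
        simp only [List.all_eq_true, Nat.beq_eq] at hfix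
        rw [hom_tact htab φ hφ w (hlt w hw) i]
        exact hfix _ hi w hw)⟩
    obtain ⟨o', h1, h2, h3⟩ := reach_spec (P := P) (sw := L.sw)
      (R := fun t => ∃ i : Fin n, i ∈ MulAction.orbit K (⟨L.pt, ht⟩ : Fin n) ∧ (i : ℕ) = t)
      (fun t ⟨i, hi, hit⟩ w hw => ⟨(⟨_, hmem w hw⟩ : K) • i,
        MulAction.mem_orbit_of_mem_orbit _ hi, by
          rw [← hit]
          exact hom_tact htab φ hφ w (hlt w hw) i⟩)
      L.tree _ _ (fun t ht' => by
        rcases bit_insBit ht' with h | h
        · exact ⟨_, MulAction.mem_orbit_self _, h.symm⟩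
        · rw [bit_zero] at h; exact Bool.noConfusion h) hm' [L.pt] (List.nodup_singleton _)
      (fun t => ⟨fun ht' => by
          rcases bit_insBit ht' with h | h
          · exact h ▸ List.mem_singleton_self _
          · rw [bit_zero] at h; exact Bool.noConfusion h,
        fun ht' => by rw [List.mem_singleton.1 ht']; exact bit_insBit_self _ _⟩)
    rw [List.length_singleton] at h3
    rw [← Set.ncard_image_of_injective (MulAction.orbit K (⟨L.pt, ht⟩ : Fin n)) Fin.val_injective,
      show L.tree.length + 1 = o'.toFinset.card by rw [List.toFinset_card_of_nodup h1]; omega,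
      ← Set.ncard_coe_finset]
    refine Set.ncard_le_ncard (fun t ht' => ?_) (Set.toFinite _)
    obtain ⟨i, hi, hit⟩ := h2 t (List.mem_toFinset.1 ht')
    exact ⟨i, hi, hit⟩

/-- Upper and lower bounds agree: the order is known, the table is a faithful representation and the
base points already separate its elements. -/
theorem order_of_chain {n N : ℕ} (htab : tableOK P n = true) (φ : G →* Equiv.Perm (Fin n))
    (hφ : ∀ x < P.k, φ (gen x) = genPerm htab x) (hN : CardLe (⊤ : Subgroup G) N)
    {Ls : List BaseLevel} (hc : chainGood P n [] Ls = true) (hs : Nat.ble N (chainSize Ls) = true) :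
    Finite G ∧ Nat.card G = N ∧ Function.Injective φ ∧
      ∀ g : G, φ g ∈ fixPts n (chainPts [] Ls) → g = 1 := by
  obtain ⟨hfin, hle⟩ := hN.of_top
  have h1 := chain_le htab φ hφ Ls [] hc
  set d := Nat.card ↥(φ.range ⊓ fixPts n (chainPts [] Ls)) with hd
  have hd1 : 1 ≤ d := Nat.one_le_iff_ne_zero.2 Nat.card_pos.ne'
  have h2 : Nat.card ↥(φ.range ⊓ fixPts n []) ≤ Nat.card φ.range :=
    Nat.card_le_card_of_injective _ (Subgroup.inclusion_injective inf_le_left)
  have hsurj : Function.Surjective φ.rangeRestrict := φ.rangeRestrict_surjective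
  have h3 : Nat.card φ.range ≤ Nat.card G := Nat.card_le_card_of_surjective _ hsurj
  rw [Nat.ble_eq] at hs
  have hmul : chainSize Ls ≤ chainSize Ls * d := Nat.le_mul_of_pos_right _ hd1
  have heq : Nat.card G = N := by omega
  have hb : Function.Bijective φ.rangeRestrict :=
    (Nat.bijective_iff_surjective_and_card _).2 ⟨hsurj, by omega⟩
  have hinj : Function.Injective φ := fun a b hab => hb.1 (Subtype.ext hab)
  have hN0 : 0 < chainSize Ls := by
    have : 0 < Nat.card G := Nat.card_pos
    omega
  have hone : d = 1 := by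
    have : chainSize Ls * d ≤ chainSize Ls * 1 := by omega
    exact le_antisymm (Nat.le_of_mul_le_mul_left this hN0) hd1
  refine ⟨hfin, heq, hinj, fun g hg => ?_⟩
  have := Subgroup.eq_bot_of_card_eq (φ.range ⊓ fixPts n (chainPts [] Ls)) hone
  have h4 : φ g ∈ φ.range ⊓ fixPts n (chainPts [] Ls) := ⟨⟨g, rfl⟩, hg⟩
  rw [this, Subgroup.mem_bot] at h4
  exact hinj (h4.trans (map_one φ).symm)

/-- A word fixing the base points is trivial. -/
theorem wprod_eq_one_of_base {n : ℕ} (htab : tableOK P n = true) (hinv : ∀ x, gen x * gen x = 1)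
    {φ : G →* Equiv.Perm (Fin n)} (hφ : ∀ x < P.k, φ (gen x) = genPerm htab x) {pts : List ℕ}
    (hbase : ∀ g : G, φ g ∈ fixPts n pts → g = 1) {w : List ℕ} (hw : wordFixPts P n pts w = true) :
    wprod gen w = 1 := by
  simp only [wordFixPts, Bool.and_eq_true, List.all_eq_true, Nat.blt_eq, Nat.beq_eq] at hw
  have h1 : wprod gen w.reverse = 1 := hbase _ fun i hi => Fin.ext (by
    rw [hom_tact htab φ hφ w (by simpa [List.all_eq_true, Nat.blt_eq] using hw.1) i]
    exact (hw.2 i hi).2)
  rwa [wprod_reverse hinv, inv_eq_one] at h1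

/-- Two words agreeing on the base points are equal. -/
theorem wprod_eq_of_base {n : ℕ} (htab : tableOK P n = true) (hinv : ∀ x, gen x * gen x = 1)
    {φ : G →* Equiv.Perm (Fin n)} (hφ : ∀ x < P.k, φ (gen x) = genPerm htab x) {pts : List ℕ}
    (hbase : ∀ g : G, φ g ∈ fixPts n pts → g = 1) {u v : List ℕ}
    (hw : wordFixPts P n pts (u ++ v.reverse) = true) : wprod gen u = wprod gen v := by
  have := wprod_eq_one_of_base htab hinv hφ hbase hw
  have e : wprod gen (u ++ v.reverse) = wprod gen u * wprod gen v.reverse := by simp [wprod]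
  rw [e, wprod_reverse hinv] at this
  exact mul_inv_eq_one.1 this

end

end Cfsg.Agent.CosetCert
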