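import Cfsg.Agent.Lib.Compute.CosetCert

/-!
Checking a long auxiliary derivation in pieces.

An auxiliary phase whose pending equations have at most one letter each may be cut: the state at a cut
is stated with its equations packed into natural numbers, `a * 2 ^ 40 + b * 2 ^ 16 + c`, where `c = 0`
codes the empty word and `c = x + 1` the letter `x`.
-/

set_option autoImplicit false

namespace Cfsg.Agent.CosetCert

noncomputable section

/-- Unpack an equation. -/
def unpackEq (v : ℕ) : EqFact :=
  ⟨v / 1099511627776,
    bif Nat.beq (v % 65536) 0 then [] else [v % 65536 - 1],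
    v / 65536 % 16777216⟩

/-- Boolean equality of equations. -/
def eqFactEq (f g : EqFact) : Bool := Nat.beq f.a g.a && Nat.beq f.b g.b && wordEq f.w g.w

theorem eq_of_eqFactEq : ∀ {f g : EqFact}, eqFactEq f g = true → f = g
  | ⟨_, _, _⟩, ⟨_, _, _⟩, h => by
    simp only [eqFactEq, Bool.and_eq_true] at h
    obtain ⟨⟨h1, h2⟩, h3⟩ := h
    rw [Nat.eq_of_beq_eq_true h1, Nat.eq_of_beq_eq_true h2, eq_of_wordEq h3]

/-- The equations are the unpacking of the list. -/
def eqsAre : List EqFact → List ℕ → Bool
  | [], [] => true
  | f :: l, v :: L => eqFactEq f (unpackEq v) && eqsAre l L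
  | _, _ => false

theorem eq_of_eqsAre : ∀ {l : List EqFact} {L : List ℕ}, eqsAre l L = true → l = L.map unpackEq
  | [], [], _ => rfl
  | f :: l, v :: L, h => by
    simp only [eqsAre, Bool.and_eq_true] at h
    rw [List.map_cons, eq_of_eqFactEq h.1, eq_of_eqsAre h.2]
  | [], _ :: _, h => by simp [eqsAre] at h
  | _ :: _, [], h => by simp [eqsAre] at h

/-- The state has the given size, known edges and packed pending equations. -/
def stHas : Option St → ℕ → ℕ → List ℕ → Bool
  | some ⟨s, k, l⟩, n, m, L => Nat.beq s n && Nat.beq k m && eqsAre l L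
  | none, _, _, _ => false

/-- The state with unpacked equations. -/
def mkSt (n m : ℕ) (L : List ℕ) : St := ⟨n, m, L.map unpackEq⟩

theorem eq_of_stHas : ∀ {o : Option St} {n m : ℕ} {L : List ℕ}, stHas o n m L = true →
    o = some (mkSt n m L)
  | some ⟨s, k, l⟩, n, m, L, h => by
    simp only [stHas, Bool.and_eq_true] at h
    rw [Nat.eq_of_beq_eq_true h.1.1, Nat.eq_of_beq_eq_true h.1.2, eq_of_eqsAre h.2]
    rfl
  | none, _, _, _, h => by simp [stHas] at h

variable (P : Params)

/-- Entry `i` of a list of equations. (A bare recursor: cheap for the kernel.) -/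
def nth (l : List EqFact) : ℕ → Option EqFact :=
  List.rec (motive := fun _ => ℕ → Option EqFact) (fun _ => none)
    (fun a _ r i => Bool.rec (motive := fun _ => Option EqFact) (r (Nat.sub i 1)) (some a) (Nat.beq i 0)) l

theorem nth_eq : ∀ (l : List EqFact) (i : ℕ), nth l i = l[i]?
  | [], i => by simp [nth]
  | a :: l, 0 => by simp [nth]
  | a :: l, i + 1 => by
    show Bool.rec (motive := fun _ => Option EqFact) (nth l (Nat.sub (i + 1) 1)) (some a)
      (Nat.beq (i + 1) 0) = _
    rw [show Nat.beq (i + 1) 0 = false from rfl, show Nat.sub (i + 1) 1 = i from rfl]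
    simpa using nth_eq l i

/-- `chainEnd` with the faster lookup. -/
def chainEnd' (st : St) : List Link → ℕ → List ℕ → Option (ℕ × List ℕ)
  | [], a, w => some (a, w)
  | .edge x :: l, a, w =>
    bif Nat.blt x P.k && bit st.known (a * P.k + x) then chainEnd' st l (P.T.get (a * P.k + x)) (w ++ [x])
    else none
  | .fwd i :: l, a, w =>
    match nth st.eqs i with
    | some f => bif Nat.beq f.a a then chainEnd' st l f.b (w ++ f.w) else none
    | none => none
  | .bwd i :: l, a, w =>
    match nth st.eqs i with
    | some f => bif Nat.beq f.b a then chainEnd' st l f.a (w ++ f.w.reverse) else none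
    | none => none

theorem chainEnd'_eq (st : St) : ∀ (l : List Link) (a : ℕ) (w : List ℕ),
    chainEnd' P st l a w = chainEnd P st l a w := by
  intro l
  induction l with
  | nil => intro a w; simp [chainEnd, chainEnd']
  | cons t l ih =>
    intro a w
    cases t with
    | edge x => rw [chainEnd, chainEnd', ih]
    | fwd i => rw [chainEnd, chainEnd', nth_eq]; cases st.eqs[i]? <;> simp [ih]
    | bwd i => rw [chainEnd, chainEnd', nth_eq]; cases st.eqs[i]? <;> simp [ih]

/-- `auxStep` with the faster lookup. -/
def auxStep' (st : St) : Aux → Option St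
  | .node a x =>
    bif Nat.blt a st.size then
      some { size := st.size + 1, known := st.known, eqs := ⟨a, [x], st.size⟩ :: st.eqs }
    else none
  | .derive a ch w' y =>
    bif Nat.blt a st.size then
      match chainEnd' P st ch a [] with
      | some (b, w) =>
        bif whyOK P a (reduce (w ++ w'.reverse)) y then some { st with eqs := ⟨a, w', b⟩ :: st.eqs }
        else none
      | none => none
    else none
  | .commit i =>
    match nth st.eqs i with
    | some f =>
      match f.w with
      | [x] => addEdge P st f.a x f.b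
      | _ => none
    | none => none

theorem auxStep'_eq : auxStep' P = auxStep P := by
  funext st t
  cases t with
  | node a x => rfl
  | derive a ch w' y => rw [auxStep, auxStep', chainEnd'_eq]; rfl
  | commit i => rw [auxStep, auxStep', nth_eq]; rfl

/-- The pieces lead from the packed state to the end of an auxiliary derivation. -/
def AuxRun (N m : ℕ) (L : List ℕ) (l : List Aux) (N' m' : ℕ) : Prop :=
  (runList (auxStep P) l (mkSt N m L)).map (fun st' => { st' with eqs := [] }) = some ⟨N', m', []⟩

theorem auxRun_last {N m N' m' : ℕ} {L : List ℕ} {l : List Aux}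
    (h : stIs ((runList (auxStep' P) l (mkSt N m L)).map fun st' => { st' with eqs := [] }) N' m' = true) :
    AuxRun P N m L l N' m' := by
  rw [auxStep'_eq] at h
  exact eq_of_stIs h

theorem auxRun_append {N m N₁ m₁ N' m' : ℕ} {L L₁ : List ℕ} {u v : List Aux}
    (h : stHas (runList (auxStep' P) u (mkSt N m L)) N₁ m₁ L₁ = true)
    (h' : AuxRun P N₁ m₁ L₁ v N' m') : AuxRun P N m L (u ++ v) N' m' := by
  rw [auxStep'_eq] at h
  rw [AuxRun, runList_append _ u v _ _ (eq_of_stHas h)]
  exact h'

/-- A derivation checked in pieces, as a segment of one phase. -/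
theorem stIs_aux {N N' m m' : ℕ} {l : List Aux} (h : AuxRun P N m [] l N' m') :
    stIs (runList (phaseStep P) [.aux l] ⟨N, m, []⟩) N' m' = true := by
  have : phaseStep P ⟨N, m, []⟩ (.aux l) = some ⟨N', m', []⟩ := h
  simp [runList, this, stIs]

end

end Cfsg.Agent.CosetCert
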