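import Cfsg.Agent.Lib.Compute.CosetCardLe
import Cfsg.Agent.Lib.Compute.CosetPres

/-!
Certified tables of sub-diagrams used inside a larger group: chains of subgroups generated by some of
the generators, and homomorphisms out of presented groups.
-/

set_option autoImplicit false

namespace Cfsg.Agent.CosetCert

noncomputable section

/-- The generators selected by a list of numbers. -/
def pick {G : Type*} (gen : ℕ → G) (emb : List ℕ) (x : ℕ) : G := gen (emb.getD x 0)

theorem wprod_pick {G : Type*} [Group G] (gen : ℕ → G) (emb : List ℕ) (w : List ℕ) :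
    wprod (pick gen emb) w = wprod gen (w.map fun x => emb.getD x 0) := by
  rw [wprod, wprod, List.map_map]
  rfl

/-- The relators of the small table are relators of the big one. -/
def relsIn (base : List (List ℕ)) (emb : List ℕ) (big : List (List ℕ)) : Bool :=
  base.all fun w => big.any fun u =>
    wordEq (w.map fun x => emb.getD x 0) u || wordEq (w.map fun x => emb.getD x 0) u.reverse

theorem rels_of_relsIn {G : Type*} [Group G] {gen : ℕ → G} (hinv : ∀ x, gen x * gen x = 1)
    {big : List (List ℕ)} (hbig : ∀ w ∈ big, wprod gen w = 1) {base : List (List ℕ)} {emb : List ℕ}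
    (h : relsIn base emb big = true) : ∀ w ∈ base, wprod (pick gen emb) w = 1 := by
  intro w hw
  simp only [relsIn, List.all_eq_true, List.any_eq_true, Bool.or_eq_true] at h
  obtain ⟨u, hu, he | he⟩ := h w hw <;> rw [wprod_pick, eq_of_wordEq he]
  · exact hbig u hu
  · rw [wprod_reverse hinv, hbig u hu, inv_one]

/-- Each subgroup word is one of the smaller generators. -/
def swIn (sw : List (List ℕ)) (emb emb' : List ℕ) : Bool :=
  sw.all fun w => (List.range emb'.length).any fun y =>
    wordEq (w.map fun x => emb.getD x 0) [emb'.getD y 0]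

/-- One step of a chain of subgroups. -/
theorem cardLe_step {G : Type*} [Group G] {gen : ℕ → G} (hinv : ∀ x, gen x * gen x = 1)
    {big : List (List ℕ)} (hbig : ∀ w ∈ big, wprod gen w = 1) {P : Params} {emb emb' : List ℕ}
    {base : List (List ℕ)} (hrel : relsIn base emb big = true) {hints : List (ℕ × ℕ × Bool)}
    (hrots : rotsOK base P.rots.entries hints = true) {sw : List (List ℕ)}
    (hsw : swIn sw emb emb' = true)
    (hsubs : (P.subs.all fun w => sw.any fun u => wordEq w u || wordEq w.reverse u) = true)
    {n : ℕ} {tree : List ℕ} {phases : List Phase} (hcert : checkCert P n tree phases = true)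
    (htab : tableOK P n = true) {m : ℕ}
    (hm : CardLe (Subgroup.closure (pick gen emb' '' {x | x < emb'.length})) m)
    (hk : Nat.beq P.k emb.length = true) :
    CardLe (Subgroup.closure (pick gen emb '' {x | x < emb.length})) (n * m) := by
  rw [← Nat.eq_of_beq_eq_true hk]
  refine cardLe_of_cert (gen := pick gen emb) (fun x => hinv _) (rels_of_relsIn hinv hbig hrel)
    hrots (fun w hw => ?_) hsubs hcert htab hm
  simp only [swIn, List.all_eq_true, List.any_eq_true, List.mem_range] at hsw
  obtain ⟨y, hy, he⟩ := hsw w hw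
  rw [wprod_pick, eq_of_wordEq he]
  refine Subgroup.subset_closure ⟨y, hy, ?_⟩
  simp [wprod, pick]

theorem cardLe_pick_nil {G : Type*} [Group G] (gen : ℕ → G) :
    CardLe (Subgroup.closure (pick gen [] '' {x | x < ([] : List ℕ).length})) 1 := by
  refine cardLe_bot.mono ?_
  rw [Subgroup.closure_le]
  rintro _ ⟨x, hx, rfl⟩
  exact absurd hx (by simp)

variable {α : Type} [DecidableEq α] (S : Setup α)

/-- Involutions satisfying the base relators receive a homomorphism from the presented group. -/
theorem Setup.exists_hom {H : Type} [Group H] (f : ℕ → H) (hinv : ∀ x, f x * f x = 1)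
    (hb : ∀ w ∈ S.base, wprod f w = 1) :
    ∃ ψ : S.G →* H, ∀ x < S.P.k, ψ (S.gen x) = f x := by
  let F : α → H := fun a => f (S.ix a)
  have hrels : ∀ r ∈ Cfsg.Spor.coxRelators S.edges ∪ {r | r ∈ S.extra}, FreeGroup.lift F r = 1 := by
    intro r hr
    rcases hr with ⟨a, -, b, -, rfl⟩ | hr
    · rw [map_pow, map_mul, FreeGroup.lift_apply_of, FreeGroup.lift_apply_of]
      by_cases hab : a = b
      · subst hab; rw [coxLabel_self, pow_one]; exact hinv _
      have h := S.pairs
      simp only [pairsOK, List.all_eq_true, Bool.and_eq_true, Bool.or_eq_true, Nat.beq_eq,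
        List.any_eq_true, List.mem_range] at h
      rcases (h _ (S.ix_lt a)).2 _ (S.ix_lt b) with h1 | ⟨w, hw, he⟩
      · exact absurd (by rw [← S.gi_ix a, h1, S.gi_ix]) hab
      have h2 : wprod f (pairWord S.edges S.gi (S.ix a) (S.ix b)) = 1 := by
        rcases he with he | he <;> rw [eq_of_wordEq he]
        · exact hb w hw
        · rw [wprod_reverse hinv, hb w hw, inv_one]
      rw [pairWord, S.gi_ix, S.gi_ix, wprod_rep, wprod_cons, wprod_cons, wprod_nil, mul_one] at h2
      exact h2
    · have key := S.spec F (fun a => hinv _)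
      obtain ⟨t, ht, rfl⟩ := List.getElem_of_mem hr
      have ht' : t < S.extraW.length := key.length_eq ▸ ht
      have h1 := List.Forall₂.get key ht ht'
      simp only [List.get_eq_getElem] at h1
      rw [h1]
      have h := S.extras
      simp only [extraOK, List.all_eq_true, List.any_eq_true] at h
      obtain ⟨w, hw, he⟩ := h _ (List.getElem_mem ht')
      rw [eq_of_wordEq he]
      refine Eq.trans ?_ (hb w hw)
      have hlt := (S.fix_base w hw).1
      simp only [List.all_eq_true, Nat.blt_eq] at hlt
      show ((w.map fun x => F (S.gi x))).prod = (w.map f).prod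
      rw [List.map_congr_left fun x hx => by
        show f (S.ix (S.gi x)) = f x
        rw [S.ix_gi x (hlt x hx)]]
  refine ⟨PresentedGroup.toGroup hrels, fun x hx => ?_⟩
  rw [Setup.gen, PresentedGroup.toGroup.of]
  exact congrArg f (S.ix_gi x hx)

/-- Certified index, base point and equivariant bijection. -/
theorem Setup.exists_equiv_base {H : Subgroup S.G} {sw : List (List ℕ)}
    (hH : H = Subgroup.closure {g | ∃ w ∈ sw, g = wprod S.gen w})
    (hsubs : (S.P.subs.all fun w => sw.any fun u => wordEq w u || wordEq w.reverse u) = true)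
    {hints : List (ℕ × ℕ × Bool)} (hrots : rotsOK S.base S.P.rots.entries hints = true)
    {tree : List ℕ} {phases : List Phase} (hcert : checkCert S.P S.n tree phases = true)
    (hfix0 : wordsFixBase S.P sw = true) (htree : treeOK S.P tree 0 = true)
    (hlen : tree.length + 1 = S.n) :
    H.index = S.n ∧ ∃ e : S.G ⧸ H ≃ Fin S.n, (e ((1 : S.G) : S.G ⧸ H) : ℕ) = 0 ∧
      ∀ (g : S.G) (q : S.G ⧸ H), e (g • q) = S.hom g (e q) := by
  simp only [List.all_eq_true, List.any_eq_true, Bool.or_eq_true] at hsubs
  obtain ⟨e, he0, he⟩ := CosetCert.exists_equiv S.gen_invol S.closure_gen S.base_one hrots hH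
    (fun w hw => by
      obtain ⟨u, hu, h⟩ := hsubs w hw
      rcases h with h | h
      · exact Or.inl (eq_of_wordEq h ▸ hu)
      · exact Or.inr (eq_of_wordEq h ▸ hu))
    hcert S.tab hfix0 htree hlen S.hom S.hom_gen
  refine ⟨?_, e, he0, he⟩
  rw [Subgroup.index, Nat.card_congr e, Nat.card_fin]

theorem map_wprod {G H : Type*} [Group G] [Group H] (ψ : G →* H) (gen : ℕ → G) (w : List ℕ) :
    ψ (wprod gen w) = wprod (fun x => ψ (gen x)) w := by
  rw [wprod, wprod, map_list_prod, List.map_map]
  rfl

theorem wprod_congr {G : Type*} [Group G] {f g : ℕ → G} {w : List ℕ} (h : ∀ x ∈ w, f x = g x) :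
    wprod f w = wprod g w := by
  rw [wprod, wprod, List.map_congr_left h]

end

end Cfsg.Agent.CosetCert
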