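import Cfsg.Agent.Lib.Compute.PermCert

/-!
Boolean checks for the extension of a coded permutation group induced from a central extension of one of
its subgroups, and for a word showing that its kernel meets the commutator subgroup.
-/

set_option autoImplicit false

namespace Cfsg.Agent.PermInd

open Cfsg.Agent.PermCert

/-- Two words with the same letters and the same value, the class of the kernel element they give, and the
exponent at each coset. -/
structure IndTest where
  wordA : List ℕ
  wordB : List ℕ
  t1 : ℕ
  t2 : ℕ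
  wit : List (List ℕ)

/-- The certificate data. -/
structure IndData where
  wE : ℕ
  nE : ℕ
  d : ℕ
  q : ℕ
  q2 : ℕ
  m : ℕ
  eGens : List Elt
  eDerived : List (Elt × List ℕ)
  eLevels : List CLevel
  uGens : List Elt
  uDerived : List (Elt × List ℕ)
  uLevels : List CLevel
  z : Elt
  z2 : Elt
  x0 : ℕ
  lifts : List Elt
  reps : List (List ℕ)
  tree : List (List ℕ)
  moves : List (List (List ℕ))
  tests : List IndTest

/-- An entry of a list stored in blocks of 64. -/
def getC (l : List (List ℕ)) (i : ℕ) : ℕ := (l.getD (i / 64) []).getD (i % 64) 0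

variable (w n : ℕ) (gens : List Elt) (levels : List CLevel) (d : IndData)

/-- The move of a generator on a coset: the new coset and the index of the lift. -/
def move (g i : ℕ) : ℕ × ℕ :=
  (getC (d.moves.getD g []) i / d.lifts.length, getC (d.moves.getD g []) i % d.lifts.length)

/-- Iterate a code at a point. -/
def iterPoint (e : ℕ) : ℕ → ℕ → ℕ
  | 0, x => x
  | c + 1, x => get d.wE e (iterPoint e c x)

/-- The image of the distinguished point under a listed element of the kernel. -/
def pointAt (c : ℕ) : ℕ := iterPoint d d.z.1 (c % d.q) (iterPoint d d.z2.1 (c / d.q) d.x0)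

/-- A code is a central element of the kernel with the stated exponent. -/
def centralOK (e : Elt) (k : ℕ) : Bool :=
  validElt d.wE d.nE e && sift d.wE d.nE d.eLevels e.1 &&
  allBelow (fun x => Nat.beq (get d.wE e.1 (d.d + x)) (d.d + x)) n &&
  d.eGens.all (fun g => allBelow (fun x =>
    Nat.beq (get d.wE e.1 (get d.wE g.1 x)) (get d.wE g.1 (get d.wE e.1 x))) d.nE) &&
  allBelow (fun x => Nat.beq (iterPoint d e.1 k x) x) d.nE

/-- The parent of a coset in the tree. -/
def parent (i : ℕ) : ℕ × ℕ := (getC d.tree i / gens.length, getC d.tree i % gens.length)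

/-- The subgroup, its extension and the central element. -/
def baseOK : Bool :=
  checkCert d.wE d.nE d.eGens d.eDerived d.eLevels && checkCert w n d.uGens d.uDerived d.uLevels &&
  Nat.beq d.nE (d.d + n) && Nat.blt 0 d.q && Nat.blt 0 d.q2 && Nat.blt 0 n &&
  Nat.beq d.eGens.length d.uGens.length && d.uGens.all (fun e => sift w n levels e.1) &&
  allBelow (fun k => allBelow (fun x => Nat.beq (get d.wE (d.eGens.getD k (0, 0)).1 (d.d + x))
    (d.d + get w (d.uGens.getD k (0, 0)).1 x)) n) d.eGens.length &&
  centralOK n d d.z d.q && centralOK n d d.z2 d.q2 && Nat.blt d.x0 d.nE &&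
  allBelow (fun c => Nat.beq c 0 || !Nat.beq (pointAt d c) d.x0) (d.q * d.q2) &&
  Nat.beq (certOrder d.eLevels) (d.q * d.q2 * certOrder d.uLevels) &&
  Nat.beq (certOrder levels) (d.m * certOrder d.uLevels) &&
  d.lifts.all (fun e => validElt d.wE d.nE e && sift d.wE d.nE d.eLevels e.1) && Nat.blt 0 d.lifts.length &&
  Nat.blt 0 d.m && allBelow (fun x => Nat.beq (get w (getC d.reps 0) x) x) n &&
  Nat.blt 0 gens.length

/-- The tree and the table of moves at one coset. -/
def cosetOK (i : ℕ) : Bool :=
  (Nat.beq i 0 || (Nat.blt (parent gens d i).1 i &&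
    allBelow (fun x => Nat.beq (get w (getC d.reps i) x)
      (get w (gens.getD (parent gens d i).2 (0, 0)).1 (get w (getC d.reps (parent gens d i).1) x))) n)) &&
  allBelow (fun g =>
    let r := move d g i
    Nat.blt r.1 d.m &&
      allBelow (fun x => Nat.beq (get w (gens.getD g (0, 0)).1 (get w (getC d.reps i) x))
        (get w (getC d.reps r.1) (get d.wE (d.lifts.getD r.2 (0, 0)).1 (d.d + x) - d.d))) n) gens.length

/-- The coset reached and the image of a point under the lifts along a word. -/
def walk : List ℕ → ℕ → ℕ → ℕ × ℕ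
  | [], i, x => (i, x)
  | g :: u, i, x =>
    let r := walk u i x
    let mv := move d g r.1
    (mv.1, get d.wE (d.lifts.getD mv.2 (0, 0)).1 r.2)

/-- The recorded element of the kernel at one coset is right. -/
def witOK (T : IndTest) (i : ℕ) : Bool :=
  Nat.blt (getC T.wit i) (d.q * d.q2) &&
    Nat.beq (walk d T.wordA i d.x0).2 (walk d T.wordB i (pointAt d (getC T.wit i))).2

/-- Sums of the exponents of the two central elements. -/
def witSum (T : IndTest) : ℕ → ℕ × ℕ
  | 0 => (0, 0)
  | i + 1 => let r := witSum T i; (r.1 + getC T.wit i % d.q, r.2 + getC T.wit i / d.q)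

/-- Two words and their class. -/
def wordsOK (T : IndTest) : Bool :=
  T.wordB.isPerm T.wordA && T.wordA.all (fun g => Nat.blt g gens.length) &&
  allBelow (fun x => Nat.beq (T.wordA.foldr (fun g y => get w (gens.getD g (0, 0)).1 y) x)
    (T.wordB.foldr (fun g y => get w (gens.getD g (0, 0)).1 y) x)) n &&
  Nat.beq ((witSum d T d.m).1 % d.q) T.t1 && Nat.beq ((witSum d T d.m).2 % d.q2) T.t2

/-- The classes of the tests generate the two units. -/
def spanOK : Bool :=
  let combo (i j : ℕ) : ℕ × ℕ :=
    let A := d.tests.getD 0 ⟨[], [], 0, 0, []⟩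
    let B := d.tests.getD 1 ⟨[], [], 0, 0, []⟩
    ((i * A.t1 + j * B.t1) % d.q, (i * A.t2 + j * B.t2) % d.q2)
  let hit (t : ℕ × ℕ) : Bool :=
    (List.range (d.q * d.q2)).any fun i => (List.range (d.q * d.q2)).any fun j => combo i j == t
  hit (1 % d.q, 0) && hit (0, 1 % d.q2) && Nat.blt 0 d.tests.length && Nat.ble d.tests.length 2

end Cfsg.Agent.PermInd
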