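import Cfsg.Agent.Lib.Compute.SchurSpec
import Cfsg.Agent.Lib.Compute.LightCert
import Mathlib.GroupTheory.OrderOfElement

/-!
The base check of a prime part certificate without evaluating Schreier conditions: the rules of a
polycyclic sequence bound the order of the subgroup from above, the light chain from below.
-/

set_option autoImplicit false

namespace Cfsg.Agent.PermSchur

open Cfsg.Agent.PermCert

section Upper

variable {G : Type*} [Group G] [Finite G]

/-- A sequence in which every element normalises the group of the later ones and has its `p`-th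
power there generates a group of order at most a power of `p`. -/
theorem card_tail_le {p : ℕ} (hp : 0 < p) (f : ℕ → G) (len : ℕ)
    (hpow : ∀ j < len, f j ^ p ∈ Subgroup.closure {x | ∃ q, j < q ∧ q < len ∧ x = f q})
    (hconj : ∀ i < len, ∀ j < i, (f j)⁻¹ * f i * f j ∈ Subgroup.closure {x | ∃ q, j < q ∧ q < len ∧ x = f q}) :
    ∀ m ≤ len, Nat.card (Subgroup.closure {x | ∃ q, len - m ≤ q ∧ q < len ∧ x = f q}) ≤ p ^ m := by
  intro m
  induction m with
  | zero =>
    intro _
    have h : {x : G | ∃ q, len - 0 ≤ q ∧ q < len ∧ x = f q} = ∅ := by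
      ext x
      simp only [Set.mem_ofPred_eq, Set.mem_empty_iff_false, iff_false, not_exists, not_and]
      intro q h1 h2
      omega
    rw [h]
    simp
  | succ m ih =>
    intro hm
    set j := len - (m + 1) with hj
    have hjlt : j < len := by omega
    have hset : {x : G | ∃ q, len - m ≤ q ∧ q < len ∧ x = f q} = {x | ∃ q, j < q ∧ q < len ∧ x = f q} := by
      ext x
      exact ⟨fun ⟨q, h1, h2, h3⟩ => ⟨q, by omega, h2, h3⟩, fun ⟨q, h1, h2, h3⟩ => ⟨q, by omega, h2, h3⟩⟩
    have ih := ih (by omega)
    rw [hset] at ih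
    set H := Subgroup.closure {x : G | ∃ q, j < q ∧ q < len ∧ x = f q}
    set K := Subgroup.closure {x : G | ∃ q, j ≤ q ∧ q < len ∧ x = f q}
    have hgen : ∀ q, j < q → q < len → f q ∈ H := fun q h1 h2 => Subgroup.subset_closure ⟨q, h1, h2, rfl⟩
    have hc : ∀ h ∈ H, (f j)⁻¹ * h * f j ∈ H := by
      intro h hh
      induction hh using Subgroup.closure_induction with
      | mem x hx =>
        obtain ⟨q, h1, h2, rfl⟩ := hx
        exact hconj q h2 j h1
      | one => simp
      | mul x y _ _ hx hy =>
        rw [show (f j)⁻¹ * (x * y) * f j = (f j)⁻¹ * x * f j * ((f j)⁻¹ * y * f j) by group]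
        exact mul_mem hx hy
      | inv x _ hx =>
        rw [show (f j)⁻¹ * x⁻¹ * f j = ((f j)⁻¹ * x * f j)⁻¹ by group]
        exact inv_mem hx
    have hmem : ∀ x ∈ K, ∃ e : Fin p, ∃ h : H, x = f j ^ (e : ℕ) * h := by
      intro x hx
      rw [← Subgroup.mem_toSubmonoid, Subgroup.closure_toSubmonoid_of_finite] at hx
      induction hx using Submonoid.closure_induction_right with
      | one => exact ⟨⟨0, hp⟩, 1, by simp⟩
      | mul_right x _ y hy ihx =>
        obtain ⟨⟨e, he⟩, ⟨h, hh⟩, rfl⟩ := ihx
        obtain ⟨q, h1, h2, rfl⟩ := hy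
        rcases Nat.eq_or_lt_of_le h1 with hq | hq
        · subst hq
          rcases Nat.lt_or_ge (e + 1) p with h3 | h3
          · exact ⟨⟨e + 1, h3⟩, ⟨_, hc h hh⟩, by simp only; group⟩
          · refine ⟨⟨0, hp⟩, ⟨f j ^ p * ((f j)⁻¹ * h * f j), mul_mem (hpow j hjlt) (hc h hh)⟩, ?_⟩
            simp only [pow_zero, one_mul]
            rw [show p = e + 1 by omega]
            group
        · exact ⟨⟨e, he⟩, ⟨h * f q, mul_mem hh (hgen q hq h2)⟩, by simp only; rw [mul_assoc]⟩
    have hle : H ≤ K := Subgroup.closure_mono fun x ⟨q, h1, h2, h3⟩ => ⟨q, by omega, h2, h3⟩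
    have hjK : f j ∈ K := Subgroup.subset_closure ⟨j, le_rfl, hjlt, rfl⟩
    refine le_trans (Nat.card_le_card_of_surjective
      (fun z : Fin p × H => (⟨f j ^ (z.1 : ℕ) * z.2, mul_mem (pow_mem hjK _) (hle z.2.2)⟩ : K))
      fun y => ?_) ?_
    · obtain ⟨e, h, he⟩ := hmem y y.2
      exact ⟨(e, h), Subtype.ext he.symm⟩
    · rw [Nat.card_prod, Nat.card_fin, pow_succ']
      exact Nat.mul_le_mul_left _ ih

end Upper

variable (w n : ℕ) (d : SchurData)

/-- The rules are those of a polycyclic sequence ordered by index. -/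
def seqLight : Bool :=
  allBelow (fun i =>
    (d.pow.getD i []).all (fun q => Nat.blt i q) &&
    allBelow (fun j =>
      match (d.comm.getD i []).getD j [] with
      | [] => false
      | x :: rest => Nat.beq x j && rest.all (fun q => Nat.blt j q)) i) d.a.length

/-- The base check without the chain of the Sylow subgroup. -/
def baseRest (levels : List CLevel) : Bool :=
  Nat.blt 1 d.p && d.a.all (fun e => sift w n levels e.1) &&
  allBelow (fun i => sameC w n (List.replicate d.p (d.a.getD i (0, 0)).1) (wcodes d (d.pow.getD i [])) &&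
    (d.pow.getD i []).all (fun q => Nat.blt q d.a.length) &&
    allBelow (fun j => sameC w n (wcodes d [i, j]) (wcodes d ((d.comm.getD i []).getD j [])) &&
      ((d.comm.getD i []).getD j []).all (fun q => Nat.blt q d.a.length)) i &&
    (coll d (List.replicate (d.ords.getD i 1) i)).1 == [] && Nat.blt 0 (d.ords.getD i 1)) d.a.length &&
  d.fus.all (fun F => validElt w n F.g && sift w n levels F.g.1 && Nat.beq F.src.length F.img.length &&
    allBelow (fun i => sameC w n (F.g.1 :: wcodes d (F.src.getD i [])) (wcodes d (F.img.getD i []) ++ [F.g.1]) &&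
      (F.src.getD i []).all (fun q => Nat.blt q d.a.length) &&
      (F.img.getD i []).all (fun q => Nat.blt q d.a.length)) F.src.length) &&
  Nat.beq d.nv (fusBase d d.fus.length)

variable {w n d}

/-- The permutations of a word of generators. -/
def permVal (w n : ℕ) (d : SchurData) : ℕ → Equiv.Perm (Fin n) := fun q => toPerm w n (d.a.getD q (0, 0))

theorem appC_wcodes (hv : ∀ e ∈ d.a, validElt w n e = true) : ∀ (u : List ℕ), (∀ q ∈ u, q < d.a.length) →
    ∀ i : Fin n, appC w (wcodes d u) i = (val (permVal w n d) u i : ℕ)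
  | [], _, i => by simp [wcodes, appC, val]
  | q :: u, hu, i => by
    have hq : d.a.getD q (0, 0) ∈ d.a := by
      rw [List.getD_eq_getElem _ _ (hu q List.mem_cons_self)]
      exact List.getElem_mem _
    show get w (d.a.getD q (0, 0)).1 (appC w (wcodes d u) i) = _
    rw [appC_wcodes hv u (fun a ha => hu a (List.mem_cons_of_mem _ ha)) i, val_cons,
      ((rep_toPerm (hv _ hq)) _).1]
    rfl

theorem val_eq_of_sameC (hv : ∀ e ∈ d.a, validElt w n e = true) {u v : List ℕ}
    (hu : ∀ q ∈ u, q < d.a.length) (hv' : ∀ q ∈ v, q < d.a.length)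
    (h : sameC w n (wcodes d u) (wcodes d v) = true) :
    val (permVal w n d) u = val (permVal w n d) v := by
  ext i
  have := allBelow_spec _ _ h i i.2
  rw [Nat.beq_eq, appC_wcodes hv u hu i, appC_wcodes hv v hv' i] at this
  exact this

theorem card_genGroup_le [NeZero n] (hv : ∀ e ∈ d.a, validElt w n e = true) (hp : 0 < d.p)
    (hs : seqLight d = true) {levels : List CLevel} (hr : baseRest w n d levels = true) :
    Nat.card (genGroup w n d.a) ≤ d.p ^ d.a.length := by
  simp only [baseRest, Bool.and_eq_true] at hr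
  obtain ⟨⟨⟨-, hrules⟩, -⟩, -⟩ := hr
  have hall := allBelow_spec _ _ hrules
  have hseq := allBelow_spec _ _ hs
  have hmem : ∀ (j : ℕ) (u : List ℕ), (∀ q ∈ u, q < d.a.length) → (∀ q ∈ u, j < q) →
      val (permVal w n d) u ∈ Subgroup.closure {x | ∃ q, j < q ∧ q < d.a.length ∧ x = permVal w n d q} := by
    intro j u h1 h2
    refine Subgroup.list_prod_mem _ fun y hy => ?_
    obtain ⟨q, hq, rfl⟩ := List.mem_map.1 hy
    exact Subgroup.subset_closure ⟨q, h2 q hq, h1 q hq, rfl⟩
  have key := card_tail_le hp (permVal w n d) d.a.length (fun j hj => ?_) (fun i hi j hj => ?_) d.a.length le_rfl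
  · refine le_trans (le_of_eq ?_) key
    have hset : {x : Equiv.Perm (Fin n) | x ∈ d.a.map (toPerm w n)} =
        {x | ∃ q, d.a.length - d.a.length ≤ q ∧ q < d.a.length ∧ x = permVal w n d q} := by
      ext x
      simp only [Set.mem_ofPred_eq, List.mem_map]
      constructor
      · rintro ⟨e, he, rfl⟩
        obtain ⟨q, hq, rfl⟩ := List.mem_iff_getElem.1 he
        exact ⟨q, by omega, hq, by rw [permVal, List.getD_eq_getElem _ _ hq]⟩
      · rintro ⟨q, -, hq, rfl⟩
        exact ⟨_, List.getElem_mem hq, by rw [permVal, List.getD_eq_getElem _ _ hq]⟩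
    rw [genGroup, hset]
  · have h := hall j hj
    simp only [Bool.and_eq_true, List.all_eq_true, Nat.blt_eq] at h
    obtain ⟨⟨⟨⟨hsame, hlt⟩, -⟩, -⟩, -⟩ := h
    have h2 := hseq j hj
    simp only [Bool.and_eq_true, List.all_eq_true, Nat.blt_eq] at h2
    have he : wcodes d (List.replicate d.p j) = List.replicate d.p (d.a.getD j (0, 0)).1 := by simp [wcodes]
    have := val_eq_of_sameC hv (u := List.replicate d.p j) (v := d.pow.getD j [])
      (fun q hq => (List.eq_of_mem_replicate hq) ▸ hj) hlt (he ▸ hsame)
    rw [show permVal w n d j ^ d.p = val (permVal w n d) (List.replicate d.p j) by simp [val], this]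
    exact hmem j _ hlt h2.1
  · have h := hall i hi
    simp only [Bool.and_eq_true, List.all_eq_true, Nat.blt_eq] at h
    obtain ⟨⟨⟨-, hcomm⟩, -⟩, -⟩ := h
    have hc := allBelow_spec _ _ hcomm j hj
    simp only [Bool.and_eq_true, List.all_eq_true, Nat.blt_eq] at hc
    have h2 := hseq i hi
    simp only [Bool.and_eq_true] at h2
    have hc2 := allBelow_spec _ _ h2.2 j hj
    generalize hw : (d.comm.getD i []).getD j [] = u at hc hc2
    cases u with
    | nil => simp at hc2
    | cons x rest =>
      simp only [Bool.and_eq_true, List.all_eq_true, Nat.blt_eq, Nat.beq_eq] at hc2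
      obtain ⟨rfl, hrest⟩ := hc2
      have := val_eq_of_sameC hv (u := [i, x]) (v := x :: rest)
        (fun q hq => by rcases List.mem_cons.1 hq with rfl | hq
                        · exact hi
                        · rw [List.mem_singleton.1 hq]; omega) hc.2 hc.1
      rw [val_cons, val_cons, val_cons, show val (permVal w n d) [] = 1 from rfl, mul_one] at this
      rw [mul_assoc, this, inv_mul_cancel_left]
      exact hmem x rest (fun q hq => hc.2 q (List.mem_cons_of_mem _ hq)) hrest

/-- The base check from the light chain. -/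
theorem schurBase_of_light [NeZero n] {levels : List CLevel}
    (hl : lightCert w n d.a d.derived d.levels = true) (hs : seqLight d = true)
    (hr : baseRest w n d levels = true) (ho : d.p ^ d.a.length = certOrder d.levels) :
    schurBaseOK w n d levels = true := by
  have hl' := hl
  simp only [lightCert, Bool.and_eq_true, List.all_eq_true] at hl'
  have hv : ∀ e ∈ d.a, validElt w n e = true := hl'.1.1.1.1.2
  have hr' := hr
  simp only [baseRest, Bool.and_eq_true, Nat.blt_eq] at hr'
  have hc := checkCert_of_light hl (ho ▸ card_genGroup_le hv (by omega) hs hr)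
  simp only [schurBaseOK, Bool.and_eq_true, Nat.blt_eq]
  exact ⟨⟨⟨⟨⟨hr'.1.1.1.1, hc⟩, hr'.1.1.1.2⟩, hr'.1.1.2⟩, hr'.1.2⟩, hr'.2⟩

end Cfsg.Agent.PermSchur
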