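import Cfsg.Agent.Lib.Compute.PermCert

/-!
Boolean checks bounding one prime part of the Schur multiplier of a coded permutation group: words in
a polycyclic sequence of a Sylow subgroup are collected with one formal tail for each rule, and the
tails satisfy the linear relations coming from associativity and from conjugation inside the group.
-/

set_option autoImplicit false

namespace Cfsg.Agent.PermSchur

open Cfsg.Agent.PermCert

/-- A conjugating element with words and the words of their images. -/
structure Fusion where
  g : Elt
  src : List (List ℕ)
  img : List (List ℕ)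

/-- A relation: two associations of three words, or two products in the domain of a conjugation. -/
inductive Rel where
  | assoc (a b c : List ℕ)
  | fuse (pair : ℕ) (f g : List ℕ)

/-- The certificate data for one prime. -/
structure SchurData where
  p : ℕ
  a : List Elt
  derived : List (Elt × List ℕ)
  levels : List CLevel
  pow : List (List ℕ)
  comm : List (List (List ℕ))
  ords : List ℕ
  fus : List Fusion
  nv : ℕ
  rels : List Rel
  rows : List (ℕ × List ℤ × List (ℕ × ℤ))
  gs : List (List ℕ × List ℤ)
  elts : List (List ℕ × List ℤ)
  commWit : List (List (List ℕ))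
  conjWit : List (List (List ℕ))
  ext : List (List ℤ)

variable (w n : ℕ) (d : SchurData)

/-- The variable of the commutation rule of two generators. -/
def commVar (k j i : ℕ) : ℕ := k + j * (j - 1) / 2 + i

/-- One rewriting step: the first descent or `p`-th power. -/
def step : List ℕ → Option (List ℕ × ℕ)
  | [] => none
  | x :: rest =>
    let pw : Option (List ℕ × ℕ) :=
      if rest.take (d.p - 1) == List.replicate (d.p - 1) x && Nat.blt 0 d.p then
        some (d.pow.getD x [] ++ rest.drop (d.p - 1), x)
      else none
    let here : Option (List ℕ × ℕ) :=
      match rest with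
      | [] => pw
      | y :: rest' =>
        if Nat.blt y x then some ((d.comm.getD x []).getD y [] ++ rest', commVar d.a.length x y) else pw
    match here with
    | some r => some r
    | none => match step rest with
      | some (v, q) => some (x :: v, q)
      | none => none

/-- Collection with a bound on the number of steps: the final word and the tails used. -/
def collect : ℕ → List ℕ → List ℕ × List ℕ
  | 0, u => (u, [])
  | fuel + 1, u => match step d u with
    | none => (u, [])
    | some (v, q) => let r := collect fuel v; (r.1, q :: r.2)

/-- Collection. -/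
def coll (u : List ℕ) : List ℕ × List ℕ := collect d 1000000 u

/-- Entrywise sum. -/
def vadd : List ℤ → List ℤ → List ℤ
  | [], v => v
  | u, [] => u
  | x :: u, y :: v => (x + y) :: vadd u v

/-- Entrywise multiple. -/
def vsmul (c : ℤ) (u : List ℤ) : List ℤ := u.map fun x => c * x

/-- Entrywise difference. -/
def vsub (u v : List ℤ) : List ℤ := vadd u (vsmul (-1) v)

/-- Add one at a position. -/
def bump : ℕ → List ℤ → List ℤ
  | 0, [] => [1]
  | q + 1, [] => 0 :: bump q []
  | 0, x :: u => (x + 1) :: u
  | q + 1, x :: u => x :: bump q u

/-- The exponent vector of a list of tails. -/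
def counts : List ℕ → List ℤ
  | [] => List.replicate d.nv 0
  | q :: qs => bump q (counts qs)

/-- The codes of a word. -/
def wcodes (u : List ℕ) : List ℕ := u.map fun i => (d.a.getD i (0, 0)).1

/-- Entry-by-entry application of a list of codes, the last code first. -/
def appC (cs : List ℕ) (i : ℕ) : ℕ := cs.foldr (fun c x => get w c x) i

/-- Two lists of codes act equally. -/
def sameC (as bs : List ℕ) : Bool := allBelow (fun i => Nat.beq (appC w as i) (appC w bs i)) n

/-- The words of the listed sources or images. -/
def words (L : List (List ℕ)) (f : List ℕ) : List ℕ := f.flatMap fun i => L.getD i []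

/-- The first variable of a conjugation. -/
def fusBase (t : ℕ) : ℕ :=
  d.a.length + d.a.length * (d.a.length - 1) / 2 + ((d.fus.take t).map fun F => F.src.length).sum

/-- The image variables of a product. -/
def fusVars (t : ℕ) (f : List ℕ) : List ℕ := f.map fun i => fusBase d t + i

/-- The validity condition of a relation and its vector. -/
def relVec : Rel → Bool × List ℤ
  | .assoc a b c =>
    let A := coll d (a ++ b)
    let B := coll d (b ++ c)
    let X := coll d (A.1 ++ c)
    let Y := coll d (a ++ B.1)
    (X.1 == Y.1, vsub (counts d (A.2 ++ X.2)) (counts d (B.2 ++ Y.2)))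
  | .fuse t f g =>
    let F := d.fus.getD t ⟨(0, 0), [], []⟩
    let A := coll d (words F.src f)
    let A' := coll d (words F.src g)
    let B := coll d (words F.img f)
    let B' := coll d (words F.img g)
    (Nat.blt t d.fus.length && f.all (fun i => Nat.blt i F.src.length) &&
      g.all (fun i => Nat.blt i F.src.length) && A.1 == A'.1 && B.1 == B'.1,
      vsub (counts d (fusVars d t f ++ B.2 ++ A'.2)) (counts d (fusVars d t g ++ B'.2 ++ A.2)))

/-- A combination of relation vectors. -/
def combine (eqs : List (List ℤ)) : List (ℕ × ℤ) → List ℤ
  | [] => List.replicate d.nv 0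
  | e :: es => vadd (vsmul e.2 (eqs.getD e.1 [])) (combine eqs es)

/-- Reduction by the certified rows. -/
def reduce : List (ℕ × List ℤ × List (ℕ × ℤ)) → List ℤ → List ℤ
  | [], v => v
  | r :: rs, v =>
    cond (v.getD r.1 0 / r.2.1.getD r.1 1 == 0) (reduce rs v)
      (reduce rs (vsub v (vsmul (v.getD r.1 0 / r.2.1.getD r.1 1) r.2.1)))

/-- The reduced form of a collected word with further tails. -/
def normal (u : List ℕ) (v : List ℤ) : List ℕ × List ℤ :=
  let r := coll d u
  (r.1, reduce d.rows (vadd (counts d r.2) v))

/-- The inverse of a generator: a word and tails. -/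
def invGen (i : ℕ) : List ℕ × List ℤ :=
  (List.replicate (d.ords.getD i 1 - 1) i, vsmul (-1) (counts d (coll d (List.replicate (d.ords.getD i 1) i)).2))

/-- The product of listed generators of the derived group. -/
def gsProd : List ℕ → List ℕ × List ℤ
  | [] => ([], List.replicate d.nv 0)
  | s :: ss => let r := gsProd ss; ((d.gs.getD s ([], [])).1 ++ r.1, vadd (d.gs.getD s ([], [])).2 r.2)

/-- The rules hold in the group and the Sylow subgroup is generated by the sequence. -/
def schurBaseOK (levels : List CLevel) : Bool :=
  Nat.blt 1 d.p && checkCert w n d.a d.derived d.levels && d.a.all (fun e => sift w n levels e.1) &&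
  allBelow (fun i => sameC w n (List.replicate d.p (d.a.getD i (0, 0)).1) (wcodes d (d.pow.getD i [])) &&
    (d.pow.getD i []).all (fun q => Nat.blt q d.a.length) &&
    allBelow (fun j => sameC w n (wcodes d [i, j]) (wcodes d ((d.comm.getD i []).getD j [])) &&
      ((d.comm.getD i []).getD j []).all (fun q => Nat.blt q d.a.length)) i &&
    (coll d (List.replicate (d.ords.getD i 1) i)).1 == [] && Nat.blt 0 (d.ords.getD i 1)) d.a.length &&
  d.fus.all (fun F => validElt w n F.g && sift w n levels F.g.1 && Nat.beq F.src.length F.img.length &&
    allBelow (fun i => sameC w n (F.g.1 :: wcodes d (F.src.getD i [])) (wcodes d (F.img.getD i []) ++ [F.g.1]) &&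
      (F.src.getD i []).all (fun q => Nat.blt q d.a.length) &&
      (F.img.getD i []).all (fun q => Nat.blt q d.a.length)) F.src.length) &&
  Nat.beq d.nv (fusBase d d.fus.length)

/-- The relations and the rows derived from them. -/
def rowsOK : Bool :=
  d.rels.all (fun r => (relVec d r).1) &&
  (let eqs := d.rels.map fun r => (relVec d r).2
   d.rows.all fun r => r.2.2.all (fun e => Nat.blt e.1 eqs.length) && combine d eqs r.2.2 == r.2.1)

/-- The derived group of the preimage of the Sylow subgroup. -/
def derivedOK : Bool :=
  d.elts.any (fun t => t == normal d [] []) &&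
  d.gs.all (fun s => s.1.all fun q => Nat.blt q d.a.length) &&
  d.elts.all (fun t => d.gs.all fun s => d.elts.any fun t' => normal d (t.1 ++ s.1) (vadd t.2 s.2) == t') &&
  allBelow (fun i =>
    allBelow (fun j =>
      let I := invGen d i
      let J := invGen d j
      let W := gsProd d ((d.commWit.getD i []).getD j [])
      ((d.commWit.getD i []).getD j []).all (fun q => Nat.blt q d.gs.length) &&
        normal d (i :: j :: (I.1 ++ J.1)) (vadd I.2 J.2) == normal d W.1 W.2) i &&
    allBelow (fun s =>
      let I := invGen d i
      let W := gsProd d ((d.conjWit.getD i []).getD s [])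
      ((d.conjWit.getD i []).getD s []).all (fun q => Nat.blt q d.gs.length) &&
        normal d ((i :: (d.gs.getD s ([], [])).1) ++ I.1) (vadd (d.gs.getD s ([], [])).2 I.2) == normal d W.1 W.2)
      d.gs.length) d.a.length &&
  d.elts.all (fun t => t.1.all (fun q => Nat.blt q d.a.length) &&
    (!sameC w n (wcodes d t.1) [] ||
      (t.1 == [] && (t.2 == reduce d.rows (List.replicate d.nv 0) || d.ext.contains t.2))))

end Cfsg.Agent.PermSchur
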