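import Cfsg.Agent.Lib.Compute.SchurSpec

/-!
A faster form of the derived group check: vectors of tails are projected to a few listed coordinates.
Each variable carries the certificate that it agrees with its image modulo the certified rows.
-/

set_option autoImplicit false
set_option maxHeartbeats 1000000

namespace Cfsg.Agent.PermSchur

open Cfsg.Agent.PermCert
open scoped commutatorElement IsMulCommutative

/-- Coordinates, images of the variables with witnesses, and relations between the coordinates. -/
structure FastData where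
  cols : List ℕ
  img : List (List ℤ × List (ℕ × ℤ))
  small : List (ℕ × List ℤ × List (ℕ × ℤ))

/-- The full vector of a vector of coordinates. -/
def embed (d : SchurData) : List ℕ → List ℤ → List ℤ
  | c :: cs, x :: xs => vadd (vsmul x (bump c [])) (embed d cs xs)
  | _, _ => List.replicate d.nv 0

/-- The coordinates of a list of tails. -/
def proj (FD : FastData) : List ℕ → List ℤ
  | [] => List.replicate FD.cols.length 0
  | q :: qs => vadd (FD.img.getD q ([], [])).1 (proj FD qs)

variable (w n : ℕ) (d : SchurData) (FD : FastData)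

/-- The reduced coordinates of a collected word with further tails. -/
def normal2 (u : List ℕ) (v : List ℤ) : List ℕ × List ℤ :=
  let r := coll d u
  (r.1, reduce FD.small (vadd (proj FD r.2) v))

/-- The inverse of a generator, in coordinates. -/
def invGen2 (i : ℕ) : List ℕ × List ℤ :=
  (List.replicate (d.ords.getD i 1 - 1) i, vsmul (-1) (proj FD (coll d (List.replicate (d.ords.getD i 1) i)).2))

/-- The product of listed generators, in coordinates. -/
def gsProd2 : List ℕ → List ℕ × List ℤ
  | [] => ([], [])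
  | s :: ss => let r := gsProd2 ss; ((d.gs.getD s ([], [])).1 ++ r.1, vadd (d.gs.getD s ([], [])).2 r.2)

/-- The coordinates are certified. -/
def projOK : Bool :=
  Nat.beq FD.img.length d.nv &&
  allBelow (fun q =>
    (FD.img.getD q ([], [])).2.all (fun c => Nat.blt c.1 d.rows.length) &&
      vsub (bump q (List.replicate d.nv 0)) (embed d FD.cols (FD.img.getD q ([], [])).1) ==
        combine d (d.rows.map fun r => r.2.1) (FD.img.getD q ([], [])).2) d.nv &&
  FD.small.all (fun r => r.2.2.all (fun c => Nat.blt c.1 d.rows.length) &&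
    embed d FD.cols r.2.1 == combine d (d.rows.map fun r => r.2.1) r.2.2)

/-- The derived group of the preimage of the Sylow subgroup. -/
def derivedFast : Bool :=
  d.elts.any (fun t => t == normal2 d FD [] []) &&
  d.gs.all (fun s => s.1.all fun q => Nat.blt q d.a.length) &&
  d.elts.all (fun t => d.gs.all fun s => d.elts.any fun t' => normal2 d FD (t.1 ++ s.1) (vadd t.2 s.2) == t') &&
  allBelow (fun i =>
    allBelow (fun j =>
      let I := invGen2 d FD i
      let J := invGen2 d FD j
      let W := gsProd2 d ((d.commWit.getD i []).getD j [])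
      ((d.commWit.getD i []).getD j []).all (fun q => Nat.blt q d.gs.length) &&
        normal2 d FD (i :: j :: (I.1 ++ J.1)) (vadd I.2 J.2) == normal2 d FD W.1 W.2) i &&
    allBelow (fun s =>
      let I := invGen2 d FD i
      let W := gsProd2 d ((d.conjWit.getD i []).getD s [])
      ((d.conjWit.getD i []).getD s []).all (fun q => Nat.blt q d.gs.length) &&
        normal2 d FD ((i :: (d.gs.getD s ([], [])).1) ++ I.1) (vadd (d.gs.getD s ([], [])).2 I.2) == normal2 d FD W.1 W.2)
      d.gs.length) d.a.length &&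
  d.elts.all (fun t => t.1.all (fun q => Nat.blt q d.a.length) &&
    (!sameC w n (wcodes d t.1) [] ||
      (t.1 == [] && (t.2 == reduce FD.small (List.replicate FD.cols.length 0) || d.ext.contains t.2))))

section Coord

variable {A : Type*} [CommGroup A] {d}

/-- The values at the coordinates. -/
def gOf (f : ℕ → A) : List ℕ → ℕ → A
  | [], _ => 1
  | c :: _, 0 => f c
  | _ :: cs, k + 1 => gOf f cs k

theorem ev_embed (f : ℕ → A) : ∀ (cs : List ℕ) (xs : List ℤ), ev f (embed d cs xs) = ev (gOf f cs) xs
  | [], [] => by simp [embed, ev_zero, ev]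
  | c :: cs, [] => by simp [embed, ev_zero, ev]
  | [], x :: xs => by
    have h := ev_embed f [] xs
    simp only [embed, ev_zero] at h ⊢
    rw [ev, show gOf f [] 0 = (1 : A) from rfl, one_zpow, one_mul]
    exact h
  | c :: cs, x :: xs => by
    rw [embed, ev_vadd, ev_vsmul, ev_bump, ev_embed f cs xs]
    simp only [ev, mul_one]
    rfl

end Coord

variable {w n d FD} {Γ : Type*} [Group Γ] {ξ : Γ →* Equiv.Perm (Fin n)} {lift gl : ℕ → Γ}
  (hker : ξ.ker ≤ Subgroup.center Γ) (hL : Lifts w n d ξ lift gl) {levels : List CLevel}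
  (hb : schurBaseOK w n d levels = true) (hr : rowsOK d = true)
  (hrel : d.rels.all (fun r => match r with
    | .assoc a b c => (a ++ b ++ c).all (fun q => Nat.blt q d.a.length) | .fuse .. => true) = true)
  (he : projOK d FD = true)

/-- The value of a word with a vector of coordinates. -/
noncomputable def tot2 (d : SchurData) (FD : FastData) (ξ : Γ →* Equiv.Perm (Fin n)) (lift gl : ℕ → Γ)
    (u : List ℕ × List ℤ) : Γ :=
  tot d ξ lift gl (u.1, embed d FD.cols u.2)

theorem tot2_def (u : List ℕ × List ℤ) : tot2 d FD ξ lift gl u =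
    val lift u.1 * (ev (gOf (tail d ξ lift gl) FD.cols) u.2 : Subgroup.center Γ) := by
  rw [tot2, tot, ev_embed]

theorem tot2_mul (u u' : List ℕ) (v v' : List ℤ) :
    tot2 d FD ξ lift gl (u ++ u', vadd v v') = tot2 d FD ξ lift gl (u, v) * tot2 d FD ξ lift gl (u', v') := by
  simp only [tot2_def, val_append, ev_vadd, Subgroup.coe_mul]
  rw [mul_assoc, mul_assoc, ← mul_assoc (val lift u'),
    Subgroup.mem_center_iff.1 (ev (gOf (tail d ξ lift gl) FD.cols) v).2 (val lift u'), mul_assoc]

include hker hL hb

theorem tail_eq_one {q : ℕ} (hq : d.nv ≤ q) : tail d ξ lift gl q = 1 := by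
  have hnv : d.nv = fusBase d d.fus.length := by
    simp only [schurBaseOK, Bool.and_eq_true, Nat.beq_eq] at hb
    exact hb.2
  have hlen : (tailList d lift gl).length = d.nv := by
    rw [hnv, fusBase, tailList, List.length_append, List.length_append, List.length_map, List.length_range,
      comm_length, List.take_length, List.length_flatten, List.map_map]
    congr 2
    refine List.ext_getElem (by simp) fun k h1 h2 => ?_
    simp at h1 h2
    simp [List.getElem?_eq_getElem (show k < d.fus.length by omega)]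
  have h : (tailList d lift gl).getD q 1 = 1 := List.getD_eq_default _ _ (by omega)
  exact Subtype.ext (tail_val h (one_mem _))

include hr hrel he

theorem proj_sound : ∀ qs : List ℕ,
    ev (gOf (tail d ξ lift gl) FD.cols) (proj FD qs) = (qs.map (tail d ξ lift gl)).prod
  | [] => by simp [proj, ev_zero]
  | q :: qs => by
    simp only [projOK, Bool.and_eq_true, Nat.beq_eq] at he
    rw [proj, ev_vadd, proj_sound qs, List.map_cons, List.prod_cons]
    congr 1
    rcases Nat.lt_or_ge q d.nv with hq | hq
    · have h := allBelow_spec _ _ he.1.2 q hq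
      simp only [Bool.and_eq_true, List.all_eq_true, Nat.blt_eq, beq_iff_eq] at h
      have e2 := congrArg (ev (tail d ξ lift gl)) h.2
      rw [ev_vsub, ev_bump, ev_zero, mul_one, ev_embed,
        ev_combine d _ (fun v hv => by
          obtain ⟨r, hr', rfl⟩ := List.mem_map.1 hv
          exact rows_sound hker hL hb hr hrel r hr') _ (by simpa using h.1), div_eq_one] at e2
      exact e2.symm
    · rw [List.getD_eq_default _ _ (by omega), tail_eq_one hker hL hb hq]
      rfl

theorem small_sound : ∀ r ∈ FD.small, ev (gOf (tail d ξ lift gl) FD.cols) r.2.1 = 1 := by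
  intro r hr'
  simp only [projOK, Bool.and_eq_true, List.all_eq_true, Nat.blt_eq, beq_iff_eq] at he
  obtain ⟨h1, h2⟩ := he.2 r hr'
  rw [← ev_embed (d := d), h2]
  exact ev_combine d _ (fun v hv => by
    obtain ⟨r', hr'', rfl⟩ := List.mem_map.1 hv
    exact rows_sound hker hL hb hr hrel r' hr'') _ (by simpa using h1)

theorem normal2_sound {u : List ℕ} {v : List ℤ} (hu : ∀ q ∈ u, q < d.a.length) :
    tot2 d FD ξ lift gl (normal2 d FD u v) = tot2 d FD ξ lift gl (u, v) := by
  rw [tot2_def, tot2_def, (coll_sound hker hL hb hu).2]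
  simp only [normal2, ev_reduce _ FD.small (small_sound hker hL hb hr hrel he), ev_vadd,
    proj_sound hker hL hb hr hrel he, ev_counts, Subgroup.coe_mul, mul_assoc]

theorem invGen2_sound {i : ℕ} (hi : i < d.a.length) :
    (∀ q ∈ (invGen2 d FD i).1, q < d.a.length) ∧ tot2 d FD ξ lift gl (invGen2 d FD i) = (lift i)⁻¹ := by
  obtain ⟨h1, h2⟩ := invGen_sound hker hL hb hr hrel hi
  refine ⟨h1, ?_⟩
  rw [← h2, tot2_def]
  simp only [tot, invGen, invGen2, ev_vsmul, proj_sound hker hL hb hr hrel he, ev_counts]

/-- The value of a listed generator of the derived group. -/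
theorem gsProd2_sound (hgs : ∀ s ∈ d.gs, ∀ q ∈ s.1, q < d.a.length) :
    ∀ ss : List ℕ, (∀ s ∈ ss, s < d.gs.length) →
      (∀ q ∈ (gsProd2 d ss).1, q < d.a.length) ∧
      tot2 d FD ξ lift gl (gsProd2 d ss) ∈ Submonoid.closure {x | ∃ s ∈ d.gs, x = tot2 d FD ξ lift gl s} := by
  intro ss
  induction ss with
  | nil =>
    intro _
    refine ⟨by simp [gsProd2], ?_⟩
    have : tot2 d FD ξ lift gl (gsProd2 d []) = 1 := by simp [tot2_def, gsProd2, val, ev]
    rw [this]
    exact one_mem _
  | cons s ss ih =>
    intro hss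
    obtain ⟨h1, h2⟩ := ih fun a ha => hss a (List.mem_cons_of_mem _ ha)
    have hs := hss s List.mem_cons_self
    have hmem : d.gs.getD s ([], []) ∈ d.gs := by rw [List.getD_eq_getElem _ _ hs]; exact List.getElem_mem hs
    refine ⟨fun q hq => ?_, ?_⟩
    · simp only [gsProd2, List.mem_append] at hq
      exact hq.elim (hgs _ hmem q) (h1 q)
    · show tot2 d FD ξ lift gl ((d.gs.getD s ([], [])).1 ++ (gsProd2 d ss).1,
        vadd (d.gs.getD s ([], [])).2 (gsProd2 d ss).2) ∈ _
      rw [tot2_mul]
      exact mul_mem (Submonoid.subset_closure ⟨_, hmem, rfl⟩) h2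

variable (hd : derivedFast w n d FD = true) [Finite Γ]

include hd

/-- Commutators in the preimage of the Sylow subgroup lying in the kernel are listed. -/
theorem derived_ker2 {P : Subgroup Γ}
    (hP : ∀ x ∈ P, ∃ u : List ℕ, (∀ q ∈ u, q < d.a.length) ∧ ξ x = ξ (val lift u))
    {z : Γ} (hz : z ∈ ⁅P, P⁆) (hzk : ξ z = 1) :
    z = 1 ∨ ∃ v ∈ d.ext, z = (ev (gOf (tail d ξ lift gl) FD.cols) v : Subgroup.center Γ) := by
  simp only [derivedFast, Bool.and_eq_true, List.all_eq_true, List.any_eq_true, beq_iff_eq, Nat.blt_eq] at hd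
  obtain ⟨⟨⟨⟨⟨t0, ht0, h0⟩, hgs⟩, hclos⟩, hwit⟩, helts⟩ := hd
  set T := {x : Γ | ∃ t ∈ d.elts, x = tot2 d FD ξ lift gl t}
  set H := Subgroup.closure {x | ∃ s ∈ d.gs, x = tot2 d FD ξ lift gl s}
  have h1T : (1 : Γ) ∈ T := ⟨t0, ht0, by
    rw [h0, normal2_sound hker hL hb hr hrel he (u := []) (by simp)]
    simp [tot2_def, val, ev_zero, ev]⟩
  have hHT : ∀ x ∈ H, x ∈ T := by
    intro x hx
    let M : Submonoid Γ :=
      { carrier := {y | ∀ t ∈ T, t * y ∈ T}
        one_mem' := fun t ht => by rwa [mul_one]
        mul_mem' := fun {a b} ha hb t ht => by rw [← mul_assoc]; exact hb _ (ha t ht) }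
    have hgen : {x | ∃ s ∈ d.gs, x = tot2 d FD ξ lift gl s} ⊆ (M : Set Γ) := by
      rintro _ ⟨s, hs, rfl⟩ _ ⟨t, ht, rfl⟩
      obtain ⟨t', ht', het⟩ := hclos t ht s hs
      refine ⟨t', ht', ?_⟩
      rw [← het, normal2_sound hker hL hb hr hrel he]
      · exact (tot2_mul (d := d) (FD := FD) (ξ := ξ) (lift := lift) (gl := gl) t.1 s.1 t.2 s.2).symm
      · intro q hq
        exact (List.mem_append.1 hq).elim ((helts t ht).1 q) (hgs s hs q)
    have hx' : x ∈ (Submonoid.closure {x | ∃ s ∈ d.gs, x = tot2 d FD ξ lift gl s} : Set Γ) := by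
      rw [← closure_carrier]; exact hx
    simpa using Submonoid.closure_le.2 hgen hx' 1 h1T
  have hsub : ∀ {x : Γ}, x ∈ Submonoid.closure {x | ∃ s ∈ d.gs, x = tot2 d FD ξ lift gl s} → x ∈ H :=
    fun {x} hx => by
      have : x ∈ (H : Set Γ) := by rw [closure_carrier]; exact hx
      exact this
  have hcommH : ∀ i < d.a.length, ∀ j < i, ⁅lift i, lift j⁆ ∈ H := by
    intro i hi j hj
    have h := allBelow_spec _ _ (Bool.and_eq_true _ _ |>.mp (allBelow_spec _ _ hwit i hi)).1 j hj
    simp only [Bool.and_eq_true, List.all_eq_true, Nat.blt_eq, beq_iff_eq] at h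
    obtain ⟨hI, eI⟩ := invGen2_sound hker hL hb hr hrel he hi
    obtain ⟨hJ, eJ⟩ := invGen2_sound hker hL hb hr hrel he (hj.trans hi)
    obtain ⟨hW, hmem⟩ := gsProd2_sound hker hL hb hr hrel he hgs _ h.1
    have e := congrArg (tot2 d FD ξ lift gl) h.2
    rw [normal2_sound hker hL hb hr hrel he (fun q hq => by
        simp only [List.mem_cons, List.mem_append] at hq
        rcases hq with rfl | rfl | hq | hq
        exacts [hi, hj.trans hi, hI q hq, hJ q hq]),
      normal2_sound hker hL hb hr hrel he hW] at e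
    have e2 : tot2 d FD ξ lift gl (i :: j :: ((invGen2 d FD i).1 ++ (invGen2 d FD j).1), vadd (invGen2 d FD i).2 (invGen2 d FD j).2) =
        lift i * (lift j * tot2 d FD ξ lift gl ((invGen2 d FD i).1 ++ (invGen2 d FD j).1, vadd (invGen2 d FD i).2 (invGen2 d FD j).2)) := by
      simp [tot2_def, val_cons, mul_assoc]
    rw [e2, tot2_mul, show ((invGen2 d FD i).1, (invGen2 d FD i).2) = invGen2 d FD i from rfl,
      show ((invGen2 d FD j).1, (invGen2 d FD j).2) = invGen2 d FD j from rfl, eI, eJ] at e
    rw [commutatorElement_def, show lift i * lift j * (lift i)⁻¹ * (lift j)⁻¹ =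
      lift i * (lift j * ((lift i)⁻¹ * (lift j)⁻¹)) by group, e]
    exact hsub hmem
  have hconjH : ∀ i < d.a.length, ∀ x ∈ H, lift i * x * (lift i)⁻¹ ∈ H := by
    intro i hi
    have hle : H ≤ H.comap (MulAut.conj (lift i)).toMonoidHom := by
      refine (Subgroup.closure_le _).2 ?_
      rintro _ ⟨s, hs, rfl⟩
      obtain ⟨k, hk, rfl⟩ := List.mem_iff_getElem.1 hs
      have h := allBelow_spec _ _ (Bool.and_eq_true _ _ |>.mp (allBelow_spec _ _ hwit i hi)).2 k hk
      simp only [Bool.and_eq_true, List.all_eq_true, Nat.blt_eq, beq_iff_eq, List.getD_eq_getElem _ _ hk] at h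
      obtain ⟨hI, eI⟩ := invGen2_sound hker hL hb hr hrel he hi
      obtain ⟨hW, hmem⟩ := gsProd2_sound hker hL hb hr hrel he hgs _ h.1
      have e := congrArg (tot2 d FD ξ lift gl) h.2
      rw [normal2_sound hker hL hb hr hrel he (fun q hq => by
          simp only [List.mem_cons, List.cons_append, List.mem_append] at hq
          rcases hq with rfl | hq | hq
          exacts [hi, hgs _ hs q hq, hI q hq]),
        normal2_sound hker hL hb hr hrel he hW, tot2_mul,
        show ((invGen2 d FD i).1, (invGen2 d FD i).2) = invGen2 d FD i from rfl, eI] at e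
      show lift i * tot2 d FD ξ lift gl d.gs[k] * (lift i)⁻¹ ∈ H
      rw [show lift i * tot2 d FD ξ lift gl d.gs[k] = tot2 d FD ξ lift gl (i :: d.gs[k].1, d.gs[k].2) by
        simp [tot2_def, val_cons, mul_assoc], e]
      exact hsub hmem
    exact fun x hx => hle hx
  have hcg : ∀ i < d.a.length, ∀ j < d.a.length, ⁅lift i, lift j⁆ ∈ H := by
    intro i hi j hj
    rcases lt_trichotomy j i with h | h | h
    · exact hcommH i hi j h
    · subst h; rw [commutatorElement_self]; exact one_mem _
    · rw [← commutatorElement_inv]; exact inv_mem (hcommH j hj i h)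
  have hconjV : ∀ u : List ℕ, (∀ q ∈ u, q < d.a.length) → ∀ x ∈ H, val lift u * x * (val lift u)⁻¹ ∈ H := by
    intro u
    induction u with
    | nil => intro _ x hx; simpa [val] using hx
    | cons i u ih =>
      intro hu x hx
      rw [val_cons, show lift i * val lift u * x * (lift i * val lift u)⁻¹ =
        lift i * (val lift u * x * (val lift u)⁻¹) * (lift i)⁻¹ by group]
      exact hconjH i (hu i List.mem_cons_self) _ (ih (fun a ha => hu a (List.mem_cons_of_mem _ ha)) x hx)
  have hc1 : ∀ i < d.a.length, ∀ v : List ℕ, (∀ q ∈ v, q < d.a.length) → ⁅lift i, val lift v⁆ ∈ H := by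
    intro i hi v
    induction v with
    | nil => intro _; simp [val]
    | cons j v ih =>
      intro hv
      rw [val_cons, commutatorElement_def, show lift i * (lift j * val lift v) * (lift i)⁻¹ * (lift j * val lift v)⁻¹ =
        ⁅lift i, lift j⁆ * (lift j * ⁅lift i, val lift v⁆ * (lift j)⁻¹) by simp only [commutatorElement_def]; group]
      exact mul_mem (hcg i hi j (hv j List.mem_cons_self))
        (hconjH j (hv j List.mem_cons_self) _ (ih fun a ha => hv a (List.mem_cons_of_mem _ ha)))
  have hc2 : ∀ u : List ℕ, (∀ q ∈ u, q < d.a.length) → ∀ v : List ℕ, (∀ q ∈ v, q < d.a.length) →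
      ⁅val lift u, val lift v⁆ ∈ H := by
    intro u
    induction u with
    | nil => intro _ v _; simp [val]
    | cons i u ih =>
      intro hu v hv
      rw [val_cons, commutatorElement_def, show lift i * val lift u * val lift v * (lift i * val lift u)⁻¹ * (val lift v)⁻¹ =
        lift i * ⁅val lift u, val lift v⁆ * (lift i)⁻¹ * ⁅lift i, val lift v⁆ by simp only [commutatorElement_def]; group]
      exact mul_mem (hconjH i (hu i List.mem_cons_self) _ (ih (fun a ha => hu a (List.mem_cons_of_mem _ ha)) v hv))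
        (hc1 i (hu i List.mem_cons_self) v hv)
  have hle : ⁅P, P⁆ ≤ H := by
    rw [Subgroup.commutator_le]
    intro x hx y hy
    obtain ⟨u, hu, hxu⟩ := hP x hx
    obtain ⟨v, hv, hyv⟩ := hP y hy
    obtain ⟨c, hc, rfl⟩ : ∃ c ∈ Subgroup.center Γ, x = c * val lift u :=
      ⟨x * (val lift u)⁻¹, hker (by rw [MonoidHom.mem_ker, map_mul, map_inv, hxu, mul_inv_cancel]), by group⟩
    obtain ⟨c', hc', rfl⟩ : ∃ c ∈ Subgroup.center Γ, y = c * val lift v :=
      ⟨y * (val lift v)⁻¹, hker (by rw [MonoidHom.mem_ker, map_mul, map_inv, hyv, mul_inv_cancel]), by group⟩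
    have e1 : ∀ {c : Γ}, c ∈ Subgroup.center Γ → ∀ a b : Γ, ⁅c * a, b⁆ = ⁅a, b⁆ := fun {c} hc a b => by
      rw [commutatorElement_def, show c * a * b * (c * a)⁻¹ = c * (a * b * a⁻¹) * c⁻¹ by group,
        ← Subgroup.mem_center_iff.1 hc (a * b * a⁻¹), mul_inv_cancel_right, commutatorElement_def]
    rw [e1 hc, ← commutatorElement_inv, e1 hc', commutatorElement_inv]
    exact hc2 u hu v hv
  obtain ⟨t, ht, rfl⟩ := hHT z (hle hz)
  obtain ⟨htq, hcase⟩ := helts t ht
  have hval : ξ (val lift t.1) = 1 := by
    have : ξ ((ev (gOf (tail d ξ lift gl) FD.cols) t.2 : Subgroup.center Γ) : Γ) = 1 := by rw [← ev_embed (d := d)]; exact ev_tail_ker d ξ lift gl _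
    rw [tot2_def, map_mul, this, mul_one] at hzk
    exact hzk
  simp only [Bool.or_eq_true, Bool.not_eq_true', Bool.and_eq_true, beq_iff_eq] at hcase
  rcases hcase with hne | ⟨hnil, hv⟩
  · exfalso
    have := (sameC_eq (B := []) (y := (1 : Equiv.Perm (Fin n))) (word_code hL htq) (by simp [appC])).2 hval
    rw [hne] at this
    exact Bool.noConfusion this
  · rcases hv with hv | hv
    · left
      rw [tot2_def, hnil, hv, ev_reduce _ FD.small (small_sound hker hL hb hr hrel he), ev_zero]
      simp [val]
    · right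
      refine ⟨t.2, List.contains_iff_mem.1 hv, ?_⟩
      rw [tot2_def, hnil]
      simp [val]




omit hker hL hb hr hrel he hd

open Classical in
/-- All checks together: a fixed power of each kernel element inside the commutator subgroup is trivial or
equal to the value of the exceptional vector. -/
theorem kill2 [NeZero n] {gens : List Elt} {derived : List (Elt × List ℕ)}
    (hc : checkCert w n gens derived levels = true) (hb : schurBaseOK w n d levels = true)
    (hr : rowsOK d = true)
    (hrel : d.rels.all (fun r => match r with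
      | .assoc a b c => (a ++ b ++ c).all (fun q => Nat.blt q d.a.length) | .fuse .. => true) = true)
    (he : projOK d FD = true) (hd : derivedFast w n d FD = true) (ξ : Γ →* Equiv.Perm (Fin n)) (hker : ξ.ker ≤ Subgroup.center Γ)
    (hrange : ξ.range = genGroup w n gens) :
    ∃ S : Finset Γ, S.card ≤ d.ext.length + 1 ∧
      ∀ z ∈ ξ.ker ⊓ commutator Γ, z ^ (certOrder levels / certOrder d.levels) ∈ S := by
  have hb' := hb
  simp only [schurBaseOK, Bool.and_eq_true, List.all_eq_true] at hb'
  obtain ⟨⟨⟨⟨⟨-, hcd⟩, hsift⟩, -⟩, hfus⟩, -⟩ := hb'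
  have hcd' := hcd
  simp only [checkCert, Bool.and_eq_true, List.all_eq_true] at hcd'
  have hval : ∀ e ∈ d.a, validElt w n e = true := hcd'.1.1.1.1.2
  have hmem : ∀ e, validElt w n e = true → sift w n levels e.1 = true → ∃ x : Γ, ξ x = toPerm w n e :=
    fun e h1 h2 => MonoidHom.mem_range.1 (hrange ▸ cert_mem hc h1 h2)
  let lift : ℕ → Γ := fun q =>
    if h : ∃ x : Γ, ξ x = toPerm w n (d.a.getD q (0, 0)) then h.choose else 1
  let gl : ℕ → Γ := fun t =>
    if h : ∃ x : Γ, ξ x = toPerm w n (d.fus.getD t ⟨(0, 0), [], []⟩).g then h.choose else 1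
  have hamem : ∀ q < d.a.length, d.a.getD q (0, 0) ∈ d.a := fun q hq => by
    rw [List.getD_eq_getElem _ _ hq]; exact List.getElem_mem hq
  have hlift : ∀ q < d.a.length, ξ (lift q) = toPerm w n (d.a.getD q (0, 0)) := fun q hq => by
    have h := hmem _ (hval _ (hamem q hq)) (hsift _ (hamem q hq))
    simp only [lift, dif_pos h]
    exact h.choose_spec
  have hfmem : ∀ t < d.fus.length, d.fus.getD t ⟨(0, 0), [], []⟩ ∈ d.fus := fun t ht => by
    rw [List.getD_eq_getElem _ _ ht]; exact List.getElem_mem ht
  have hgl : ∀ t < d.fus.length, ξ (gl t) = toPerm w n (d.fus.getD t ⟨(0, 0), [], []⟩).g := fun t ht => by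
    obtain ⟨⟨⟨h1, h2⟩, -⟩, -⟩ := hfus _ (hfmem t ht)
    have h := hmem _ h1 h2
    simp only [gl, dif_pos h]
    exact h.choose_spec
  have hL : Lifts w n d ξ lift gl :=
    { lift_code := fun q hq j => by rw [hlift q hq]; exact ((rep_toPerm (hval _ (hamem q hq))) j).1
      gl_code := fun t ht j => by
        rw [hgl t ht]; exact ((rep_toPerm (hfus _ (hfmem t ht)).1.1.1) j).1 }
  set U := genGroup w n d.a with hU
  have hUle : U ≤ genGroup w n gens := by
    refine (Subgroup.closure_le _).2 ?_
    intro σ hσ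
    obtain ⟨e, he, rfl⟩ := List.mem_map.1 hσ
    exact cert_mem hc (hval e he) (hsift e he)
  set P := U.comap ξ with hPdef
  have hP : ∀ x ∈ P, ∃ u : List ℕ, (∀ q ∈ u, q < d.a.length) ∧ ξ x = ξ (val lift u) := by
    intro x hx
    suffices ∀ σ ∈ Submonoid.closure {σ : Equiv.Perm (Fin n) | σ ∈ d.a.map (toPerm w n)},
        ∃ u : List ℕ, (∀ q ∈ u, q < d.a.length) ∧ σ = ξ (val lift u) by
      refine this _ ?_
      have hx' : ξ x ∈ (U : Set (Equiv.Perm (Fin n))) := hx
      rw [hU, genGroup, closure_carrier] at hx'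
      exact hx'
    intro σ hσ
    induction hσ using Submonoid.closure_induction with
    | mem s hs =>
      obtain ⟨e, he, rfl⟩ := List.mem_map.1 hs
      obtain ⟨i, hi, rfl⟩ := List.mem_iff_getElem.1 he
      refine ⟨[i], by simpa using hi, ?_⟩
      rw [show val lift [i] = lift i by simp [val], hlift i hi, List.getD_eq_getElem _ _ hi]
    | one => exact ⟨[], by simp, by simp [val]⟩
    | mul a b _ _ iha ihb =>
      obtain ⟨u, hu, rfl⟩ := iha
      obtain ⟨v, hv, rfl⟩ := ihb
      exact ⟨u ++ v, fun q hq => (List.mem_append.1 hq).elim (hu q) (hv q), by rw [val_append, map_mul]⟩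
  have hidx : P.index = certOrder levels / certOrder d.levels := by
    rw [hPdef, Subgroup.index_comap, hrange, ← cert_card hc, ← cert_card hcd]
    have h := Subgroup.card_mul_index (U.subgroupOf (genGroup w n gens))
    rw [Nat.card_congr (Subgroup.subgroupOfEquivOfLe hUle).toEquiv] at h
    rw [← h, Nat.mul_div_cancel_left _ Nat.card_pos]
    rfl
  refine ⟨insert 1 (d.ext.map fun v => ((ev (gOf (tail d ξ lift gl) FD.cols) v : Subgroup.center Γ) : Γ)).toFinset, ?_,
    fun z hz => ?_⟩
  · refine (Finset.card_insert_le _ _).trans (Nat.add_le_add_right ?_ 1)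
    exact (List.toFinset_card_le _).trans (by rw [List.length_map])
  · obtain ⟨hzk, hzc⟩ := hz
    have hzξ : ξ z = 1 := hzk
    have : P.FiniteIndex := ⟨Subgroup.index_ne_zero_of_finite⟩
    let τ : Γ →* Abelianization P := MonoidHom.transfer Abelianization.of
    have h1 : τ z = 1 := Abelianization.commutator_subset_ker τ hzc
    have h2 : τ z = Abelianization.of ⟨z ^ P.index, by simp [P, Subgroup.mem_comap, hzξ]⟩ :=
      MonoidHom.transfer_eq_pow _ z fun k g _ => by
        rw [mul_assoc, ← Subgroup.mem_center_iff.mp ((Subgroup.center Γ).pow_mem (hker hzk) k) g,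
          inv_mul_cancel_left]
    rw [h1] at h2
    have h3 := h2.symm
    rw [← MonoidHom.mem_ker, Abelianization.ker_of] at h3
    have h4 : z ^ P.index ∈ ⁅P, P⁆ := by
      rw [← Subgroup.map_subtype_commutator]; exact ⟨_, h3, rfl⟩
    rw [← hidx]
    rcases derived_ker2 hker hL hb hr hrel he hd hP h4 (by rw [map_pow, hzξ, one_pow]) with h | ⟨v, hv, h⟩
    · rw [h]; exact Finset.mem_insert_self _ _
    · rw [h]; exact Finset.mem_insert_of_mem (List.mem_toFinset.2 (List.mem_map.2 ⟨v, hv, rfl⟩))

end Cfsg.Agent.PermSchur
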