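import Cfsg.Agent.Lib.Compute.SchurFast

/-!
The prime part bound from a certificate for one Sylow subgroup, for a group of permutations in which the
listed elements are known to lie: no stabiliser chain of the whole group is needed.
-/

set_option autoImplicit false
set_option maxHeartbeats 1000000

namespace Cfsg.Agent.PermSchur

open Cfsg.Agent.PermCert
open scoped commutatorElement IsMulCommutative

variable {w n : ℕ} {Γ : Type*} [Group Γ] [Finite Γ] {d : SchurData} {levels : List CLevel}

open Classical in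
/-- All checks together, with membership in place of the chain of the group. -/
theorem killMem [NeZero n] {G : Subgroup (Equiv.Perm (Fin n))}
    (hA : ∀ e ∈ d.a, toPerm w n e ∈ G) (hF : ∀ F ∈ d.fus, toPerm w n F.g ∈ G) (hb : schurBaseOK w n d levels = true)
    (hr : rowsOK d = true)
    (hrel : d.rels.all (fun r => match r with
      | .assoc a b c => (a ++ b ++ c).all (fun q => Nat.blt q d.a.length) | .fuse .. => true) = true)
    (hd : derivedOK w n d = true) (ξ : Γ →* Equiv.Perm (Fin n)) (hker : ξ.ker ≤ Subgroup.center Γ)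
    (hrange : ξ.range = G) :
    ∃ S : Finset Γ, S.card ≤ d.ext.length + 1 ∧
      ∀ z ∈ ξ.ker ⊓ commutator Γ, z ^ (Nat.card G / certOrder d.levels) ∈ S := by
  have hb' := hb
  simp only [schurBaseOK, Bool.and_eq_true, List.all_eq_true] at hb'
  obtain ⟨⟨⟨⟨⟨-, hcd⟩, -⟩, -⟩, hfus⟩, -⟩ := hb'
  have hcd' := hcd
  simp only [checkCert, Bool.and_eq_true, List.all_eq_true] at hcd'
  have hval : ∀ e ∈ d.a, validElt w n e = true := hcd'.1.1.1.1.2
  have hmem : ∀ e, toPerm w n e ∈ G → ∃ x : Γ, ξ x = toPerm w n e :=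
    fun e h => MonoidHom.mem_range.1 (hrange ▸ h)
  let lift : ℕ → Γ := fun q =>
    if h : ∃ x : Γ, ξ x = toPerm w n (d.a.getD q (0, 0)) then h.choose else 1
  let gl : ℕ → Γ := fun t =>
    if h : ∃ x : Γ, ξ x = toPerm w n (d.fus.getD t ⟨(0, 0), [], []⟩).g then h.choose else 1
  have hamem : ∀ q < d.a.length, d.a.getD q (0, 0) ∈ d.a := fun q hq => by
    rw [List.getD_eq_getElem _ _ hq]; exact List.getElem_mem hq
  have hlift : ∀ q < d.a.length, ξ (lift q) = toPerm w n (d.a.getD q (0, 0)) := fun q hq => by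
    have h := hmem _ (hA _ (hamem q hq))
    simp only [lift, dif_pos h]
    exact h.choose_spec
  have hfmem : ∀ t < d.fus.length, d.fus.getD t ⟨(0, 0), [], []⟩ ∈ d.fus := fun t ht => by
    rw [List.getD_eq_getElem _ _ ht]; exact List.getElem_mem ht
  have hgl : ∀ t < d.fus.length, ξ (gl t) = toPerm w n (d.fus.getD t ⟨(0, 0), [], []⟩).g := fun t ht => by
    have h := hmem _ (hF _ (hfmem t ht))
    simp only [gl, dif_pos h]
    exact h.choose_spec
  have hL : Lifts w n d ξ lift gl :=
    { lift_code := fun q hq j => by rw [hlift q hq]; exact ((rep_toPerm (hval _ (hamem q hq))) j).1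
      gl_code := fun t ht j => by
        rw [hgl t ht]; exact ((rep_toPerm (hfus _ (hfmem t ht)).1.1.1) j).1 }
  set U := genGroup w n d.a with hU
  have hUle : U ≤ G := by
    refine (Subgroup.closure_le _).2 ?_
    intro σ hσ
    obtain ⟨e, he, rfl⟩ := List.mem_map.1 hσ
    exact hA e he
  set P := U.comap ξ with hPdef
  have hP : ∀ x ∈ P, ∃ u : List ℕ, (∀ q ∈ u, q < d.a.length) ∧ ξ x = ξ (val lift u) := by
    intro x hx
    suffices ∀ σ ∈ Submonoid.closure {σ : Equiv.Perm (Fin n) | σ ∈ d.a.map (toPerm w n)},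
        ∃ u : List ℕ, (∀ q ∈ u, q < d.a.length) ∧ σ = ξ (val lift u) by
      refine this _ ?_
      have hx' : ξ x ∈ (U : Set (Equiv.Perm (Fin n))) := hx
      rw [hU, genGroup, closure_carrier] at hx'
      exact hx'
    intro σ hσ
    induction hσ using Submonoid.closure_induction with
    | mem s hs =>
      obtain ⟨e, he, rfl⟩ := List.mem_map.1 hs
      obtain ⟨i, hi, rfl⟩ := List.mem_iff_getElem.1 he
      refine ⟨[i], by simpa using hi, ?_⟩
      rw [show val lift [i] = lift i by simp [val], hlift i hi, List.getD_eq_getElem _ _ hi]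
    | one => exact ⟨[], by simp, by simp [val]⟩
    | mul a b _ _ iha ihb =>
      obtain ⟨u, hu, rfl⟩ := iha
      obtain ⟨v, hv, rfl⟩ := ihb
      exact ⟨u ++ v, fun q hq => (List.mem_append.1 hq).elim (hu q) (hv q), by rw [val_append, map_mul]⟩
  have hidx : P.index = Nat.card G / certOrder d.levels := by
    rw [hPdef, Subgroup.index_comap, hrange, ← cert_card hcd]
    have h := Subgroup.card_mul_index (U.subgroupOf G)
    rw [Nat.card_congr (Subgroup.subgroupOfEquivOfLe hUle).toEquiv] at h
    rw [← h, Nat.mul_div_cancel_left _ Nat.card_pos]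
    rfl
  refine ⟨insert 1 (d.ext.map fun v => ((ev (tail d ξ lift gl) v : Subgroup.center Γ) : Γ)).toFinset, ?_,
    fun z hz => ?_⟩
  · refine (Finset.card_insert_le _ _).trans (Nat.add_le_add_right ?_ 1)
    exact (List.toFinset_card_le _).trans (by rw [List.length_map])
  · obtain ⟨hzk, hzc⟩ := hz
    have hzξ : ξ z = 1 := hzk
    have : P.FiniteIndex := ⟨Subgroup.index_ne_zero_of_finite⟩
    let τ : Γ →* Abelianization P := MonoidHom.transfer Abelianization.of
    have h1 : τ z = 1 := Abelianization.commutator_subset_ker τ hzc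
    have h2 : τ z = Abelianization.of ⟨z ^ P.index, by simp [P, Subgroup.mem_comap, hzξ]⟩ :=
      MonoidHom.transfer_eq_pow _ z fun k g _ => by
        rw [mul_assoc, ← Subgroup.mem_center_iff.mp ((Subgroup.center Γ).pow_mem (hker hzk) k) g,
          inv_mul_cancel_left]
    rw [h1] at h2
    have h3 := h2.symm
    rw [← MonoidHom.mem_ker, Abelianization.ker_of] at h3
    have h4 : z ^ P.index ∈ ⁅P, P⁆ := by
      rw [← Subgroup.map_subtype_commutator]; exact ⟨_, h3, rfl⟩
    rw [← hidx]
    rcases derived_ker hker hL hb hr hrel hd hP h4 (by rw [map_pow, hzξ, one_pow]) with h | ⟨v, hv, h⟩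
    · rw [h]; exact Finset.mem_insert_self _ _
    · rw [h]; exact Finset.mem_insert_of_mem (List.mem_toFinset.2 (List.mem_map.2 ⟨v, hv, rfl⟩))

open Classical in
/-- The same with projected tails. -/
theorem killMem2 [NeZero n] {FD : FastData} {G : Subgroup (Equiv.Perm (Fin n))}
    (hA : ∀ e ∈ d.a, toPerm w n e ∈ G) (hF : ∀ F ∈ d.fus, toPerm w n F.g ∈ G) (hb : schurBaseOK w n d levels = true)
    (hr : rowsOK d = true)
    (hrel : d.rels.all (fun r => match r with
      | .assoc a b c => (a ++ b ++ c).all (fun q => Nat.blt q d.a.length) | .fuse .. => true) = true)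
    (he : projOK d FD = true) (hd : derivedFast w n d FD = true) (ξ : Γ →* Equiv.Perm (Fin n))
    (hker : ξ.ker ≤ Subgroup.center Γ) (hrange : ξ.range = G) :
    ∃ S : Finset Γ, S.card ≤ d.ext.length + 1 ∧
      ∀ z ∈ ξ.ker ⊓ commutator Γ, z ^ (Nat.card G / certOrder d.levels) ∈ S := by
  have hb' := hb
  simp only [schurBaseOK, Bool.and_eq_true, List.all_eq_true] at hb'
  obtain ⟨⟨⟨⟨⟨-, hcd⟩, -⟩, -⟩, hfus⟩, -⟩ := hb'
  have hcd' := hcd
  simp only [checkCert, Bool.and_eq_true, List.all_eq_true] at hcd'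
  have hval : ∀ e ∈ d.a, validElt w n e = true := hcd'.1.1.1.1.2
  have hmem : ∀ e, toPerm w n e ∈ G → ∃ x : Γ, ξ x = toPerm w n e :=
    fun e h => MonoidHom.mem_range.1 (hrange ▸ h)
  let lift : ℕ → Γ := fun q =>
    if h : ∃ x : Γ, ξ x = toPerm w n (d.a.getD q (0, 0)) then h.choose else 1
  let gl : ℕ → Γ := fun t =>
    if h : ∃ x : Γ, ξ x = toPerm w n (d.fus.getD t ⟨(0, 0), [], []⟩).g then h.choose else 1
  have hamem : ∀ q < d.a.length, d.a.getD q (0, 0) ∈ d.a := fun q hq => by
    rw [List.getD_eq_getElem _ _ hq]; exact List.getElem_mem hq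
  have hlift : ∀ q < d.a.length, ξ (lift q) = toPerm w n (d.a.getD q (0, 0)) := fun q hq => by
    have h := hmem _ (hA _ (hamem q hq))
    simp only [lift, dif_pos h]
    exact h.choose_spec
  have hfmem : ∀ t < d.fus.length, d.fus.getD t ⟨(0, 0), [], []⟩ ∈ d.fus := fun t ht => by
    rw [List.getD_eq_getElem _ _ ht]; exact List.getElem_mem ht
  have hgl : ∀ t < d.fus.length, ξ (gl t) = toPerm w n (d.fus.getD t ⟨(0, 0), [], []⟩).g := fun t ht => by
    have h := hmem _ (hF _ (hfmem t ht))
    simp only [gl, dif_pos h]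
    exact h.choose_spec
  have hL : Lifts w n d ξ lift gl :=
    { lift_code := fun q hq j => by rw [hlift q hq]; exact ((rep_toPerm (hval _ (hamem q hq))) j).1
      gl_code := fun t ht j => by
        rw [hgl t ht]; exact ((rep_toPerm (hfus _ (hfmem t ht)).1.1.1) j).1 }
  set U := genGroup w n d.a with hU
  have hUle : U ≤ G := by
    refine (Subgroup.closure_le _).2 ?_
    intro σ hσ
    obtain ⟨e, he, rfl⟩ := List.mem_map.1 hσ
    exact hA e he
  set P := U.comap ξ with hPdef
  have hP : ∀ x ∈ P, ∃ u : List ℕ, (∀ q ∈ u, q < d.a.length) ∧ ξ x = ξ (val lift u) := by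
    intro x hx
    suffices ∀ σ ∈ Submonoid.closure {σ : Equiv.Perm (Fin n) | σ ∈ d.a.map (toPerm w n)},
        ∃ u : List ℕ, (∀ q ∈ u, q < d.a.length) ∧ σ = ξ (val lift u) by
      refine this _ ?_
      have hx' : ξ x ∈ (U : Set (Equiv.Perm (Fin n))) := hx
      rw [hU, genGroup, closure_carrier] at hx'
      exact hx'
    intro σ hσ
    induction hσ using Submonoid.closure_induction with
    | mem s hs =>
      obtain ⟨e, he, rfl⟩ := List.mem_map.1 hs
      obtain ⟨i, hi, rfl⟩ := List.mem_iff_getElem.1 he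
      refine ⟨[i], by simpa using hi, ?_⟩
      rw [show val lift [i] = lift i by simp [val], hlift i hi, List.getD_eq_getElem _ _ hi]
    | one => exact ⟨[], by simp, by simp [val]⟩
    | mul a b _ _ iha ihb =>
      obtain ⟨u, hu, rfl⟩ := iha
      obtain ⟨v, hv, rfl⟩ := ihb
      exact ⟨u ++ v, fun q hq => (List.mem_append.1 hq).elim (hu q) (hv q), by rw [val_append, map_mul]⟩
  have hidx : P.index = Nat.card G / certOrder d.levels := by
    rw [hPdef, Subgroup.index_comap, hrange, ← cert_card hcd]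
    have h := Subgroup.card_mul_index (U.subgroupOf G)
    rw [Nat.card_congr (Subgroup.subgroupOfEquivOfLe hUle).toEquiv] at h
    rw [← h, Nat.mul_div_cancel_left _ Nat.card_pos]
    rfl
  refine ⟨insert 1 (d.ext.map fun v => ((ev (gOf (tail d ξ lift gl) FD.cols) v : Subgroup.center Γ) : Γ)).toFinset, ?_,
    fun z hz => ?_⟩
  · refine (Finset.card_insert_le _ _).trans (Nat.add_le_add_right ?_ 1)
    exact (List.toFinset_card_le _).trans (by rw [List.length_map])
  · obtain ⟨hzk, hzc⟩ := hz
    have hzξ : ξ z = 1 := hzk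
    have : P.FiniteIndex := ⟨Subgroup.index_ne_zero_of_finite⟩
    let τ : Γ →* Abelianization P := MonoidHom.transfer Abelianization.of
    have h1 : τ z = 1 := Abelianization.commutator_subset_ker τ hzc
    have h2 : τ z = Abelianization.of ⟨z ^ P.index, by simp [P, Subgroup.mem_comap, hzξ]⟩ :=
      MonoidHom.transfer_eq_pow _ z fun k g _ => by
        rw [mul_assoc, ← Subgroup.mem_center_iff.mp ((Subgroup.center Γ).pow_mem (hker hzk) k) g,
          inv_mul_cancel_left]
    rw [h1] at h2
    have h3 := h2.symm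
    rw [← MonoidHom.mem_ker, Abelianization.ker_of] at h3
    have h4 : z ^ P.index ∈ ⁅P, P⁆ := by
      rw [← Subgroup.map_subtype_commutator]; exact ⟨_, h3, rfl⟩
    rw [← hidx]
    rcases derived_ker2 hker hL hb hr hrel he hd hP h4 (by rw [map_pow, hzξ, one_pow]) with h | ⟨v, hv, h⟩
    · rw [h]; exact Finset.mem_insert_self _ _
    · rw [h]; exact Finset.mem_insert_of_mem (List.mem_toFinset.2 (List.mem_map.2 ⟨v, hv, rfl⟩))

end Cfsg.Agent.PermSchur
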