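import Cfsg.Agent.Lib.Compute.SchurDefs
import Mathlib.GroupTheory.Transfer
import Mathlib.GroupTheory.Abelianization.Defs

/-!
Soundness of the Schur multiplier checks: a power of each kernel element of a stem extension lies in
a listed set.
-/

set_option autoImplicit false
set_option maxHeartbeats 1000000

namespace Cfsg.Agent.PermSchur

open Cfsg.Agent.PermCert
open scoped commutatorElement IsMulCommutative

section Vec

variable {A : Type*} [CommGroup A]

/-- The product of powers prescribed by a vector. -/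
def ev : (ℕ → A) → List ℤ → A
  | _, [] => 1
  | f, x :: u => f 0 ^ x * ev (fun q => f (q + 1)) u

theorem ev_vadd : ∀ (u v : List ℤ) (f : ℕ → A), ev f (vadd u v) = ev f u * ev f v
  | [], v, f => by cases v <;> simp [vadd, ev]
  | x :: u, [], f => by simp [vadd, ev]
  | x :: u, y :: v, f => by
    simp only [vadd, ev, ev_vadd u v, zpow_add]
    exact mul_mul_mul_comm _ _ _ _

theorem ev_vsmul (c : ℤ) : ∀ (u : List ℤ) (f : ℕ → A), ev f (vsmul c u) = ev f u ^ c
  | [], f => by simp [vsmul, ev]
  | x :: u, f => by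
    show f 0 ^ (c * x) * ev (fun q => f (q + 1)) (vsmul c u) = _
    rw [ev_vsmul c u, ev, mul_zpow, mul_comm c x, zpow_mul]

theorem ev_vsub (u v : List ℤ) (f : ℕ → A) : ev f (vsub u v) = ev f u / ev f v := by
  rw [vsub, ev_vadd, ev_vsmul, zpow_neg_one, div_eq_mul_inv]

theorem ev_bump : ∀ (q : ℕ) (u : List ℤ) (f : ℕ → A), ev f (bump q u) = f q * ev f u
  | 0, [], f => by simp [bump, ev]
  | q + 1, [], f => by simp [bump, ev, ev_bump q]
  | 0, x :: u, f => by simp [bump, ev, zpow_add, mul_assoc, mul_comm (f 0 ^ x) (f 0)]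
  | q + 1, x :: u, f => by simp [bump, ev, ev_bump q, mul_left_comm]

theorem ev_zero : ∀ (m : ℕ) (f : ℕ → A), ev f (List.replicate m 0) = 1
  | 0, f => rfl
  | m + 1, f => by simp [List.replicate_succ, ev, ev_zero m]

theorem ev_counts (d : SchurData) (f : ℕ → A) : ∀ qs : List ℕ, ev f (counts d qs) = (qs.map f).prod
  | [] => by simp [counts, ev_zero]
  | q :: qs => by simp [counts, ev_bump, ev_counts d f qs]

theorem ev_combine (d : SchurData) (f : ℕ → A) {eqs : List (List ℤ)} (h : ∀ e ∈ eqs, ev f e = 1) :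
    ∀ es : List (ℕ × ℤ), (∀ e ∈ es, e.1 < eqs.length) → ev f (combine d eqs es) = 1
  | [], _ => ev_zero _ _
  | e :: es, he => by
    have h1 : eqs.getD e.1 [] ∈ eqs := by
      rw [List.getD_eq_getElem _ _ (he e List.mem_cons_self)]
      exact List.getElem_mem _
    rw [combine, ev_vadd, ev_vsmul, h _ h1, one_zpow, one_mul,
      ev_combine d f h es fun a ha => he a (List.mem_cons_of_mem _ ha)]

theorem ev_reduce (f : ℕ → A) : ∀ (rows : List (ℕ × List ℤ × List (ℕ × ℤ))),
    (∀ r ∈ rows, ev f r.2.1 = 1) → ∀ v, ev f (reduce rows v) = ev f v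
  | [], _, v => rfl
  | r :: rs, h, v => by
    have ih := ev_reduce f rs fun a ha => h a (List.mem_cons_of_mem _ ha)
    rw [reduce]
    generalize (v.getD r.1 0 / r.2.1.getD r.1 1) = c
    cases c == 0
    · rw [cond_false, ih, ev_vsub, ev_vsmul, h r List.mem_cons_self, one_zpow, div_one]
    · rw [cond_true, ih]

end Vec

theorem getD_flatten {α : Type*} (x : α) : ∀ (L : List (List α)) (t i : ℕ), t < L.length → i < (L.getD t []).length →
    L.flatten.getD (((L.take t).map List.length).sum + i) x = (L.getD t []).getD i x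
  | [], t, i, ht, _ => absurd ht (Nat.not_lt_zero _)
  | l :: L, 0, i, _, hi => by
    simp only [List.getD_cons_zero] at hi
    simp [List.getD_eq_getElem?_getD, List.getElem?_append_left hi]
  | l :: L, t + 1, i, ht, hi => by
    simp only [List.getD_cons_succ] at hi ⊢
    rw [List.flatten_cons, List.take_succ_cons, List.map_cons, List.sum_cons, Nat.add_assoc,
      List.getD_append_right _ _ _ _ (Nat.le_add_right _ _), Nat.add_sub_cancel_left,
      getD_flatten x L t i (by simpa using ht) hi]

theorem tri_succ (m : ℕ) : m * (m - 1) / 2 + m = (m + 1) * (m + 1 - 1) / 2 := by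
  cases m with
  | zero => rfl
  | succ r =>
    simp only [Nat.succ_sub_one, Nat.add_sub_cancel]
    have : (r + 1 + 1) * (r + 1) = (r + 1) * r + 2 * (r + 1) := by ring
    rw [this, Nat.add_mul_div_left _ _ (by norm_num : 0 < 2)]

theorem sum_range_id (m : ℕ) : (List.range m).sum = m * (m - 1) / 2 := by
  induction m with
  | zero => rfl
  | succ m ih => rw [List.range_succ, List.sum_append, List.sum_singleton, ih, tri_succ]

variable {w n : ℕ} {Γ : Type*} [Group Γ]

/-- The value of a word. -/
def val (lift : ℕ → Γ) (u : List ℕ) : Γ := (u.map lift).prod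

theorem val_append (lift : ℕ → Γ) (u v : List ℕ) : val lift (u ++ v) = val lift u * val lift v := by
  simp [val]

theorem val_cons (lift : ℕ → Γ) (i : ℕ) (u : List ℕ) : val lift (i :: u) = lift i * val lift u := by
  simp [val]

/-- All tails in order. -/
def tailList (d : SchurData) (lift : ℕ → Γ) (gl : ℕ → Γ) : List Γ :=
  ((List.range d.a.length).map fun i => (val lift (d.pow.getD i []))⁻¹ * lift i ^ d.p) ++
    ((List.range d.a.length).map fun i => (List.range i).map fun j =>
      (val lift ((d.comm.getD i []).getD j []))⁻¹ * (lift i * lift j)).flatten ++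
    ((List.range d.fus.length).map fun t => (List.range (d.fus.getD t ⟨(0, 0), [], []⟩).src.length).map fun i =>
      (val lift ((d.fus.getD t ⟨(0, 0), [], []⟩).img.getD i []))⁻¹ *
        (gl t * val lift ((d.fus.getD t ⟨(0, 0), [], []⟩).src.getD i []) * (gl t)⁻¹)).flatten

/-- A tail, as an element of the centre. -/
noncomputable def tail (d : SchurData) (ξ : Γ →* Equiv.Perm (Fin n)) (lift gl : ℕ → Γ) (q : ℕ) :
    Subgroup.center Γ := by
  classical
  exact if h : (tailList d lift gl).getD q 1 ∈ ξ.ker ⊓ Subgroup.center Γ then ⟨_, h.2⟩ else 1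

/-- The value of a word with a vector of tails. -/
noncomputable def tot (d : SchurData) (ξ : Γ →* Equiv.Perm (Fin n)) (lift gl : ℕ → Γ) (u : List ℕ × List ℤ) : Γ :=
  val lift u.1 * (ev (tail d ξ lift gl) u.2 : Subgroup.center Γ)

theorem tail_val {d : SchurData} {ξ : Γ →* Equiv.Perm (Fin n)} {lift gl : ℕ → Γ} {q : ℕ} {x : Γ}
    (e : (tailList d lift gl).getD q 1 = x)
    (hx : x ∈ ξ.ker ⊓ Subgroup.center Γ) : (tail d ξ lift gl q : Γ) = x := by
  subst e
  rw [tail, dif_pos hx]

theorem ev_tail_ker (d : SchurData) (ξ : Γ →* Equiv.Perm (Fin n)) (lift gl : ℕ → Γ) (v : List ℤ) :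
    ξ ((ev (tail d ξ lift gl) v : Subgroup.center Γ) : Γ) = 1 := by
  suffices ∀ (f : ℕ → Subgroup.center Γ), (∀ q, ξ (f q : Γ) = 1) → ξ ((ev f v : Subgroup.center Γ) : Γ) = 1 from
    this _ fun q => by
      unfold tail
      split
      · rename_i h; exact h.1
      · exact map_one ξ
  induction v with
  | nil => intro f _; exact map_one ξ
  | cons x v ih =>
    intro f hf
    rw [ev, Subgroup.coe_mul, map_mul, ih _ fun q => hf _, mul_one, SubgroupClass.coe_zpow, map_zpow, hf, one_zpow]

theorem tail_pow (d : SchurData) (lift gl : ℕ → Γ) {i : ℕ} (hi : i < d.a.length) :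
    (tailList d lift gl).getD i 1 = (val lift (d.pow.getD i []))⁻¹ * lift i ^ d.p := by
  rw [tailList, List.append_assoc, List.getD_append _ _ _ _ (by simpa using hi),
    List.getD_eq_getElem _ _ (by simpa using hi)]
  simp

theorem comm_length (d : SchurData) (lift : ℕ → Γ) :
    (((List.range d.a.length).map fun i => (List.range i).map fun j =>
      (val lift ((d.comm.getD i []).getD j []))⁻¹ * (lift i * lift j)).flatten).length =
      d.a.length * (d.a.length - 1) / 2 := by
  rw [List.length_flatten, List.map_map, ← sum_range_id]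
  congr 1
  conv_rhs => rw [← List.map_id (List.range d.a.length)]
  exact List.map_congr_left fun i _ => by simp

theorem tail_comm (d : SchurData) (lift gl : ℕ → Γ) {i j : ℕ} (hi : i < d.a.length) (hj : j < i) :
    (tailList d lift gl).getD (commVar d.a.length i j) 1 =
      (val lift ((d.comm.getD i []).getD j []))⁻¹ * (lift i * lift j) := by
  set L := (List.range d.a.length).map fun i => (List.range i).map fun j =>
    (val lift ((d.comm.getD i []).getD j []))⁻¹ * (lift i * lift j) with hL
  have hpre : ((L.take i).map List.length).sum = i * (i - 1) / 2 := by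
    rw [hL, ← List.map_take, List.map_map, List.take_range, Nat.min_eq_left hi.le, ← sum_range_id]
    congr 1
    conv_rhs => rw [← List.map_id (List.range i)]
    exact List.map_congr_left fun a _ => by simp
  have hget : L.getD i [] = (List.range i).map fun j =>
      (val lift ((d.comm.getD i []).getD j []))⁻¹ * (lift i * lift j) := by
    rw [List.getD_eq_getElem _ _ (by simpa [hL] using hi)]
    simp [hL]
  have hlt : i * (i - 1) / 2 + j < L.flatten.length := by
    rw [hL, comm_length]
    have : i * (i - 1) / 2 + i ≤ d.a.length * (d.a.length - 1) / 2 := by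
      rw [tri_succ]
      exact Nat.div_le_div_right (Nat.mul_le_mul hi (Nat.sub_le_sub_right hi 1))
    omega
  rw [commVar, tailList, Nat.add_assoc, List.append_assoc,
    List.getD_append_right _ _ _ _ (by simp), List.length_map, List.length_range, Nat.add_sub_cancel_left,
    ← hL, List.getD_append _ _ _ _ hlt, ← hpre, getD_flatten 1 L i j (by simpa [hL] using hi)
      (by rw [hget]; simpa using hj), hget, List.getD_eq_getElem _ _ (by simpa using hj)]
  simp

theorem tail_fus (d : SchurData) (lift gl : ℕ → Γ) {t i : ℕ} (ht : t < d.fus.length)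
    (hi : i < (d.fus.getD t ⟨(0, 0), [], []⟩).src.length) :
    (tailList d lift gl).getD (fusBase d t + i) 1 =
      (val lift ((d.fus.getD t ⟨(0, 0), [], []⟩).img.getD i []))⁻¹ *
        (gl t * val lift ((d.fus.getD t ⟨(0, 0), [], []⟩).src.getD i []) * (gl t)⁻¹) := by
  set L := (List.range d.fus.length).map fun t => (List.range (d.fus.getD t ⟨(0, 0), [], []⟩).src.length).map fun i =>
      (val lift ((d.fus.getD t ⟨(0, 0), [], []⟩).img.getD i []))⁻¹ *
        (gl t * val lift ((d.fus.getD t ⟨(0, 0), [], []⟩).src.getD i []) * (gl t)⁻¹) with hL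
  have hpre : ((L.take t).map List.length).sum = ((d.fus.take t).map fun F => F.src.length).sum := by
    rw [hL, ← List.map_take, List.map_map, List.take_range, Nat.min_eq_left ht.le]
    congr 1
    refine List.ext_getElem (by simp; omega) fun k h1 h2 => ?_
    simp at h1 h2
    rw [List.getElem_map, List.getElem_map, List.getElem_take, List.getElem_range]
    simp [List.getElem?_eq_getElem (show k < d.fus.length by omega)]
  have hget : L.getD t [] = (List.range (d.fus.getD t ⟨(0, 0), [], []⟩).src.length).map fun i =>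
      (val lift ((d.fus.getD t ⟨(0, 0), [], []⟩).img.getD i []))⁻¹ *
        (gl t * val lift ((d.fus.getD t ⟨(0, 0), [], []⟩).src.getD i []) * (gl t)⁻¹) := by
    rw [List.getD_eq_getElem _ _ (by simpa [hL] using ht)]
    simp [hL]
  rw [fusBase, tailList, List.getD_append_right _ _ _ _ (by rw [List.length_append, comm_length]; simp; omega),
    List.length_append, List.length_map, List.length_range, comm_length, ← hL,
    show d.a.length + d.a.length * (d.a.length - 1) / 2 + ((d.fus.take t).map fun F => F.src.length).sum + i -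
      (d.a.length + d.a.length * (d.a.length - 1) / 2) = ((L.take t).map List.length).sum + i by omega,
    getD_flatten 1 L t i (by simpa [hL] using ht) (by rw [hget]; simpa using hi), hget,
    List.getD_eq_getElem _ _ (by simpa using hi)]
  simp

section Main

variable {d : SchurData} (ξ : Γ →* Equiv.Perm (Fin n)) (hker : ξ.ker ≤ Subgroup.center Γ)

theorem appC_map (L : List ℕ) (i : Fin n) {lift : ℕ → Γ}
    (h : ∀ q ∈ L, ∀ j : Fin n, get w (d.a.getD q (0, 0)).1 j = (ξ (lift q) j : ℕ)) :
    appC w (wcodes d L) i = (ξ (val lift L) i : ℕ) := by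
  induction L with
  | nil => simp [wcodes, appC, val]
  | cons q L ih =>
    rw [val_cons, map_mul, Equiv.Perm.mul_apply, ← h q List.mem_cons_self,
      ← ih fun a ha => h a (List.mem_cons_of_mem _ ha)]
    rfl

include hker in
theorem central {x y : Γ} (h : ξ x = ξ y) : x⁻¹ * y ∈ ξ.ker ⊓ Subgroup.center Γ :=
  have h' : x⁻¹ * y ∈ ξ.ker := by rw [MonoidHom.mem_ker, map_mul, map_inv, h, inv_mul_cancel]
  ⟨h', hker h'⟩

theorem tot_mul (lift gl : ℕ → Γ) (u u' : List ℕ) (v v' : List ℤ) :
    tot d ξ lift gl (u ++ u', vadd v v') = tot d ξ lift gl (u, v) * tot d ξ lift gl (u', v') := by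
  simp only [tot, val_append, ev_vadd, Subgroup.coe_mul]
  rw [mul_assoc, mul_assoc, ← mul_assoc (val lift u'),
    Subgroup.mem_center_iff.1 (ev (tail d ξ lift gl) v).2 (val lift u'), mul_assoc]

end Main

/-- The hypotheses on a lifting of the data to a central extension. -/
structure Lifts (w n : ℕ) (d : SchurData) (ξ : Γ →* Equiv.Perm (Fin n)) (lift gl : ℕ → Γ) : Prop where
  lift_code : ∀ q < d.a.length, ∀ j : Fin n, get w (d.a.getD q (0, 0)).1 j = (ξ (lift q) j : ℕ)
  gl_code : ∀ t < d.fus.length, ∀ j : Fin n, get w (d.fus.getD t ⟨(0, 0), [], []⟩).g.1 j = (ξ (gl t) j : ℕ)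

variable {d : SchurData} {ξ : Γ →* Equiv.Perm (Fin n)} {lift gl : ℕ → Γ}
  (hker : ξ.ker ≤ Subgroup.center Γ) (hL : Lifts w n d ξ lift gl) {levels : List CLevel}
  (hb : schurBaseOK w n d levels = true)

theorem sameC_eq {A B : List ℕ} {x y : Equiv.Perm (Fin n)} (hA : ∀ i : Fin n, appC w A i = (x i : ℕ))
    (hB : ∀ i : Fin n, appC w B i = (y i : ℕ)) : sameC w n A B = true ↔ x = y := by
  constructor
  · intro h
    refine Equiv.ext fun i => Fin.ext ?_
    have := allBelow_spec _ _ h i i.2
    rwa [Nat.beq_eq, hA, hB] at this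
  · rintro rfl
    suffices ∀ m, m ≤ n → allBelow (fun i => Nat.beq (appC w A i) (appC w B i)) m = true from this n le_rfl
    intro m
    induction m with
    | zero => intro _; rfl
    | succ m ih =>
      intro hm
      show (allBelow _ m && Nat.beq (appC w A m) (appC w B m)) = true
      rw [ih (by omega), show appC w A m = _ from hA ⟨m, by omega⟩, show appC w B m = _ from hB ⟨m, by omega⟩]
      simp

include hL in
theorem word_code {u : List ℕ} (hu : ∀ q ∈ u, q < d.a.length) (i : Fin n) :
    appC w (wcodes d u) i = (ξ (val lift u) i : ℕ) :=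
  appC_map ξ u i fun q hq => hL.lift_code q (hu q hq)

include hker hL hb

theorem rule_facts {i : ℕ} (hi : i < d.a.length) :
    (∀ q ∈ d.pow.getD i [], q < d.a.length) ∧
    lift i ^ d.p = val lift (d.pow.getD i []) * (tail d ξ lift gl i : Γ) ∧
    ∀ j < i, (∀ q ∈ (d.comm.getD i []).getD j [], q < d.a.length) ∧
      lift i * lift j = val lift ((d.comm.getD i []).getD j []) * (tail d ξ lift gl (commVar d.a.length i j) : Γ) := by
  simp only [schurBaseOK, Bool.and_eq_true, List.all_eq_true] at hb
  have h := allBelow_spec _ _ hb.1.1.2 i hi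
  simp only [Bool.and_eq_true, List.all_eq_true, Nat.blt_eq] at h
  obtain ⟨⟨⟨⟨hp, hpw⟩, hc⟩, -⟩, -⟩ := h
  refine ⟨hpw, ?_, fun j hj => ?_⟩
  · have hrep : List.replicate d.p (d.a.getD i (0, 0)).1 = wcodes d (List.replicate d.p i) := by simp [wcodes]
    rw [hrep] at hp
    have := (sameC_eq (word_code hL (u := List.replicate d.p i) fun q hq => (List.eq_of_mem_replicate hq) ▸ hi)
      (word_code hL hpw)).1 hp
    rw [show val lift (List.replicate d.p i) = lift i ^ d.p by simp [val]] at this
    rw [tail_val (tail_pow d lift gl hi) (central ξ hker this.symm), mul_inv_cancel_left]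
  · have h' := allBelow_spec _ _ hc j hj
    simp only [Bool.and_eq_true, List.all_eq_true, Nat.blt_eq] at h'
    have := (sameC_eq (word_code hL (u := [i, j]) (by simp; omega)) (word_code hL h'.2)).1 h'.1
    rw [show val lift [i, j] = lift i * lift j by simp [val]] at this
    exact ⟨h'.2, by rw [tail_val (tail_comm d lift gl hi hj) (central ξ hker this.symm), mul_inv_cancel_left]⟩

theorem step_sound : ∀ (u : List ℕ), (∀ q ∈ u, q < d.a.length) → ∀ v q, step d u = some (v, q) →
    (∀ x ∈ v, x < d.a.length) ∧ val lift u = val lift v * (tail d ξ lift gl q : Γ) := by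
  intro u
  induction u with
  | nil => intro _ v q h; simp [step] at h
  | cons x rest ih =>
    intro hu v q h
    have hx := hu x List.mem_cons_self
    obtain ⟨hpw, hpow, hcomm⟩ := rule_facts hker hL hb hx
    have hpwcase : (rest.take (d.p - 1) == List.replicate (d.p - 1) x && Nat.blt 0 d.p) = true →
        some (d.pow.getD x [] ++ rest.drop (d.p - 1), x) = some (v, q) →
        (∀ a ∈ v, a < d.a.length) ∧ val lift (x :: rest) = val lift v * (tail d ξ lift gl q : Γ) := by
      intro hc he
      simp only [Option.some.injEq, Prod.mk.injEq] at he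
      obtain ⟨rfl, rfl⟩ := he
      simp only [Bool.and_eq_true, beq_iff_eq, Nat.blt_eq] at hc
      refine ⟨fun a ha => ?_, ?_⟩
      · rcases List.mem_append.1 ha with ha | ha
        · exact hpw a ha
        · exact hu a (List.mem_cons_of_mem _ (List.drop_subset _ _ ha))
      · conv_lhs => rw [← List.take_append_drop (d.p - 1) rest, hc.1]
        rw [val_cons, val_append, show val lift (List.replicate (d.p - 1) x) = lift x ^ (d.p - 1) by simp [val],
          ← mul_assoc, ← pow_succ', show d.p - 1 + 1 = d.p by omega, hpow, val_append, mul_assoc, mul_assoc,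
          ← Subgroup.mem_center_iff.1 (tail d ξ lift gl x).2 (val lift (rest.drop (d.p - 1)))]
    have hrec : (match step d rest with | some (v, q) => some (x :: v, q) | none => none) = some (v, q) →
        (∀ a ∈ v, a < d.a.length) ∧ val lift (x :: rest) = val lift v * (tail d ξ lift gl q : Γ) := by
      intro h
      cases hs : step d rest with
      | none => simp [hs] at h
      | some r =>
        obtain ⟨v', q'⟩ := r
        simp only [hs, Option.some.injEq, Prod.mk.injEq] at h
        obtain ⟨rfl, rfl⟩ := h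
        obtain ⟨h1, h2⟩ := ih (fun a ha => hu a (List.mem_cons_of_mem _ ha)) _ _ hs
        exact ⟨by simpa [hx] using h1, by rw [val_cons, val_cons, h2, mul_assoc]⟩
    cases rest with
    | nil =>
      simp only [step] at h
      by_cases hc : (([] : List ℕ).take (d.p - 1) == List.replicate (d.p - 1) x && Nat.blt 0 d.p) = true
      · rw [if_pos hc] at h; exact hpwcase hc h
      · rw [if_neg hc] at h; simp at h
    | cons y rest' =>
      rw [step] at h
      by_cases hyx : Nat.blt y x = true
      · rw [if_pos hyx] at h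
        simp only [Option.some.injEq, Prod.mk.injEq] at h
        obtain ⟨rfl, rfl⟩ := h
        rw [Nat.blt_eq] at hyx
        obtain ⟨hw', hc⟩ := hcomm y hyx
        refine ⟨fun a ha => ?_, ?_⟩
        · rcases List.mem_append.1 ha with ha | ha
          · exact hw' a ha
          · exact hu a (List.mem_cons_of_mem _ (List.mem_cons_of_mem _ ha))
        · rw [val_cons, val_cons, ← mul_assoc, hc, val_append, mul_assoc, mul_assoc,
            ← Subgroup.mem_center_iff.1 (tail d ξ lift gl _).2 (val lift rest')]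
      · rw [if_neg hyx] at h
        by_cases hc : ((y :: rest').take (d.p - 1) == List.replicate (d.p - 1) x && Nat.blt 0 d.p) = true
        · rw [if_pos hc] at h; exact hpwcase hc h
        · rw [if_neg hc] at h; exact hrec h

theorem collect_sound : ∀ (fuel : ℕ) (u : List ℕ), (∀ q ∈ u, q < d.a.length) →
    (∀ q ∈ (collect d fuel u).1, q < d.a.length) ∧
    val lift u = val lift (collect d fuel u).1 * (((collect d fuel u).2.map (tail d ξ lift gl)).prod : Subgroup.center Γ) := by
  intro fuel
  induction fuel with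
  | zero => intro u hu; exact ⟨hu, by simp [collect]⟩
  | succ fuel ih =>
    intro u hu
    cases hs : step d u with
    | none => simp [collect, hs]; exact hu
    | some r =>
      obtain ⟨v, q⟩ := r
      obtain ⟨h1, h2⟩ := step_sound hker hL hb u hu v q hs
      obtain ⟨h3, h4⟩ := ih v h1
      simp only [collect, hs, List.map_cons, List.prod_cons, Subgroup.coe_mul]
      refine ⟨h3, ?_⟩
      rw [h2, h4, mul_assoc, Subgroup.mem_center_iff.1 (tail d ξ lift gl q).2]

theorem coll_sound {u : List ℕ} (hu : ∀ q ∈ u, q < d.a.length) :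
    (∀ q ∈ (coll d u).1, q < d.a.length) ∧
      val lift u = val lift (coll d u).1 * (ev (tail d ξ lift gl) (counts d (coll d u).2) : Subgroup.center Γ) := by
  rw [ev_counts]
  exact collect_sound hker hL hb _ u hu

theorem fus_facts {t : ℕ} (ht : t < d.fus.length) {i : ℕ} (hi : i < (d.fus.getD t ⟨(0, 0), [], []⟩).src.length) :
    (∀ q ∈ (d.fus.getD t ⟨(0, 0), [], []⟩).src.getD i [], q < d.a.length) ∧
    (∀ q ∈ (d.fus.getD t ⟨(0, 0), [], []⟩).img.getD i [], q < d.a.length) ∧
    gl t * val lift ((d.fus.getD t ⟨(0, 0), [], []⟩).src.getD i []) * (gl t)⁻¹ =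
      val lift ((d.fus.getD t ⟨(0, 0), [], []⟩).img.getD i []) * (tail d ξ lift gl (fusBase d t + i) : Γ) := by
  simp only [schurBaseOK, Bool.and_eq_true, List.all_eq_true] at hb
  have hmem : d.fus.getD t ⟨(0, 0), [], []⟩ ∈ d.fus := by
    rw [List.getD_eq_getElem _ _ ht]; exact List.getElem_mem ht
  obtain ⟨⟨⟨-, -⟩, -⟩, hall⟩ := hb.1.2 _ hmem
  have h := allBelow_spec _ _ hall i hi
  simp only [Bool.and_eq_true, List.all_eq_true, Nat.blt_eq] at h
  obtain ⟨⟨hs, h1⟩, h2⟩ := h
  refine ⟨h1, h2, ?_⟩
  set F := d.fus.getD t ⟨(0, 0), [], []⟩ with hF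
  have hA : ∀ j : Fin n, appC w (F.g.1 :: wcodes d (F.src.getD i [])) j =
      (ξ (gl t * val lift (F.src.getD i [])) j : ℕ) := fun j => by
    show get w F.g.1 (appC w _ (j : ℕ)) = _
    rw [word_code hL h1, hF, hL.gl_code t ht, map_mul, Equiv.Perm.mul_apply]
  have hB : ∀ j : Fin n, appC w (wcodes d (F.img.getD i []) ++ [F.g.1]) j =
      (ξ (val lift (F.img.getD i []) * gl t) j : ℕ) := fun j => by
    rw [appC, List.foldr_append]
    show appC w _ (get w F.g.1 j) = _
    rw [hF, hL.gl_code t ht, word_code hL h2, map_mul, Equiv.Perm.mul_apply]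
  have e := (sameC_eq hA hB).1 hs
  have e' : ξ (val lift (F.img.getD i [])) = ξ (gl t * val lift (F.src.getD i []) * (gl t)⁻¹) := by
    rw [map_mul, e, map_mul, map_inv, mul_inv_cancel_right]
  rw [tail_val (tail_fus d lift gl ht hi) (central ξ hker e'), mul_inv_cancel_left]

theorem fus_prod {t : ℕ} (ht : t < d.fus.length) :
    ∀ f : List ℕ, (∀ i ∈ f, i < (d.fus.getD t ⟨(0, 0), [], []⟩).src.length) →
      (∀ q ∈ words (d.fus.getD t ⟨(0, 0), [], []⟩).src f, q < d.a.length) ∧
      (∀ q ∈ words (d.fus.getD t ⟨(0, 0), [], []⟩).img f, q < d.a.length) ∧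
      gl t * val lift (words (d.fus.getD t ⟨(0, 0), [], []⟩).src f) * (gl t)⁻¹ =
        val lift (words (d.fus.getD t ⟨(0, 0), [], []⟩).img f) *
          (((fusVars d t f).map (tail d ξ lift gl)).prod : Subgroup.center Γ) := by
  intro f
  induction f with
  | nil => intro _; simp [words, fusVars, val]
  | cons i f ih =>
    intro hf
    obtain ⟨a1, a2, a3⟩ := fus_facts hker hL hb ht (hf i List.mem_cons_self)
    obtain ⟨b1, b2, b3⟩ := ih fun a ha => hf a (List.mem_cons_of_mem _ ha)
    refine ⟨?_, ?_, ?_⟩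
    · intro q hq
      simp only [words, List.flatMap_cons, List.mem_append] at hq
      exact hq.elim (a1 q) (b1 q)
    · intro q hq
      simp only [words, List.flatMap_cons, List.mem_append] at hq
      exact hq.elim (a2 q) (b2 q)
    · simp only [words, List.flatMap_cons, fusVars, List.map_cons, List.prod_cons, val_append, Subgroup.coe_mul]
      simp only [words, fusVars] at b3
      rw [show ∀ g a b : Γ, g * (a * b) * g⁻¹ = g * a * g⁻¹ * (g * b * g⁻¹) from fun g a b => by group, a3, b3,
        mul_assoc, ← mul_assoc (tail d ξ lift gl _ : Γ),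
        ← Subgroup.mem_center_iff.1 (tail d ξ lift gl (fusBase d t + i)).2, mul_assoc, mul_assoc]

theorem relVec_sound {r : Rel} (hr : (relVec d r).1 = true) (hok : ∀ a b c, r = .assoc a b c →
    (∀ q ∈ a ++ b ++ c, q < d.a.length)) : ev (tail d ξ lift gl) (relVec d r).2 = 1 := by
  refine Subtype.ext ?_
  cases r with
  | assoc a b c =>
    have hall := hok a b c rfl
    have ha : ∀ q ∈ a, q < d.a.length := fun q hq => hall q (by simp [hq])
    have hbb : ∀ q ∈ b, q < d.a.length := fun q hq => hall q (by simp [hq])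
    have hc : ∀ q ∈ c, q < d.a.length := fun q hq => hall q (by simp [hq])
    simp only [relVec, beq_iff_eq] at hr ⊢
    obtain ⟨hA, eA⟩ := coll_sound hker hL hb (u := a ++ b) fun q hq => (List.mem_append.1 hq).elim (ha q) (hbb q)
    obtain ⟨hB, eB⟩ := coll_sound hker hL hb (u := b ++ c) fun q hq => (List.mem_append.1 hq).elim (hbb q) (hc q)
    obtain ⟨-, eX⟩ := coll_sound hker hL hb (u := (coll d (a ++ b)).1 ++ c)
      fun q hq => (List.mem_append.1 hq).elim (hA q) (hc q)
    obtain ⟨-, eY⟩ := coll_sound hker hL hb (u := a ++ (coll d (b ++ c)).1)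
      fun q hq => (List.mem_append.1 hq).elim (ha q) (hB q)
    simp only [val_append, ev_counts] at eA eB eX eY
    rw [ev_vsub, ev_counts, ev_counts, List.map_append, List.map_append, List.prod_append, List.prod_append]
    set pA := ((coll d (a ++ b)).2.map (tail d ξ lift gl)).prod
    set pB := ((coll d (b ++ c)).2.map (tail d ξ lift gl)).prod
    set pX := ((coll d ((coll d (a ++ b)).1 ++ c)).2.map (tail d ξ lift gl)).prod
    set pY := ((coll d (a ++ (coll d (b ++ c)).1)).2.map (tail d ξ lift gl)).prod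
    have l : val lift a * val lift b * val lift c =
        val lift (coll d ((coll d (a ++ b)).1 ++ c)).1 * ((pA * pX : Subgroup.center Γ) : Γ) := by
      rw [eA, mul_assoc (val lift _), ← Subgroup.mem_center_iff.1 pA.2, ← mul_assoc, eX, Subgroup.coe_mul,
        mul_assoc, Subgroup.mem_center_iff.1 pA.2]
    have r' : val lift a * val lift b * val lift c =
        val lift (coll d (a ++ (coll d (b ++ c)).1)).1 * ((pB * pY : Subgroup.center Γ) : Γ) := by
      rw [mul_assoc, eB, ← mul_assoc, eY, Subgroup.coe_mul, mul_assoc, Subgroup.mem_center_iff.1 pB.2]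
    rw [hr, r'] at l
    have : pB * pY = pA * pX := Subtype.ext (mul_left_cancel l)
    rw [this, div_self']
  | fuse t f g =>
    simp only [relVec, Bool.and_eq_true, List.all_eq_true, Nat.blt_eq, beq_iff_eq] at hr ⊢
    obtain ⟨⟨⟨⟨ht, hf⟩, hg⟩, hAA⟩, hBB⟩ := hr
    obtain ⟨s1, i1, e1⟩ := fus_prod hker hL hb ht f hf
    obtain ⟨s2, i2, e2⟩ := fus_prod hker hL hb ht g hg
    have A := (coll_sound hker hL hb s1).2
    have A' := (coll_sound hker hL hb s2).2
    have B := (coll_sound hker hL hb i1).2
    have B' := (coll_sound hker hL hb i2).2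
    simp only [ev_counts] at A A' B B'
    rw [ev_vsub, ev_counts, ev_counts]
    simp only [List.map_append, List.prod_append]
    rw [A, B] at e1
    rw [A', B'] at e2
    rw [hAA] at e1
    rw [hBB] at e1
    generalize val lift (coll d (words (d.fus.getD t ⟨(0, 0), [], []⟩).src g)).1 = X at e1 e2
    generalize val lift (coll d (words (d.fus.getD t ⟨(0, 0), [], []⟩).img g)).1 = Y at e1 e2
    generalize ((fusVars d t f).map (tail d ξ lift gl)).prod = U at e1 ⊢
    generalize ((fusVars d t g).map (tail d ξ lift gl)).prod = U' at e2 ⊢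
    generalize ((coll d (words (d.fus.getD t ⟨(0, 0), [], []⟩).src f)).2.map (tail d ξ lift gl)).prod = a at e1 ⊢
    generalize ((coll d (words (d.fus.getD t ⟨(0, 0), [], []⟩).src g)).2.map (tail d ξ lift gl)).prod = a' at e2 ⊢
    generalize ((coll d (words (d.fus.getD t ⟨(0, 0), [], []⟩).img f)).2.map (tail d ξ lift gl)).prod = b at e1 ⊢
    generalize ((coll d (words (d.fus.getD t ⟨(0, 0), [], []⟩).img g)).2.map (tail d ξ lift gl)).prod = b' at e2 ⊢
    have key : ∀ (a b U : Subgroup.center Γ), gl t * (X * (a : Γ)) * (gl t)⁻¹ = Y * (b : Γ) * (U : Γ) →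
        gl t * X * (gl t)⁻¹ = Y * ((b * U / a : Subgroup.center Γ) : Γ) := by
      intro a b U h
      rw [show gl t * (X * (a : Γ)) * (gl t)⁻¹ = gl t * X * (gl t)⁻¹ * (a : Γ) by
        rw [← mul_assoc, mul_assoc _ (a : Γ), ← Subgroup.mem_center_iff.1 a.2, ← mul_assoc]] at h
      rw [div_eq_mul_inv, Subgroup.coe_mul, Subgroup.coe_mul, InvMemClass.coe_inv, ← mul_assoc, ← mul_assoc, ← h,
        mul_inv_cancel_right]
    have h1 := key _ _ _ e1
    rw [key _ _ _ e2] at h1
    have h3 : b' * U' / a' = b * U / a := Subtype.ext (mul_left_cancel h1)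
    rw [div_eq_div_iff_mul_eq_mul] at h3
    have h4 : U * b * a' = U' * b' * a := by rw [mul_comm U b, mul_comm U' b', ← h3]
    rw [h4, div_self']

variable (hr : rowsOK d = true)
  (hrel : d.rels.all (fun r => match r with
    | .assoc a b c => (a ++ b ++ c).all (fun q => Nat.blt q d.a.length) | .fuse .. => true) = true)

include hr hrel

theorem rows_sound : ∀ r ∈ d.rows, ev (tail d ξ lift gl) r.2.1 = 1 := by
  intro r hmem
  simp only [rowsOK, Bool.and_eq_true, List.all_eq_true, Nat.blt_eq, beq_iff_eq] at hr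
  obtain ⟨hlt, he⟩ := hr.2 r hmem
  rw [← he]
  refine ev_combine d _ ?_ _ hlt
  intro e hmem'
  obtain ⟨s, hs, rfl⟩ := List.mem_map.1 hmem'
  refine relVec_sound hker hL hb (hr.1 s hs) fun a b c hs' => ?_
  have := List.all_eq_true.1 hrel s hs
  rw [hs'] at this
  simp only [List.all_eq_true, Nat.blt_eq] at this
  exact this

theorem normal_sound {u : List ℕ} {v : List ℤ} (hu : ∀ q ∈ u, q < d.a.length) :
    tot d ξ lift gl (normal d u v) = tot d ξ lift gl (u, v) := by
  show val lift (coll d u).1 * _ = val lift u * _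
  rw [(coll_sound hker hL hb hu).2]
  simp only [normal, ev_reduce _ d.rows (rows_sound hker hL hb hr hrel), ev_vadd, Subgroup.coe_mul, mul_assoc]

theorem invGen_sound {i : ℕ} (hi : i < d.a.length) :
    (∀ q ∈ (invGen d i).1, q < d.a.length) ∧ tot d ξ lift gl (invGen d i) = (lift i)⁻¹ := by
  refine ⟨fun q hq => (List.eq_of_mem_replicate hq) ▸ hi, ?_⟩
  simp only [schurBaseOK, Bool.and_eq_true, List.all_eq_true] at hb
  have h := allBelow_spec _ _ hb.1.1.2 i hi
  simp only [Bool.and_eq_true, List.all_eq_true, Nat.blt_eq, beq_iff_eq] at h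
  have hb' : schurBaseOK w n d levels = true := by
    simp only [schurBaseOK, Bool.and_eq_true, List.all_eq_true]; exact hb
  have e := (coll_sound hker hL hb' (u := List.replicate (d.ords.getD i 1) i)
    fun q hq => (List.eq_of_mem_replicate hq) ▸ hi).2
  rw [h.1.2] at e
  simp only [val, List.map_nil, List.prod_nil, one_mul, List.map_replicate, List.prod_replicate] at e
  simp only [tot, invGen, ev_vsmul, zpow_neg_one, val, List.map_replicate, List.prod_replicate,
    InvMemClass.coe_inv, ← e]
  obtain ⟨m, hm⟩ : ∃ m, d.ords.getD i 1 = m + 1 := ⟨_, (Nat.succ_pred_eq_of_pos h.2).symm⟩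
  rw [hm, Nat.add_sub_cancel, pow_succ, mul_inv_rev, ← mul_assoc, ← inv_inv (lift i ^ m),
    ← mul_inv_rev]
  group

/-- The value of a listed generator of the derived group. -/
theorem gsProd_sound (hgs : ∀ s ∈ d.gs, ∀ q ∈ s.1, q < d.a.length) :
    ∀ ss : List ℕ, (∀ s ∈ ss, s < d.gs.length) →
      (∀ q ∈ (gsProd d ss).1, q < d.a.length) ∧
      tot d ξ lift gl (gsProd d ss) ∈ Submonoid.closure {x | ∃ s ∈ d.gs, x = tot d ξ lift gl s} := by
  intro ss
  induction ss with
  | nil =>
    intro _
    refine ⟨by simp [gsProd], ?_⟩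
    have : tot d ξ lift gl (gsProd d []) = 1 := by simp [tot, gsProd, val, ev_zero]
    rw [this]
    exact one_mem _
  | cons s ss ih =>
    intro hss
    obtain ⟨h1, h2⟩ := ih fun a ha => hss a (List.mem_cons_of_mem _ ha)
    have hs := hss s List.mem_cons_self
    have hmem : d.gs.getD s ([], []) ∈ d.gs := by rw [List.getD_eq_getElem _ _ hs]; exact List.getElem_mem hs
    refine ⟨fun q hq => ?_, ?_⟩
    · simp only [gsProd, List.mem_append] at hq
      exact hq.elim (hgs _ hmem q) (h1 q)
    · show tot d ξ lift gl ((d.gs.getD s ([], [])).1 ++ (gsProd d ss).1,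
        vadd (d.gs.getD s ([], [])).2 (gsProd d ss).2) ∈ _
      rw [tot_mul]
      exact mul_mem (Submonoid.subset_closure ⟨_, hmem, rfl⟩) h2

variable (hd : derivedOK w n d = true) [Finite Γ]

include hd

/-- Commutators in the preimage of the Sylow subgroup lying in the kernel are listed. -/
theorem derived_ker {P : Subgroup Γ}
    (hP : ∀ x ∈ P, ∃ u : List ℕ, (∀ q ∈ u, q < d.a.length) ∧ ξ x = ξ (val lift u))
    {z : Γ} (hz : z ∈ ⁅P, P⁆) (hzk : ξ z = 1) :
    z = 1 ∨ ∃ v ∈ d.ext, z = (ev (tail d ξ lift gl) v : Subgroup.center Γ) := by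
  simp only [derivedOK, Bool.and_eq_true, List.all_eq_true, List.any_eq_true, beq_iff_eq, Nat.blt_eq] at hd
  obtain ⟨⟨⟨⟨⟨t0, ht0, h0⟩, hgs⟩, hclos⟩, hwit⟩, helts⟩ := hd
  set T := {x : Γ | ∃ t ∈ d.elts, x = tot d ξ lift gl t}
  set H := Subgroup.closure {x | ∃ s ∈ d.gs, x = tot d ξ lift gl s}
  have h1T : (1 : Γ) ∈ T := ⟨t0, ht0, by
    rw [h0, normal_sound hker hL hb hr hrel (u := []) (by simp)]
    simp [tot, val, ev]⟩
  have hHT : ∀ x ∈ H, x ∈ T := by
    intro x hx
    let M : Submonoid Γ :=
      { carrier := {y | ∀ t ∈ T, t * y ∈ T}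
        one_mem' := fun t ht => by rwa [mul_one]
        mul_mem' := fun {a b} ha hb t ht => by rw [← mul_assoc]; exact hb _ (ha t ht) }
    have hgen : {x | ∃ s ∈ d.gs, x = tot d ξ lift gl s} ⊆ (M : Set Γ) := by
      rintro _ ⟨s, hs, rfl⟩ _ ⟨t, ht, rfl⟩
      obtain ⟨t', ht', he⟩ := hclos t ht s hs
      refine ⟨t', ht', ?_⟩
      rw [← he, normal_sound hker hL hb hr hrel]
      · exact (tot_mul ξ lift gl t.1 s.1 t.2 s.2).symm
      · intro q hq
        exact (List.mem_append.1 hq).elim ((helts t ht).1 q) (hgs s hs q)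
    have hx' : x ∈ (Submonoid.closure {x | ∃ s ∈ d.gs, x = tot d ξ lift gl s} : Set Γ) := by
      rw [← closure_carrier]; exact hx
    simpa using Submonoid.closure_le.2 hgen hx' 1 h1T
  have hsub : ∀ {x : Γ}, x ∈ Submonoid.closure {x | ∃ s ∈ d.gs, x = tot d ξ lift gl s} → x ∈ H :=
    fun {x} hx => by
      have : x ∈ (H : Set Γ) := by rw [closure_carrier]; exact hx
      exact this
  have hcommH : ∀ i < d.a.length, ∀ j < i, ⁅lift i, lift j⁆ ∈ H := by
    intro i hi j hj
    have h := allBelow_spec _ _ (Bool.and_eq_true _ _ |>.mp (allBelow_spec _ _ hwit i hi)).1 j hj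
    simp only [Bool.and_eq_true, List.all_eq_true, Nat.blt_eq, beq_iff_eq] at h
    obtain ⟨hI, eI⟩ := invGen_sound hker hL hb hr hrel hi
    obtain ⟨hJ, eJ⟩ := invGen_sound hker hL hb hr hrel (hj.trans hi)
    obtain ⟨hW, hmem⟩ := gsProd_sound hker hL hb hr hrel hgs _ h.1
    have e := congrArg (tot d ξ lift gl) h.2
    rw [normal_sound hker hL hb hr hrel (fun q hq => by
        simp only [List.mem_cons, List.mem_append] at hq
        rcases hq with rfl | rfl | hq | hq
        exacts [hi, hj.trans hi, hI q hq, hJ q hq]),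
      normal_sound hker hL hb hr hrel hW] at e
    have e2 : tot d ξ lift gl (i :: j :: ((invGen d i).1 ++ (invGen d j).1), vadd (invGen d i).2 (invGen d j).2) =
        lift i * (lift j * tot d ξ lift gl ((invGen d i).1 ++ (invGen d j).1, vadd (invGen d i).2 (invGen d j).2)) := by
      simp [tot, val_cons, mul_assoc]
    rw [e2, tot_mul, show ((invGen d i).1, (invGen d i).2) = invGen d i from rfl,
      show ((invGen d j).1, (invGen d j).2) = invGen d j from rfl, eI, eJ] at e
    rw [commutatorElement_def, show lift i * lift j * (lift i)⁻¹ * (lift j)⁻¹ =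
      lift i * (lift j * ((lift i)⁻¹ * (lift j)⁻¹)) by group, e]
    exact hsub hmem
  have hconjH : ∀ i < d.a.length, ∀ x ∈ H, lift i * x * (lift i)⁻¹ ∈ H := by
    intro i hi
    have hle : H ≤ H.comap (MulAut.conj (lift i)).toMonoidHom := by
      refine (Subgroup.closure_le _).2 ?_
      rintro _ ⟨s, hs, rfl⟩
      obtain ⟨k, hk, rfl⟩ := List.mem_iff_getElem.1 hs
      have h := allBelow_spec _ _ (Bool.and_eq_true _ _ |>.mp (allBelow_spec _ _ hwit i hi)).2 k hk
      simp only [Bool.and_eq_true, List.all_eq_true, Nat.blt_eq, beq_iff_eq, List.getD_eq_getElem _ _ hk] at h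
      obtain ⟨hI, eI⟩ := invGen_sound hker hL hb hr hrel hi
      obtain ⟨hW, hmem⟩ := gsProd_sound hker hL hb hr hrel hgs _ h.1
      have e := congrArg (tot d ξ lift gl) h.2
      rw [normal_sound hker hL hb hr hrel (fun q hq => by
          simp only [List.mem_cons, List.cons_append, List.mem_append] at hq
          rcases hq with rfl | hq | hq
          exacts [hi, hgs _ hs q hq, hI q hq]),
        normal_sound hker hL hb hr hrel hW, tot_mul,
        show ((invGen d i).1, (invGen d i).2) = invGen d i from rfl, eI] at e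
      show lift i * tot d ξ lift gl d.gs[k] * (lift i)⁻¹ ∈ H
      rw [show lift i * tot d ξ lift gl d.gs[k] = tot d ξ lift gl (i :: d.gs[k].1, d.gs[k].2) by
        simp [tot, val_cons, mul_assoc], e]
      exact hsub hmem
    exact fun x hx => hle hx
  have hcg : ∀ i < d.a.length, ∀ j < d.a.length, ⁅lift i, lift j⁆ ∈ H := by
    intro i hi j hj
    rcases lt_trichotomy j i with h | h | h
    · exact hcommH i hi j h
    · subst h; rw [commutatorElement_self]; exact one_mem _
    · rw [← commutatorElement_inv]; exact inv_mem (hcommH j hj i h)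
  have hconjV : ∀ u : List ℕ, (∀ q ∈ u, q < d.a.length) → ∀ x ∈ H, val lift u * x * (val lift u)⁻¹ ∈ H := by
    intro u
    induction u with
    | nil => intro _ x hx; simpa [val] using hx
    | cons i u ih =>
      intro hu x hx
      rw [val_cons, show lift i * val lift u * x * (lift i * val lift u)⁻¹ =
        lift i * (val lift u * x * (val lift u)⁻¹) * (lift i)⁻¹ by group]
      exact hconjH i (hu i List.mem_cons_self) _ (ih (fun a ha => hu a (List.mem_cons_of_mem _ ha)) x hx)
  have hc1 : ∀ i < d.a.length, ∀ v : List ℕ, (∀ q ∈ v, q < d.a.length) → ⁅lift i, val lift v⁆ ∈ H := by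
    intro i hi v
    induction v with
    | nil => intro _; simp [val]
    | cons j v ih =>
      intro hv
      rw [val_cons, commutatorElement_def, show lift i * (lift j * val lift v) * (lift i)⁻¹ * (lift j * val lift v)⁻¹ =
        ⁅lift i, lift j⁆ * (lift j * ⁅lift i, val lift v⁆ * (lift j)⁻¹) by simp only [commutatorElement_def]; group]
      exact mul_mem (hcg i hi j (hv j List.mem_cons_self))
        (hconjH j (hv j List.mem_cons_self) _ (ih fun a ha => hv a (List.mem_cons_of_mem _ ha)))
  have hc2 : ∀ u : List ℕ, (∀ q ∈ u, q < d.a.length) → ∀ v : List ℕ, (∀ q ∈ v, q < d.a.length) →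
      ⁅val lift u, val lift v⁆ ∈ H := by
    intro u
    induction u with
    | nil => intro _ v _; simp [val]
    | cons i u ih =>
      intro hu v hv
      rw [val_cons, commutatorElement_def, show lift i * val lift u * val lift v * (lift i * val lift u)⁻¹ * (val lift v)⁻¹ =
        lift i * ⁅val lift u, val lift v⁆ * (lift i)⁻¹ * ⁅lift i, val lift v⁆ by simp only [commutatorElement_def]; group]
      exact mul_mem (hconjH i (hu i List.mem_cons_self) _ (ih (fun a ha => hu a (List.mem_cons_of_mem _ ha)) v hv))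
        (hc1 i (hu i List.mem_cons_self) v hv)
  have hle : ⁅P, P⁆ ≤ H := by
    rw [Subgroup.commutator_le]
    intro x hx y hy
    obtain ⟨u, hu, hxu⟩ := hP x hx
    obtain ⟨v, hv, hyv⟩ := hP y hy
    obtain ⟨c, hc, rfl⟩ : ∃ c ∈ Subgroup.center Γ, x = c * val lift u :=
      ⟨x * (val lift u)⁻¹, hker (by rw [MonoidHom.mem_ker, map_mul, map_inv, hxu, mul_inv_cancel]), by group⟩
    obtain ⟨c', hc', rfl⟩ : ∃ c ∈ Subgroup.center Γ, y = c * val lift v :=
      ⟨y * (val lift v)⁻¹, hker (by rw [MonoidHom.mem_ker, map_mul, map_inv, hyv, mul_inv_cancel]), by group⟩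
    have e1 : ∀ {c : Γ}, c ∈ Subgroup.center Γ → ∀ a b : Γ, ⁅c * a, b⁆ = ⁅a, b⁆ := fun {c} hc a b => by
      rw [commutatorElement_def, show c * a * b * (c * a)⁻¹ = c * (a * b * a⁻¹) * c⁻¹ by group,
        ← Subgroup.mem_center_iff.1 hc (a * b * a⁻¹), mul_inv_cancel_right, commutatorElement_def]
    rw [e1 hc, ← commutatorElement_inv, e1 hc', commutatorElement_inv]
    exact hc2 u hu v hv
  obtain ⟨t, ht, rfl⟩ := hHT z (hle hz)
  obtain ⟨htq, hcase⟩ := helts t ht
  have hval : ξ (val lift t.1) = 1 := by
    have : ξ ((ev (tail d ξ lift gl) t.2 : Subgroup.center Γ) : Γ) = 1 := ev_tail_ker d ξ lift gl t.2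
    rw [tot, map_mul, this, mul_one] at hzk
    exact hzk
  simp only [Bool.or_eq_true, Bool.not_eq_true', Bool.and_eq_true, beq_iff_eq] at hcase
  rcases hcase with hne | ⟨hnil, hv⟩
  · exfalso
    have := (sameC_eq (B := []) (y := (1 : Equiv.Perm (Fin n))) (word_code hL htq) (by simp [appC])).2 hval
    rw [hne] at this
    exact Bool.noConfusion this
  · rcases hv with hv | hv
    · left
      rw [tot, hnil, hv, ev_reduce _ d.rows (rows_sound hker hL hb hr hrel), ev_zero]
      simp [val]
    · right
      refine ⟨t.2, List.contains_iff_mem.1 hv, ?_⟩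
      rw [tot, hnil]
      simp [val]

omit hker hL hb hr hrel hd

open Classical in
/-- All checks together: a fixed power of each kernel element inside the commutator subgroup is trivial or
equal to the value of the exceptional vector. -/
theorem kill [NeZero n] {gens : List Elt} {derived : List (Elt × List ℕ)}
    (hc : checkCert w n gens derived levels = true) (hb : schurBaseOK w n d levels = true)
    (hr : rowsOK d = true)
    (hrel : d.rels.all (fun r => match r with
      | .assoc a b c => (a ++ b ++ c).all (fun q => Nat.blt q d.a.length) | .fuse .. => true) = true)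
    (hd : derivedOK w n d = true) (ξ : Γ →* Equiv.Perm (Fin n)) (hker : ξ.ker ≤ Subgroup.center Γ)
    (hrange : ξ.range = genGroup w n gens) :
    ∃ S : Finset Γ, S.card ≤ d.ext.length + 1 ∧
      ∀ z ∈ ξ.ker ⊓ commutator Γ, z ^ (certOrder levels / certOrder d.levels) ∈ S := by
  have hb' := hb
  simp only [schurBaseOK, Bool.and_eq_true, List.all_eq_true] at hb'
  obtain ⟨⟨⟨⟨⟨-, hcd⟩, hsift⟩, -⟩, hfus⟩, -⟩ := hb'
  have hcd' := hcd
  simp only [checkCert, Bool.and_eq_true, List.all_eq_true] at hcd'
  have hval : ∀ e ∈ d.a, validElt w n e = true := hcd'.1.1.1.1.2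
  have hmem : ∀ e, validElt w n e = true → sift w n levels e.1 = true → ∃ x : Γ, ξ x = toPerm w n e :=
    fun e h1 h2 => MonoidHom.mem_range.1 (hrange ▸ cert_mem hc h1 h2)
  let lift : ℕ → Γ := fun q =>
    if h : ∃ x : Γ, ξ x = toPerm w n (d.a.getD q (0, 0)) then h.choose else 1
  let gl : ℕ → Γ := fun t =>
    if h : ∃ x : Γ, ξ x = toPerm w n (d.fus.getD t ⟨(0, 0), [], []⟩).g then h.choose else 1
  have hamem : ∀ q < d.a.length, d.a.getD q (0, 0) ∈ d.a := fun q hq => by
    rw [List.getD_eq_getElem _ _ hq]; exact List.getElem_mem hq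
  have hlift : ∀ q < d.a.length, ξ (lift q) = toPerm w n (d.a.getD q (0, 0)) := fun q hq => by
    have h := hmem _ (hval _ (hamem q hq)) (hsift _ (hamem q hq))
    simp only [lift, dif_pos h]
    exact h.choose_spec
  have hfmem : ∀ t < d.fus.length, d.fus.getD t ⟨(0, 0), [], []⟩ ∈ d.fus := fun t ht => by
    rw [List.getD_eq_getElem _ _ ht]; exact List.getElem_mem ht
  have hgl : ∀ t < d.fus.length, ξ (gl t) = toPerm w n (d.fus.getD t ⟨(0, 0), [], []⟩).g := fun t ht => by
    obtain ⟨⟨⟨h1, h2⟩, -⟩, -⟩ := hfus _ (hfmem t ht)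
    have h := hmem _ h1 h2
    simp only [gl, dif_pos h]
    exact h.choose_spec
  have hL : Lifts w n d ξ lift gl :=
    { lift_code := fun q hq j => by rw [hlift q hq]; exact ((rep_toPerm (hval _ (hamem q hq))) j).1
      gl_code := fun t ht j => by
        rw [hgl t ht]; exact ((rep_toPerm (hfus _ (hfmem t ht)).1.1.1) j).1 }
  set U := genGroup w n d.a with hU
  have hUle : U ≤ genGroup w n gens := by
    refine (Subgroup.closure_le _).2 ?_
    intro σ hσ
    obtain ⟨e, he, rfl⟩ := List.mem_map.1 hσ
    exact cert_mem hc (hval e he) (hsift e he)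
  set P := U.comap ξ with hPdef
  have hP : ∀ x ∈ P, ∃ u : List ℕ, (∀ q ∈ u, q < d.a.length) ∧ ξ x = ξ (val lift u) := by
    intro x hx
    suffices ∀ σ ∈ Submonoid.closure {σ : Equiv.Perm (Fin n) | σ ∈ d.a.map (toPerm w n)},
        ∃ u : List ℕ, (∀ q ∈ u, q < d.a.length) ∧ σ = ξ (val lift u) by
      refine this _ ?_
      have hx' : ξ x ∈ (U : Set (Equiv.Perm (Fin n))) := hx
      rw [hU, genGroup, closure_carrier] at hx'
      exact hx'
    intro σ hσ
    induction hσ using Submonoid.closure_induction with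
    | mem s hs =>
      obtain ⟨e, he, rfl⟩ := List.mem_map.1 hs
      obtain ⟨i, hi, rfl⟩ := List.mem_iff_getElem.1 he
      refine ⟨[i], by simpa using hi, ?_⟩
      rw [show val lift [i] = lift i by simp [val], hlift i hi, List.getD_eq_getElem _ _ hi]
    | one => exact ⟨[], by simp, by simp [val]⟩
    | mul a b _ _ iha ihb =>
      obtain ⟨u, hu, rfl⟩ := iha
      obtain ⟨v, hv, rfl⟩ := ihb
      exact ⟨u ++ v, fun q hq => (List.mem_append.1 hq).elim (hu q) (hv q), by rw [val_append, map_mul]⟩
  have hidx : P.index = certOrder levels / certOrder d.levels := by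
    rw [hPdef, Subgroup.index_comap, hrange, ← cert_card hc, ← cert_card hcd]
    have h := Subgroup.card_mul_index (U.subgroupOf (genGroup w n gens))
    rw [Nat.card_congr (Subgroup.subgroupOfEquivOfLe hUle).toEquiv] at h
    rw [← h, Nat.mul_div_cancel_left _ Nat.card_pos]
    rfl
  refine ⟨insert 1 (d.ext.map fun v => ((ev (tail d ξ lift gl) v : Subgroup.center Γ) : Γ)).toFinset, ?_,
    fun z hz => ?_⟩
  · refine (Finset.card_insert_le _ _).trans (Nat.add_le_add_right ?_ 1)
    exact (List.toFinset_card_le _).trans (by rw [List.length_map])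
  · obtain ⟨hzk, hzc⟩ := hz
    have hzξ : ξ z = 1 := hzk
    have : P.FiniteIndex := ⟨Subgroup.index_ne_zero_of_finite⟩
    let τ : Γ →* Abelianization P := MonoidHom.transfer Abelianization.of
    have h1 : τ z = 1 := Abelianization.commutator_subset_ker τ hzc
    have h2 : τ z = Abelianization.of ⟨z ^ P.index, by simp [P, Subgroup.mem_comap, hzξ]⟩ :=
      MonoidHom.transfer_eq_pow _ z fun k g _ => by
        rw [mul_assoc, ← Subgroup.mem_center_iff.mp ((Subgroup.center Γ).pow_mem (hker hzk) k) g,
          inv_mul_cancel_left]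
    rw [h1] at h2
    have h3 := h2.symm
    rw [← MonoidHom.mem_ker, Abelianization.ker_of] at h3
    have h4 : z ^ P.index ∈ ⁅P, P⁆ := by
      rw [← Subgroup.map_subtype_commutator]; exact ⟨_, h3, rfl⟩
    rw [← hidx]
    rcases derived_ker hker hL hb hr hrel hd hP h4 (by rw [map_pow, hzξ, one_pow]) with h | ⟨v, hv, h⟩
    · rw [h]; exact Finset.mem_insert_self _ _
    · rw [h]; exact Finset.mem_insert_of_mem (List.mem_toFinset.2 (List.mem_map.2 ⟨v, hv, rfl⟩))

end Cfsg.Agent.PermSchur
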