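import Cfsg.Agent.Lib.Compute.SchurFast

/-! The derived group check with the positions of the products listed. -/

set_option autoImplicit false

namespace Cfsg.Agent.PermSchur

open Cfsg.Agent.PermCert

variable (w n : ℕ) (d : SchurData) (FD : FastData)

/-- The listed elements are closed under the generators, with positions listed. -/
def closeWit (wit : List (List ℕ)) : Bool :=
  Nat.beq wit.length d.elts.length && (d.elts.zip wit).all fun tw =>
    allBelow (fun j => Nat.blt (tw.2.getD j 0) d.elts.length &&
      (normal2 d FD (tw.1.1 ++ (d.gs.getD j ([], [])).1) (vadd tw.1.2 (d.gs.getD j ([], [])).2) ==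
        d.elts.getD (tw.2.getD j 0) ([], []))) d.gs.length

/-- The derived group check with positions. -/
def derivedWit (wit : List (List ℕ)) : Bool :=
  d.elts.any (fun t => t == normal2 d FD [] []) &&
  d.gs.all (fun s => s.1.all fun q => Nat.blt q d.a.length) &&
  closeWit d FD wit &&
  allBelow (fun i =>
    allBelow (fun j =>
      let I := invGen2 d FD i
      let J := invGen2 d FD j
      let W := gsProd2 d ((d.commWit.getD i []).getD j [])
      ((d.commWit.getD i []).getD j []).all (fun q => Nat.blt q d.gs.length) &&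
        normal2 d FD (i :: j :: (I.1 ++ J.1)) (vadd I.2 J.2) == normal2 d FD W.1 W.2) i &&
    allBelow (fun s =>
      let I := invGen2 d FD i
      let W := gsProd2 d ((d.conjWit.getD i []).getD s [])
      ((d.conjWit.getD i []).getD s []).all (fun q => Nat.blt q d.gs.length) &&
        normal2 d FD ((i :: (d.gs.getD s ([], [])).1) ++ I.1) (vadd (d.gs.getD s ([], [])).2 I.2) == normal2 d FD W.1 W.2)
      d.gs.length) d.a.length &&
  d.elts.all (fun t => t.1.all (fun q => Nat.blt q d.a.length) &&
    (!sameC w n (wcodes d t.1) [] ||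
      (t.1 == [] && (t.2 == reduce FD.small (List.replicate FD.cols.length 0) || d.ext.contains t.2))))

theorem derivedFast_of_wit {wit : List (List ℕ)} (h : derivedWit w n d FD wit = true) :
    derivedFast w n d FD = true := by
  simp only [derivedWit, closeWit, Bool.and_eq_true] at h
  obtain ⟨⟨⟨⟨h1, h2⟩, hlen, h3⟩, h4⟩, h5⟩ := h
  simp only [derivedFast, Bool.and_eq_true]
  refine ⟨⟨⟨⟨h1, h2⟩, List.all_eq_true.2 fun t ht => List.all_eq_true.2 fun s hs => ?_⟩, h4⟩, h5⟩
  obtain ⟨i, hi, rfl⟩ := List.mem_iff_getElem.1 ht
  obtain ⟨j, hj, rfl⟩ := List.mem_iff_getElem.1 hs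
  rw [Nat.beq_eq] at hlen
  have hz := List.all_eq_true.1 h3 (d.elts[i], wit[i]'(hlen ▸ hi))
    (List.mem_iff_getElem.2 ⟨i, by rw [List.length_zip]; omega, List.getElem_zip⟩)
  have hj' := allBelow_spec _ _ hz j hj
  simp only [Bool.and_eq_true, Nat.blt_eq, beq_iff_eq] at hj'
  rw [List.getD_eq_getElem _ _ hj] at hj'
  rw [List.getD_eq_getElem _ _ hj'.1] at hj'
  exact List.any_eq_true.2 ⟨_, List.getElem_mem hj'.1, beq_iff_eq.2 hj'.2⟩

/-- The checks of the derived group not going through the elements. -/
def witHead : Bool :=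
  d.elts.any (fun t => t == normal2 d FD [] []) &&
  d.gs.all (fun s => s.1.all fun q => Nat.blt q d.a.length) &&
  allBelow (fun i =>
    allBelow (fun j =>
      let I := invGen2 d FD i
      let J := invGen2 d FD j
      let W := gsProd2 d ((d.commWit.getD i []).getD j [])
      ((d.commWit.getD i []).getD j []).all (fun q => Nat.blt q d.gs.length) &&
        normal2 d FD (i :: j :: (I.1 ++ J.1)) (vadd I.2 J.2) == normal2 d FD W.1 W.2) i &&
    allBelow (fun s =>
      let I := invGen2 d FD i
      let W := gsProd2 d ((d.conjWit.getD i []).getD s [])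
      ((d.conjWit.getD i []).getD s []).all (fun q => Nat.blt q d.gs.length) &&
        normal2 d FD ((i :: (d.gs.getD s ([], [])).1) ++ I.1) (vadd (d.gs.getD s ([], [])).2 I.2) == normal2 d FD W.1 W.2)
      d.gs.length) d.a.length

/-- The check of one element with the positions of its products. -/
def witClose (tw : (List ℕ × List ℤ) × List ℕ) : Bool :=
  allBelow (fun j => Nat.blt (tw.2.getD j 0) d.elts.length &&
    (normal2 d FD (tw.1.1 ++ (d.gs.getD j ([], [])).1) (vadd tw.1.2 (d.gs.getD j ([], [])).2) ==
      d.elts.getD (tw.2.getD j 0) ([], []))) d.gs.length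

/-- The check that an element with trivial image is listed. -/
def witKer (t : List ℕ × List ℤ) : Bool :=
  t.1.all (fun q => Nat.blt q d.a.length) &&
    (!sameC w n (wcodes d t.1) [] ||
      (t.1 == [] && (t.2 == reduce FD.small (List.replicate FD.cols.length 0) || d.ext.contains t.2)))

/-- The `i`-th block of `k` entries. -/
def block {α : Type*} (k i : ℕ) (l : List α) : List α := (l.drop (k * i)).take k

theorem all_of_blocks {α : Type*} (f : α → Bool) (k : ℕ) : ∀ (m : ℕ) (l : List α), l.length ≤ k * m →
    (∀ i < m, (block k i l).all f = true) → l.all f = true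
  | 0, l, hl, _ => by
    simp [List.eq_nil_of_length_eq_zero (show l.length = 0 by simpa using hl)]
  | m + 1, l, hl, h => by
    rw [← List.take_append_drop k l, List.all_append, Bool.and_eq_true]
    refine ⟨by simpa [block] using h 0 (by omega), all_of_blocks f k m (l.drop k) ?_ fun i hi => ?_⟩
    · rw [List.length_drop]
      rw [Nat.mul_succ] at hl
      omega
    · have e : block k i (l.drop k) = block k (i + 1) l := by
        rw [block, block, List.drop_drop, Nat.mul_succ, Nat.add_comm]
      rw [e]
      exact h _ (by omega)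

theorem derivedFast_of_blocks {wit : List (List ℕ)} (k m k' m' : ℕ)
    (hlen : (Nat.beq wit.length d.elts.length && Nat.ble d.elts.length (k * m) &&
      Nat.ble d.elts.length (k' * m')) = true)
    (h0 : witHead d FD = true)
    (h1 : ∀ i < m, (block k i (d.elts.zip wit)).all (witClose d FD) = true)
    (h2 : ∀ i < m', (block k' i d.elts).all (witKer w n d FD) = true) :
    derivedFast w n d FD = true := by
  simp only [Bool.and_eq_true, Nat.beq_eq, Nat.ble_eq] at hlen
  obtain ⟨⟨hl, hm⟩, hm'⟩ := hlen
  refine derivedFast_of_wit w n d FD (wit := wit) ?_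
  simp only [witHead, Bool.and_eq_true] at h0
  obtain ⟨⟨a1, a2⟩, a3⟩ := h0
  simp only [derivedWit, closeWit, Bool.and_eq_true, Nat.beq_eq]
  exact ⟨⟨⟨⟨a1, a2⟩, hl, all_of_blocks _ k m _ (by rw [List.length_zip]; omega) h1⟩, a3⟩,
    all_of_blocks _ k' m' _ hm' h2⟩

/-- The checks on full tail vectors not going through the elements. -/
def fullHead : Bool :=
  d.elts.any (fun t => t == normal d [] []) &&
  d.gs.all (fun s => s.1.all fun q => Nat.blt q d.a.length) &&
  allBelow (fun i =>
    allBelow (fun j =>
      let I := invGen d i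
      let J := invGen d j
      let W := gsProd d ((d.commWit.getD i []).getD j [])
      ((d.commWit.getD i []).getD j []).all (fun q => Nat.blt q d.gs.length) &&
        normal d (i :: j :: (I.1 ++ J.1)) (vadd I.2 J.2) == normal d W.1 W.2) i &&
    allBelow (fun s =>
      let I := invGen d i
      let W := gsProd d ((d.conjWit.getD i []).getD s [])
      ((d.conjWit.getD i []).getD s []).all (fun q => Nat.blt q d.gs.length) &&
        normal d ((i :: (d.gs.getD s ([], [])).1) ++ I.1) (vadd (d.gs.getD s ([], [])).2 I.2) == normal d W.1 W.2)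
      d.gs.length) d.a.length

/-- One element times the generators stays listed. -/
def fullClose (t : List ℕ × List ℤ) : Bool :=
  d.gs.all fun s => d.elts.any fun t' => normal d (t.1 ++ s.1) (vadd t.2 s.2) == t'

/-- An element with trivial image is listed. -/
def fullKer (t : List ℕ × List ℤ) : Bool :=
  t.1.all (fun q => Nat.blt q d.a.length) &&
    (!sameC w n (wcodes d t.1) [] ||
      (t.1 == [] && (t.2 == reduce d.rows (List.replicate d.nv 0) || d.ext.contains t.2)))

theorem derivedOK_of_blocks (k m k' m' : ℕ)
    (hlen : (Nat.ble d.elts.length (k * m) && Nat.ble d.elts.length (k' * m')) = true)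
    (h0 : fullHead d = true)
    (h1 : ∀ i < m, (block k i d.elts).all (fullClose d) = true)
    (h2 : ∀ i < m', (block k' i d.elts).all (fullKer w n d) = true) :
    derivedOK w n d = true := by
  simp only [Bool.and_eq_true, Nat.ble_eq] at hlen
  simp only [fullHead, Bool.and_eq_true] at h0
  obtain ⟨⟨a1, a2⟩, a3⟩ := h0
  simp only [derivedOK, Bool.and_eq_true]
  exact ⟨⟨⟨⟨a1, a2⟩, all_of_blocks _ k m _ hlen.1 h1⟩, a3⟩, all_of_blocks _ k' m' _ hlen.2 h2⟩

end Cfsg.Agent.PermSchur
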