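import Mathlib.Data.List.GetD
import Mathlib.GroupTheory.Index
import Mathlib.GroupTheory.Subgroup.Center
import Mathlib.Algebra.Group.Subgroup.Finite

/-!
# Checked coset tables

A certificate consists of a coset table on `0, …, n-1` for the letters `2i` (the `i`-th generator)
and `2i+1` (its inverse), a spanning tree, and deduction steps: a relator read from a coset
all of whose edges but one are already known gives the last edge.  If every edge is known, the
subgroup has index at most `n`.
-/

set_option autoImplicit false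

namespace Cfsg.Agent.TableCert

/-- The inverse letter. -/
def flipL (l : ℕ) : ℕ := if l % 2 = 0 then l + 1 else l - 1

/-- A coset table certificate. -/
structure Cert where
  n : ℕ
  tab : List (List ℕ)
  tree : List (ℕ × ℕ)
  rels : List (List ℕ)
  sub : List ℕ
  steps : List (ℕ × ℕ × ℕ)

/-- The target of an edge. -/
def Cert.next (C : Cert) (c l : ℕ) : ℕ := (C.tab.getD l []).getD c C.n

/-- The end point of a path. -/
def Cert.endAt (C : Cert) : ℕ → List ℕ → ℕ
  | c, [] => c
  | c, l :: w => C.endAt (C.next c l) w

/-- All edges of a path are among the known ones. -/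
def Cert.allKnown (C : Cert) (K : List (ℕ × ℕ)) : ℕ → List ℕ → Bool
  | _, [] => true
  | c, l :: w => K.contains (c, l) && C.allKnown K (C.next c l) w

/-- An edge together with its reverse, if the table is consistent there. -/
def Cert.withRev (C : Cert) (c l : ℕ) : List (ℕ × ℕ) :=
  if C.next (C.next c l) (flipL l) = c then [(c, l), (C.next c l, flipL l)] else [(c, l)]

/-- One deduction. -/
def Cert.step (C : Cert) (K : List (ℕ × ℕ)) (s : ℕ × ℕ × ℕ) : List (ℕ × ℕ) :=
  let w := C.rels.getD s.2.1 []
  if s.2.2 < w.length ∧ C.endAt s.1 w = s.1 ∧ C.allKnown K s.1 (w.take s.2.2) = true ∧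
      C.allKnown K (C.next (C.endAt s.1 (w.take s.2.2)) (w.getD s.2.2 0)) (w.drop (s.2.2 + 1)) = true
  then C.withRev (C.endAt s.1 (w.take s.2.2)) (w.getD s.2.2 0) ++ K else K

/-- The edges known at the start: the subgroup's generators at the coset `0` and the tree. -/
def Cert.start (C : Cert) : List (ℕ × ℕ) :=
  (C.sub.flatMap fun l => if C.next 0 l = 0 then C.withRev 0 l else []) ++
    (List.range C.tree.length).flatMap fun j =>
      if (C.tree.getD j (0, 0)).1 ≤ j ∧
          C.next (C.tree.getD j (0, 0)).1 (C.tree.getD j (0, 0)).2 = j + 1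
      then C.withRev (C.tree.getD j (0, 0)).1 (C.tree.getD j (0, 0)).2 else []

/-- The complete check. -/
def Cert.check (C : Cert) : Bool :=
  decide (0 < C.n) &&
  let K := C.steps.foldl C.step C.start
  (List.range C.n).all fun c => (List.range C.tab.length).all fun l =>
    K.contains (c, l) && decide (C.next c l < C.n)

variable {G : Type*} [Group G] (g : List G)

/-- The value of a letter. -/
def letter (l : ℕ) : G := if l % 2 = 0 then g.getD (l / 2) 1 else (g.getD (l / 2) 1)⁻¹

/-- The value of a word. -/
def wval : List ℕ → G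
  | [] => 1
  | l :: w => letter g l * wval w

theorem letter_flipL (l : ℕ) : letter g (flipL l) = (letter g l)⁻¹ := by
  rcases Nat.mod_two_eq_zero_or_one l with h | h
  · have h1 : (l + 1) % 2 = 1 := by omega
    have h2 : (l + 1) / 2 = l / 2 := by omega
    simp [letter, flipL, h, h1, h2]
  · have h1 : (l - 1) % 2 = 0 := by omega
    have h2 : (l - 1) / 2 = l / 2 := by omega
    simp [letter, flipL, h, h1, h2]

theorem wval_append (u v : List ℕ) : wval g (u ++ v) = wval g u * wval g v := by
  induction u with
  | nil => simp [wval]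
  | cons l u ih => simp [wval, ih, mul_assoc]

/-- The representatives read from the tree. -/
def rep (C : Cert) : ℕ → G
  | 0 => 1
  | j + 1 =>
    if h : (C.tree.getD j (0, 0)).1 ≤ j then
      have : (C.tree.getD j (0, 0)).1 < j + 1 := Nat.lt_succ_of_le h
      rep C (C.tree.getD j (0, 0)).1 * letter g (C.tree.getD j (0, 0)).2
    else 1
  termination_by c => c

variable (C : Cert) (H : Subgroup G)

/-- An edge is good if its Schreier element lies in the subgroup. -/
def Good (e : ℕ × ℕ) : Prop :=
  rep g C e.1 * letter g e.2 * (rep g C (C.next e.1 e.2))⁻¹ ∈ H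

theorem good_withRev {c l : ℕ} (h : Good g C H (c, l)) : ∀ e ∈ C.withRev c l, Good g C H e := by
  intro e he
  rw [Cert.withRev] at he
  split at he
  · rename_i hb
    simp only [List.mem_cons, List.not_mem_nil, or_false] at he
    rcases he with rfl | rfl
    · exact h
    · have := inv_mem h
      simpa [Good, hb, letter_flipL, mul_assoc] using this
  · rw [List.mem_singleton.mp he]
    exact h

theorem path_mem {K : List (ℕ × ℕ)} (hK : ∀ e ∈ K, Good g C H e) :
    ∀ (w : List ℕ) (c : ℕ), C.allKnown K c w = true →
      rep g C c * wval g w * (rep g C (C.endAt c w))⁻¹ ∈ H := by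
  intro w
  induction w with
  | nil => intro c _; simp [wval, Cert.endAt]
  | cons l w ih =>
    intro c h
    rw [Cert.allKnown, Bool.and_eq_true, List.contains_iff_mem] at h
    have := mul_mem (hK _ h.1) (ih _ h.2)
    simpa [Good, wval, Cert.endAt, mul_assoc] using this

theorem endAt_append (u v : List ℕ) (c : ℕ) : C.endAt c (u ++ v) = C.endAt (C.endAt c u) v := by
  induction u generalizing c with
  | nil => rfl
  | cons l u ih => exact ih _

theorem good_start (hsub : ∀ l ∈ C.sub, letter g l ∈ H) : ∀ e ∈ C.start, Good g C H e := by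
  intro e he
  simp only [Cert.start, List.mem_append, List.mem_flatMap, List.mem_range] at he
  rcases he with ⟨l, hl, he⟩ | ⟨j, hj, he⟩
  · split at he
    · rename_i hb
      refine good_withRev g C H ?_ e he
      simpa [Good, hb, rep] using hsub l hl
    · exact absurd he List.not_mem_nil
  · split at he
    · rename_i hb
      refine good_withRev g C H ?_ e he
      rw [Good, hb.2]
      conv in rep g C (j + 1) => rw [rep, dif_pos hb.1]
      simp
    · exact absurd he List.not_mem_nil

theorem good_step (hrel : ∀ r ∈ C.rels, wval g r = 1) {K : List (ℕ × ℕ)}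
    (hK : ∀ e ∈ K, Good g C H e) (s : ℕ × ℕ × ℕ) : ∀ e ∈ C.step K s, Good g C H e := by
  intro e he
  obtain ⟨c, r, p⟩ := s
  simp only [Cert.step] at he
  split at he
  swap
  · exact hK e he
  rename_i hb
  obtain ⟨hp, hend, h1, h2⟩ := hb
  rcases List.mem_append.mp he with he | he
  swap
  · exact hK e he
  refine good_withRev g C H ?_ e he
  set w := C.rels.getD r [] with hw
  have hw1 : wval g w = 1 := by
    rcases lt_or_ge r C.rels.length with h | h
    · rw [hw, List.getD_eq_getElem _ _ h]
      exact hrel _ (List.getElem_mem h)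
    · rw [hw, List.getD_eq_default _ _ h, wval]
  have hsplit : w = w.take p ++ w.getD p 0 :: w.drop (p + 1) := by
    rw [List.getD_eq_getElem _ _ hp, List.getElem_cons_drop hp, List.take_append_drop]
  have a := path_mem g C H hK _ _ h1
  have b := path_mem g C H hK _ _ h2
  have hc : C.endAt (C.next (C.endAt c (w.take p)) (w.getD p 0)) (w.drop (p + 1)) = c := by
    rw [hsplit, endAt_append, Cert.endAt] at hend
    exact hend
  rw [hc] at b
  have hv : wval g (w.take p) * (letter g (w.getD p 0) * wval g (w.drop (p + 1))) = 1 := by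
    rw [← hw1]
    conv_rhs => rw [hsplit, wval_append, wval]
  show rep g C _ * letter g (w.getD p 0) * (rep g C _)⁻¹ ∈ H
  have key := mul_mem (inv_mem a) (inv_mem b)
  convert key using 1
  have hl : letter g (w.getD p 0) = (wval g (w.take p))⁻¹ * (wval g (w.drop (p + 1)))⁻¹ := by
    exact eq_mul_inv_of_mul_eq (eq_inv_of_mul_eq_one_right hv)
  rw [hl]
  simp [mul_assoc]

theorem good_foldl (hrel : ∀ r ∈ C.rels, wval g r = 1) :
    ∀ (S : List (ℕ × ℕ × ℕ)) (K : List (ℕ × ℕ)), (∀ e ∈ K, Good g C H e) →
      ∀ e ∈ S.foldl C.step K, Good g C H e := by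
  intro S
  induction S with
  | nil => exact fun K hK => hK
  | cons s S ih => exact fun K hK => ih _ (good_step g C H hrel hK s)

/-- The cosets of the representatives exhaust the group. -/
theorem exists_coset (hgen : Subgroup.closure {x | x ∈ g} = ⊤)
    (hlen : 2 * g.length ≤ C.tab.length) (hrel : ∀ r ∈ C.rels, wval g r = 1)
    (hsub : ∀ l ∈ C.sub, letter g l ∈ H) (hcheck : C.check = true) (x : G) :
    ∃ c, c < C.n ∧ x * (rep g C c)⁻¹ ∈ H := by
  simp only [Cert.check, Bool.and_eq_true, decide_eq_true_eq, List.all_eq_true, List.mem_range,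
    List.contains_iff_mem] at hcheck
  obtain ⟨hn, hall⟩ := hcheck
  have hgood : ∀ c < C.n, ∀ l < C.tab.length,
      rep g C c * letter g l * (rep g C (C.next c l))⁻¹ ∈ H ∧ C.next c l < C.n := fun c hc l hl =>
    ⟨good_foldl g C H hrel _ _ (good_start g C H hsub) _ (hall c hc l hl).1, (hall c hc l hl).2⟩
  have hmove : ∀ y l, l < C.tab.length → (∃ c, c < C.n ∧ y * (rep g C c)⁻¹ ∈ H) →
      ∃ c, c < C.n ∧ y * letter g l * (rep g C c)⁻¹ ∈ H := by
    rintro y l hl ⟨c, hc, hy⟩
    refine ⟨C.next c l, (hgood c hc l hl).2, ?_⟩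
    have := mul_mem hy (hgood c hc l hl).1
    simpa [mul_assoc] using this
  have hx : x ∈ Subgroup.closure {x | x ∈ g} := hgen ▸ Subgroup.mem_top x
  induction hx using Subgroup.closure_induction_right with
  | one => exact ⟨0, hn, by simp [rep]⟩
  | mul_right y z _ hz ih =>
    obtain ⟨i, hi, rfl⟩ := List.getElem_of_mem hz
    have := hmove y (2 * i) (by omega) ih
    have e : letter g (2 * i) = g[i] := by
      simp [letter, Nat.mul_div_cancel_left, List.getD_eq_getElem _ _ hi, List.getElem?_eq_getElem hi]
    rwa [e] at this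
  | mul_inv_cancel y z _ hz ih =>
    obtain ⟨i, hi, rfl⟩ := List.getElem_of_mem hz
    have := hmove y (2 * i + 1) (by omega) ih
    have e : letter g (2 * i + 1) = g[i]⁻¹ := by
      simp [letter, show (2 * i + 1) / 2 = i by omega, Nat.add_mod, List.getD_eq_getElem _ _ hi, List.getElem?_eq_getElem hi]
    rwa [e] at this

/-- The bound on the order. -/
theorem card_le (hgen : Subgroup.closure {x | x ∈ g} = ⊤)
    (hlen : 2 * g.length ≤ C.tab.length) (hrel : ∀ r ∈ C.rels, wval g r = 1)
    (hsub : ∀ l ∈ C.sub, letter g l ∈ H) (hcheck : C.check = true) [Finite H] :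
    Finite G ∧ Nat.card G ≤ C.n * Nat.card H := by
  have hs : Function.Surjective fun q : Fin C.n × H => (q.2 : G) * rep g C q.1 := fun x => by
    obtain ⟨c, hc, hx⟩ := exists_coset g C H hgen hlen hrel hsub hcheck x
    exact ⟨(⟨c, hc⟩, ⟨_, hx⟩), by simp [mul_assoc]⟩
  haveI := Finite.of_surjective _ hs
  refine ⟨this, (Nat.card_le_card_of_surjective _ hs).trans_eq ?_⟩
  rw [Nat.card_prod, Nat.card_fin]

end Cfsg.Agent.TableCert
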